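import Groth.Agent.AVEuler.Point
import Groth.Agent.AVVanish.Skyscraper
import Groth.Agent.Nakai.ProjEuler
import Groth.Agent.AVDegPoly.VolCl
import Groth.Agent.Lib.CurveTensor
import Groth.Agent.H9DefoSh.Torsor

/-! The Euler characteristic of an exterior product with an acyclic factor. -/

set_option autoImplicit false
set_option backward.isDefEq.respectTransparency false
set_option linter.style.haveILetI false
set_option maxHeartbeats 1000000

universe u

open CategoryTheory CategoryTheory.Limits AlgebraicGeometry MonoidalCategory CartesianMonoidalCategory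

attribute [-instance] CategoryTheory.catToReflQuiver

namespace Groth.Agent.AVEuler

open scoped Groth.Agent.H23.PicMul

variable {k : Type u} [Field k]

/-- a finite decomposition of a module, as an isomorphism with a coproduct -/
theorem nonempty_iso_sigma {C : Type*} [Category C] [Preadditive C] {n : ℕ} {M A : C} [HasCoproduct fun _ : Fin n => A]
    (φ : Fin n → (A ⟶ M)) (ψ : Fin n → (M ⟶ A)) (hsum : ∑ j, ψ j ≫ φ j = 𝟙 M) (hid : ∀ j, φ j ≫ ψ j = 𝟙 _)
    (horth : ∀ i j, i ≠ j → φ i ≫ ψ j = 0) : Nonempty (M ≅ ∐ fun _ : Fin n => A) := by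
  classical
  refine ⟨{
    hom := ∑ j, ψ j ≫ Sigma.ι (fun _ : Fin n => A) j
    inv := Sigma.desc φ
    hom_inv_id := ?_
    inv_hom_id := ?_ }⟩
  · rw [Preadditive.sum_comp]
    simp only [Category.assoc, Sigma.ι_desc]
    exact hsum
  · refine Sigma.hom_ext _ _ fun i => ?_
    rw [Sigma.ι_desc_assoc, Preadditive.comp_sum, Finset.sum_eq_single i, reassoc_of% (hid i), Category.comp_id]
    · intro j _ hj
      rw [reassoc_of% (horth i j hj.symm), zero_comp]
    · simp

/-- twisting an additive invariant -/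
theorem additive_twist {X : Scheme.{u}} [IsLocallyNoetherian X] {φ : X.Modules → ℤ} (hφ : HilbPoly.Additive φ)
    {E : X.Modules} (hE : PicF.IsInvertible E) : HilbPoly.Additive fun N => φ (CohB1.tensorMod E N) where
  iso M N h := hφ.iso _ _ ⟨(DCoh.tensorBi.obj E).mapIso h.some⟩
  add S hS h₁ h₂ h₃ := hφ.add (S.map (DCoh.tensorBi.obj E))
    (CurveTensor.shortExact_tensor (ParaFX.FlatDesc.isFinLocFree_of_invertible hE) S.f S.g S.zero hS)
    (AmpleVan.isCoh_tensor (AmpleVan.isCoh_invertible hE) h₁)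
    (AmpleVan.isCoh_tensor (AmpleVan.isCoh_invertible hE) h₂)
    (AmpleVan.isCoh_tensor (AmpleVan.isCoh_invertible hE) h₃)

theorem subsingleton_Γ_top_of_HH (X : Over (Spec (CommRingCat.of k))) [IsProper X.hom] {L : X.left.Modules}
    (hL : Coh.IsQCoh L) (i : ℕ) (h : Subsingleton (Coh.HH X.left L i)) :
    Subsingleton Γ((Coh.Rpush X.hom i).obj L, ⊤) := by
  haveI : IsLocallyNoetherian X.left := LocallyOfFiniteType.isLocallyNoetherian X.hom
  let U : X.left.Opens := X.hom ⁻¹ᵁ ⊤
  letI := QCoh.modHH (QCoh.rhoV X.hom ⊤) (L.restrict U.ι) i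
  obtain ⟨e⟩ := QCoh.nonempty_sections_HH (f := X.hom) hL (isAffineOpen_top (Spec (CommRingCat.of k))) i
  haveI : IsIso U.ι := by
    rw [show U.ι = (Scheme.topIso X.left).hom from rfl]
    infer_instance
  have hP := (AVVanish.subsingleton_HH_pullback_iff X.hom U.ι L hL i).2 h
  have hU : Subsingleton (Coh.HH (U : Scheme.{u}) (L.restrict U.ι) i) :=
    QCoh.subsingleton_HH_of_iso ((Scheme.Modules.restrictFunctorIsoPullback U.ι).app L).symm i hP
  exact e.toEquiv.subsingleton

theorem isZero_of_subsingleton_top {M : (Spec (CommRingCat.of k)).Modules} (hM : Coh.IsCoh M)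
    (h : Subsingleton Γ(M, ⊤)) : IsZero M := by
  obtain ⟨n, φ, ψ, hsum, hid, -⟩ := exists_free.exists_basis M hM
  rw [IsZero.iff_id_eq_zero, ← hsum]
  refine Finset.sum_eq_zero fun j _ => ?_
  have hz : φ j = 0 := by
    refine Scheme.Modules.hom_ext _ _ fun V => ?_
    ext r
    refine (InvX.app_eq_smul (φ j) r).trans ?_
    rw [show InvX.one (φ j) = 0 from @Subsingleton.elim _ h _ _, map_zero, smul_zero]
    rfl
  rw [hz, comp_zero]

variable (Y : Over (Spec (CommRingCat.of k))) [IsProper Y.hom]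

/-- exterior products with an acyclic factor -/
theorem exists_euler_box (G : Y.left.Modules) (hG : PicF.IsInvertible G)
    (hvan : ∀ i, Subsingleton (Coh.HH Y.left G (i + 1))) :
    ∃ m : ℕ, ∀ (X : Over (Spec (CommRingCat.of k))) [IsProper X.hom] [X.left.Over (Spec (CommRingCat.of k))]
      [(X ⊗ Y).left.Over (Spec (CommRingCat.of k))], X.left ↘ Spec (CommRingCat.of k) = X.hom →
      (X ⊗ Y).left ↘ Spec (CommRingCat.of k) = (X ⊗ Y).hom → ∀ E : X.left.Modules, PicF.IsInvertible E →
      Curv2.euler k (X ⊗ Y).left (CohB1.tensorMod ((Scheme.Modules.pullback (fst X Y).left).obj E)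
        ((Scheme.Modules.pullback (snd X Y).left).obj G)) = m * Curv2.euler k X.left E := by
  haveI : IsLocallyNoetherian Y.left := LocallyOfFiniteType.isLocallyNoetherian Y.hom
  have hGc : Coh.IsCoh G := AmpleVan.isCoh_invertible hG
  have hR : ∀ i, Coh.IsCoh ((Coh.Rpush Y.hom i).obj G) := fun i =>
    QCoh.isCoh_Rpush_of_finiteness (f := Y.hom) hGc i fun A _ _ Z _ _ N hN n => S0002.result A Z N hN n
  obtain ⟨m, φ, ψ, hsum, hid, horth⟩ := exists_free.exists_basis _ (hR 0)
  refine ⟨m, fun X => ?_⟩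
  intro _ _ _ hX hXY E hE
  haveI : Flat X.hom := inferInstance
  haveI : IsLocallyNoetherian X.left := LocallyOfFiniteType.isLocallyNoetherian X.hom
  haveI : IsProper (X ⊗ Y).hom := inferInstanceAs (IsProper (pullback.fst X.hom Y.hom ≫ X.hom))
  haveI : IsProper (X.left ↘ Spec (CommRingCat.of k)) := hX.symm ▸ inferInstance
  haveI : IsProper ((X ⊗ Y).left ↘ Spec (CommRingCat.of k)) := hXY.symm ▸ inferInstance
  haveI := CurveCohLib.isNoetherian_of_proper (k := k) (X := X.left)
  let p := (fst X Y).left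
  let q := (snd X Y).left
  haveI : IsProper p := inferInstanceAs (IsProper (pullback.fst X.hom Y.hom))
  haveI : IsLocallyNoetherian (X ⊗ Y).left := LocallyOfFiniteType.isLocallyNoetherian p
  let N := CohB1.tensorMod ((Scheme.Modules.pullback p).obj E) ((Scheme.Modules.pullback q).obj G)
  have hN : Coh.IsQCoh N := KFlatLib.isQCoh_tensor (ProjUPX.isQCoh_of_isInvertible (PicClLib.isInvertible_pullback p hE))
    (ProjUPX.isQCoh_of_isInvertible (PicClLib.isInvertible_pullback q hG))
  have sq : IsPullback q p Y.hom X.hom := (IsPullback.of_hasPullback X.hom Y.hom).flip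
  let T : (Spec (CommRingCat.of k)).Modules ⥤ X.left.Modules :=
    Scheme.Modules.pullback X.hom ⋙ DCoh.tensorBi.obj E
  have hiso : ∀ i, Nonempty ((Coh.Rpush p i).obj N ≅ T.obj ((Coh.Rpush Y.hom i).obj G)) := fun i => by
    haveI := PPSheaf.preservesFiniteLimits_pullback X.hom
    haveI : Flat q := inferInstanceAs (Flat (pullback.snd X.hom Y.hom))
    haveI := PPSheaf.preservesFiniteLimits_pullback q
    haveI := CohBC.isIso_bcQ (f := Y.hom) (g := X.hom) (f' := p) (g' := q) sq G hGc.1 i
    let e1 := asIso (CohBC.bcQ Y.hom X.hom p q sq.w i G)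
    obtain ⟨e2⟩ := S0927.result p ((Scheme.Modules.pullback q).obj G) E (ParaFX.FlatDesc.isFinLocFree_of_invertible hE) i
    exact ⟨e2.symm ≪≫ ((DCoh.tensorBi.obj E).mapIso e1).symm⟩
  haveI : T.Additive := by
    haveI : (DCoh.tensorBi.obj E).Additive := inferInstanceAs ((DCoh.tensorBi (X := X.left)).obj E).Additive
    exact inferInstanceAs (Scheme.Modules.pullback X.hom ⋙ DCoh.tensorBi.obj E).Additive
  have hzero : ∀ i, IsZero ((CohTop.Rpush p.base (i + 1)).obj (Coh.toAb N)) := fun i => by
    have h0 : IsZero ((Coh.Rpush Y.hom (i + 1)).obj G) :=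
      isZero_of_subsingleton_top (hR _) (subsingleton_Γ_top_of_HH Y hGc.1 _ (hvan i))
    exact (AVVanish.isZero_toAb ((T.map_isZero h0).of_iso (hiso (i + 1)).some)).of_iso
      (AVVanish.nonempty_toAb_Rpush p N (i + 1)).some
  have hp : p ≫ (X.left ↘ Spec (CommRingCat.of k)) = (X ⊗ Y).left ↘ Spec (CommRingCat.of k) := by
    rw [hX, hXY]; exact Over.w (fst X Y)
  have hpush : Curv2.euler k (X ⊗ Y).left N = Curv2.euler k X.left ((Coh.push p).obj N) :=
    finsum_congr fun i => by
      rw [(PnCoh.nonempty_linearEquiv_of_natPushEquiv k p hp N i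
        (Nakai.natPushEquiv_of_Rpush_isZero p.base (QCoh.abSheaf N) hzero i)).some.finrank_eq]
  haveI := SpObjSS.enoughInjectives_of_hasInjectiveResolutions (C := (X ⊗ Y).left.Modules)
  haveI := QCoh.preservesFiniteLimits_push p
  obtain ⟨u⟩ := H23.PicMul.unit E
  let δ := (DCoh.tensorBi.obj E).mapIso (PicClLib.nonempty_pullback_structureModule X.hom).some
  obtain ⟨e3⟩ := nonempty_iso_sigma (fun j => T.map (φ j)) (fun j => T.map (ψ j))
    (by simp only [← T.map_comp, ← T.map_sum, hsum, T.map_id])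
    (fun j => by rw [← T.map_comp, hid j, T.map_id])
    (fun i j hij => by rw [← T.map_comp, horth i j hij, T.map_zero])
  let e4 : (Coh.push p).obj N ≅ ∐ fun _ : Fin m => T.obj (Coh.structureModule (Spec (CommRingCat.of k))) :=
    ((Scheme.Modules.pushforward p).rightDerivedZeroIsoSelf.app N).symm ≪≫ (hiso 0).some ≪≫ e3
  let e5 : (∐ fun _ : Fin m => T.obj (Coh.structureModule (Spec (CommRingCat.of k)))) ≅
      CohB1.tensorMod E (FlatMod.freeMod X.left m) := by
    haveI : (DCoh.tensorBi.obj E).Additive := inferInstanceAs ((DCoh.tensorBi (X := X.left)).obj E).Additive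
    exact (Sigma.mapIso fun _ => δ) ≪≫
      (PreservesCoproduct.iso (DCoh.tensorBi.obj E) fun _ : Fin m => Coh.structureModule X.left).symm
  rw [hpush, (HilbPoly.additive_euler (k := k)).iso _ _ ⟨e4 ≪≫ e5⟩,
    (AVDegPoly.additive_freeMod (additive_twist (HilbPoly.additive_euler (k := k)) hE) m).2]
  exact congrArg _ ((HilbPoly.additive_euler (k := k)).iso _ _ ⟨u⟩)

end Groth.Agent.AVEuler
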