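import Groth.Agent.AVEuler.Homogeneous
import Groth.Agent.CohBasic.EulerBC
import Groth.Agent.FibDim.BaseField

/-! Homogeneity of the Euler characteristic over an arbitrary field. -/

noncomputable section

set_option autoImplicit false
set_option backward.isDefEq.respectTransparency false
set_option linter.style.haveILetI false
set_option maxHeartbeats 1000000

universe u

open CategoryTheory CategoryTheory.Limits AlgebraicGeometry MonoidalCategory CartesianMonoidalCategory
open scoped MonObj

attribute [-instance] CategoryTheory.catToReflQuiver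

namespace Groth.Agent.AVEuler

open H23 AVDegPoly
open scoped Groth.Agent.H23.PicMul

variable {k : Type u} [Field k] (X : Over (Spec (CommRingCat.of k))) [GrpObj X] [IsProper X.hom]
  [GeometricallyIntegral X.hom]

/-- `χ(L ^ n) = n ^ g χ(L)` over any field. -/
theorem euler_tensorPow {g : ℕ} (hg : topologicalKrullDim X.left = g) {L : X.left.Modules}
    (hL : PicF.IsInvertible L) (n : ℕ) :
    @Curv2.euler k _ X.left ⟨X.hom⟩ (CohB1.tensorPow L n) = (n : ℤ) ^ g * @Curv2.euler k _ X.left ⟨X.hom⟩ L := by
  letI : X.left.Over (Spec (CommRingCat.of k)) := ⟨X.hom⟩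
  haveI : IsProper (X.left ↘ Spec (CommRingCat.of k)) := inferInstanceAs (IsProper X.hom)
  let K := AlgebraicClosure k
  let σ := Spec.map (CommRingCat.ofHom (algebraMap k K))
  let Y := (Over.pullback σ).obj X
  letI : GrpObj Y := Functor.grpObjObj
  haveI : IsProper Y.hom := inferInstanceAs (IsProper (pullback.snd X.hom σ))
  haveI : GeometricallyIntegral Y.hom := inferInstanceAs (GeometricallyIntegral (pullback.snd X.hom σ))
  have hgY : topologicalKrullDim Y.left = g := by
    rw [← hg]
    exact FibDim.topologicalKrullDim_baseChange (IsPullback.of_hasPullback X.hom σ)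
  let p : Y.left ⟶ X.left := Curv2.bcFst k X.left K
  have hbc : ∀ m : ℕ, chi Y (PicMul.pullHom p (PicF.cl L) ^ m) = Curv2.euler k X.left (CohB1.tensorPow L m) := fun m => by
    rw [← CohBasic.euler_bc k X.left K (ProjUPX.isQCoh_of_isInvertible (InvX.isInvertible_tensorPow hL m)),
      ← map_pow, ← H23.PicMul.cl_tensorPow]
    rfl
  have hc : PicF.IsInvertibleCl (PicMul.pullHom p (PicF.cl L)) := ⟨_, rfl, PicClLib.isInvertible_pullback p hL⟩
  have key := chi_zpow hgY (u := (PicMul.isUnit_of_isInvertibleCl hc).unit) hc (n : ℤ)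
  rw [zpow_natCast, Units.val_pow_eq_pow_val, IsUnit.unit_spec, hbc n, ← pow_one (PicMul.pullHom p (PicF.cl L)),
    hbc 1] at key
  rw [key]
  congr 1
  exact (HilbPoly.additive_euler k).iso _ _ (H23.PicMul.cl_eq_iff.1 (by rw [H23.PicMul.cl_tensorPow, pow_one]))

end Groth.Agent.AVEuler

end
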