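import Groth.Agent.AVVanish.Fibre
import Groth.Agent.AmpleVan.Uniform
import Groth.Agent.HilbPoly.Poly

/-! The fibre rank at a rational point as an Euler characteristic. -/

noncomputable section

set_option autoImplicit false
set_option backward.isDefEq.respectTransparency false
set_option linter.style.haveILetI false
set_option maxHeartbeats 800000

universe u

open CategoryTheory CategoryTheory.Limits AlgebraicGeometry

attribute [-instance] CategoryTheory.catToReflQuiver

namespace Groth.Agent.AVEuler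

variable {k : Type u} [Field k]

theorem fiberRank_eq_finrank {X Y Z : Scheme.{u}} {f : X ⟶ Y} {σ : Z ⟶ X} [Z.Over (Spec (CommRingCat.of k))]
    [IsProper (Z ↘ Spec (CommRingCat.of k))] [IsProper f] {u : Spec (CommRingCat.of k) ⟶ Y}
    (h : IsPullback σ (Z ↘ Spec (CommRingCat.of k)) f u) (ρ : Y ⟶ Spec (CommRingCat.of k))
    (hu : u ≫ ρ = 𝟙 _) {N : X.Modules} (hN : Coh.IsQCoh N) (n : ℕ) :
    CohIII.fiberRank f N n (u (IsLocalRing.closedPoint k)) =
      Module.finrank k (Coh.HH Z ((Scheme.Modules.pullback σ).obj N) n) := by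
  let y := u (IsLocalRing.closedPoint k)
  let gr : Spec (Y.residueField y) ⟶ Spec (CommRingCat.of k) := Y.fromSpecResidueField y ≫ ρ
  let dr : Spec (CommRingCat.of k) ⟶ Spec (Y.residueField y) :=
    Spec.map (Scheme.descResidueField (Scheme.stalkClosedPointTo u))
  have hdr : dr ≫ Y.fromSpecResidueField y = u := Scheme.descResidueField_stalkClosedPointTo_fromSpecResidueField _ _ u
  have h1 : dr ≫ gr = 𝟙 _ := by rw [← Category.assoc, hdr, hu]
  let φ := Scheme.descResidueField (Scheme.stalkClosedPointTo u)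
  let ψ : CommRingCat.of k ⟶ Y.residueField y := Spec.preimage gr
  have h2 : ψ ≫ φ = 𝟙 _ := Spec.map_injective (by
    rw [Spec.map_comp, Spec.map_id, Spec.map_preimage]
    exact h1)
  haveI : IsIso φ := (ConcreteCategory.isIso_iff_bijective φ).2
    ⟨φ.hom.injective, fun x => ⟨ψ x, by
      rw [← ConcreteCategory.comp_apply, h2]; rfl⟩⟩
  haveI : IsIso dr := inferInstanceAs (IsIso (Spec.map φ))
  have hgr0 : gr = inv dr := by rw [← cancel_epi dr, h1, IsIso.hom_inv_id]
  haveI : IsIso gr := by rw [hgr0]; infer_instance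
  have hgr : gr ≫ u = Y.fromSpecResidueField y := by
    rw [← hdr, hgr0, IsIso.inv_hom_id_assoc]
  have sq : IsPullback (f.fiberι y) (f.fiberToSpecResidueField y ≫ gr) f u :=
    (IsPullback.of_hasPullback f (Y.fromSpecResidueField y)).of_iso (Iso.refl _) (Iso.refl _) (asIso gr)
      (Iso.refl _) (by simp [Scheme.Hom.fiberι]) (by simp [Scheme.Hom.fiberToSpecResidueField]) (by simp)
      (by simp [hgr])
  let θ : f.fiber y ⟶ Z := (sq.isoIsPullback _ _ h).hom
  have hθ : θ ≫ σ = f.fiberι y := sq.isoIsPullback_hom_fst _ _ h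
  have hθ' : θ ≫ (Z ↘ Spec (CommRingCat.of k)) = f.fiberToSpecResidueField y ≫ gr := sq.isoIsPullback_hom_snd _ _ h
  let e : (Scheme.Modules.pullback (f.fiberι y)).obj N ≅
      (Scheme.Modules.pullback θ).obj ((Scheme.Modules.pullback σ).obj N) :=
    (Scheme.Modules.pullbackCongr hθ).symm.app N ≪≫ ((Scheme.Modules.pullbackComp θ σ).app N).symm
  -- the residue field as an algebra over the ground field
  letI : Algebra k (Y.residueField y) := ψ.hom.toAlgebra
  have hψ : Spec.map (CommRingCat.ofHom (algebraMap k (Y.residueField y))) = gr := Spec.map_preimage gr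
  letI : (f.fiber y).Over (Spec (CommRingCat.of (Y.residueField y : Type u))) := ⟨f.fiberToSpecResidueField y⟩
  haveI : IsProper (f.fiberToSpecResidueField y) :=
    inferInstanceAs (IsProper (pullback.snd f (Y.fromSpecResidueField y)))
  haveI : IsProper ((f.fiber y) ↘ Spec (CommRingCat.of (Y.residueField y : Type u))) :=
    inferInstanceAs (IsProper (f.fiberToSpecResidueField y))
  have hpb : IsPullback θ ((f.fiber y) ↘ Spec (CommRingCat.of (Y.residueField y : Type u)))
      (Z ↘ Spec (CommRingCat.of k)) (Spec.map (CommRingCat.ofHom (algebraMap k (Y.residueField y)))) := by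
    haveI : IsIso (Spec.map (CommRingCat.ofHom (algebraMap k (Y.residueField y)))) := by rw [hψ]; infer_instance
    refine IsPullback.of_horiz_isIso ⟨?_⟩
    rw [hψ]
    exact hθ'
  haveI : CompactSpace Z := AmpleVan.compactSpace_of_proper (A := k) (X := Z)
  haveI : Z.IsSeparated := AmpleVan.isSeparated_of_proper (A := k) (X := Z)
  obtain ⟨l⟩ := QCoh.nonempty_HH_flat_bc (A := k) (B := (Y.residueField y : Type u)) θ hpb
    (QCoh.isQCoh_pullback σ hN) n
  show Module.finrank (Y.residueField y) (Coh.HH (f.fiber y) ((Scheme.Modules.pullback (f.fiberι y)).obj N) n) = _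
  have he := HilbPoly.finrank_HH_iso (Y.residueField y : Type u) e n
  rw [l.finrank_eq, Module.finrank_baseChange] at he
  exact he

/-- When the higher cohomology of a fibre vanishes, its rank is the Euler characteristic. -/
theorem fiberRank_eq_euler {X Y Z : Scheme.{u}} {f : X ⟶ Y} {σ : Z ⟶ X} [Z.Over (Spec (CommRingCat.of k))]
    [IsProper (Z ↘ Spec (CommRingCat.of k))] [IsProper f] {u : Spec (CommRingCat.of k) ⟶ Y}
    (h : IsPullback σ (Z ↘ Spec (CommRingCat.of k)) f u) (ρ : Y ⟶ Spec (CommRingCat.of k))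
    (hu : u ≫ ρ = 𝟙 _) {N : X.Modules} (hN : Coh.IsQCoh N)
    (hc : ∀ i : ℕ, i ≠ 0 → Subsingleton (CohIII.fiberH f N (u (IsLocalRing.closedPoint k)) i)) :
    (CohIII.fiberRank f N 0 (u (IsLocalRing.closedPoint k)) : ℤ) =
      Curv2.euler k Z ((Scheme.Modules.pullback σ).obj N) := by
  rw [fiberRank_eq_finrank h ρ hu hN 0]
  refine ((finsum_eq_single _ 0 fun i hi => ?_).trans (by rw [pow_zero, one_mul])).symm
  haveI := hc i hi
  rw [← fiberRank_eq_finrank h ρ hu hN i]
  show (-1 : ℤ) ^ i * ((Module.finrank _ (CohIII.fiberH f N (u (IsLocalRing.closedPoint k)) i) : ℕ) : ℤ) = 0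
  rw [Module.finrank_zero_of_subsingleton, Nat.cast_zero, mul_zero]

end Groth.Agent.AVEuler

end
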