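import Groth.Agent.KZ.RankNilp
import Groth.Agent.HilbPoly.Poly
import Groth.Agent.Lib.CurveTensor
import Groth.Agent.KFlatLib.Perfect.LocFree
import Groth.Agent.QCoh.DevissageP
import Groth.Agent.PnCoh.PushNat
import Groth.Agent.S0927
import Groth.Agent.PPSheaf.FlatPr
import Groth.Agent.ZClosLib.CohDescent
import Groth.Agent.S0017

/-!
# Euler characteristics and finite flat covers splitting a locally free module

A bundle which becomes free of rank `d` on a finite flat cover multiplies all Euler characteristics by `d`.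
-/

noncomputable section

set_option autoImplicit false
set_option linter.style.haveILetI false
set_option linter.unusedSectionVars false
set_option backward.isDefEq.respectTransparency false
set_option backward.isDefEq.respectTransparency.types false

universe u

open CategoryTheory CategoryTheory.Limits AlgebraicGeometry TopologicalSpace MonoidalCategory

namespace Groth.Agent.AVEuler

open Groth.Agent

variable {X : Scheme.{u}}

/-- An additive invariant as a homomorphism on the Grothendieck group of coherent modules. -/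
def kHom {φ : X.Modules → ℤ} (hφ : HilbPoly.Additive φ) :
    KZero.K0sub (fun M : X.Modules => Coh.IsCoh M) →+ ℤ :=
  QuotientAddGroup.lift _ (FreeAbelianGroup.lift fun N => φ N.1) (by
    refine (AddSubgroup.closure_le _).2 ?_
    rintro _ ⟨S, h₁, h₂, h₃, hS, rfl⟩
    rw [SetLike.mem_coe, AddMonoidHom.mem_ker, map_sub, map_sub, FreeAbelianGroup.lift_apply_of,
      FreeAbelianGroup.lift_apply_of, FreeAbelianGroup.lift_apply_of]
    show φ S.X₂ - φ S.X₁ - φ S.X₃ = 0
    rw [hφ.add S hS h₁ h₂ h₃]
    ring)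

theorem kHom_clSub {φ : X.Modules → ℤ} (hφ : HilbPoly.Additive φ) {M : X.Modules} (hM : Coh.IsCoh M) :
    kHom hφ (KZero.clSub (fun M : X.Modules => Coh.IsCoh M) M) = φ M := by
  rw [KZ.clSub_of_prop (fun M : X.Modules => Coh.IsCoh M) hM]
  exact FreeAbelianGroup.lift_apply_of _ _

variable [IsNoetherian X]

theorem apply_sigma {φ : X.Modules → ℤ} (hφ : HilbPoly.Additive φ) {M : X.Modules} (hM : Coh.IsCoh M) (d : ℕ) :
    φ (∐ fun _ : Fin d => M) = d * φ M := by
  obtain ⟨hc, -, hcl⟩ := KZ.RankNilp.sigma_const hM d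
  rw [← kHom_clSub hφ hc, hcl, map_nsmul, kHom_clSub hφ hM, nsmul_eq_mul]

/-- An additive invariant killed by twisting with a bundle of nonzero rank is zero. -/
theorem eq_zero_of_tensor_eq_zero {φ : X.Modules → ℤ} (hφ : HilbPoly.Additive φ) {V : X.Modules} {r : ℕ}
    (hr : r ≠ 0) (hV : FlatMod.IsFinLocFreeOfRank r V)
    (h : ∀ M, Coh.IsCoh M → φ ((DCoh.tensorBi.obj V).obj M) = 0) {M : X.Modules} (hM : Coh.IsCoh M) : φ M = 0 := by
  classical
  have hV' := hV
  choose U hxU he using hV'
  obtain ⟨F, hF⟩ := isCompact_univ.elim_finite_subcover (fun x : X => (U x : Set X)) (fun x => (U x).2)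
    fun x _ => Set.mem_iUnion.2 ⟨x, hxU x⟩
  have step : ∀ (x : X) (C : Set X),
      (∀ M, Coh.IsCoh M → CohB1.support M ⊆ C ∩ (U x : Set X)ᶜ → φ M = 0) →
      ∀ M, Coh.IsCoh M → CohB1.support M ⊆ C → φ M = 0 := by
    intro x C hC M hM hs
    have hker : KZ.RankNilp.S (C ∩ (U x : Set X)ᶜ) ≤ (kHom hφ).ker := (AddSubgroup.closure_le _).2 <| by
      rintro _ ⟨N, hN, hNs, rfl⟩
      exact (kHom_clSub hφ hN).trans (hC N hN hNs)
    have := AddMonoidHom.mem_ker.1 (hker (KZ.RankNilp.tensor_step (U x) hV (he x).some hM hs))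
    have ht : kHom hφ (KZero.clSub (fun M : X.Modules => Coh.IsCoh M) ((DCoh.tensorBi.obj (V)).obj M)) =
        φ ((DCoh.tensorBi.obj V).obj M) := kHom_clSub hφ (KZ.CycleClass.isCoh_tensor_rank hV hM)
    rw [map_sub, map_nsmul, ht, kHom_clSub hφ hM, h M hM, zero_sub,
      neg_eq_zero, nsmul_eq_mul, mul_eq_zero] at this
    exact this.resolve_left (by exact_mod_cast hr)
  have all : ∀ (T : Finset X) (C : Set X),
      (∀ M, Coh.IsCoh M → CohB1.support M ⊆ C ∩ (⋂ x ∈ T, (U x : Set X)ᶜ) → φ M = 0) →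
      ∀ M, Coh.IsCoh M → CohB1.support M ⊆ C → φ M = 0 := by
    intro T
    induction T using Finset.induction with
    | empty =>
      intro C hC M hM hs
      exact hC M hM fun y hy => ⟨hs hy, Set.mem_iInter₂.2 fun x hx => absurd hx (Finset.notMem_empty x)⟩
    | @insert a T _ ih =>
      intro C hC
      refine step a C (ih _ fun M hM hs => hC M hM ?_)
      rwa [Finset.set_biInter_insert, ← Set.inter_assoc]
  refine all F Set.univ (fun N hN hNs => ?_) M hM (Set.subset_univ _)
  refine hφ.zero_of_isZero (CurveCohLib.isZero_of_subsingleton_stalks fun y => not_not.1 fun hy => ?_)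
  obtain ⟨x, hx, hyx⟩ := Set.mem_iUnion₂.1 (hF (Set.mem_univ y))
  exact Set.mem_iInter₂.1 (hNs hy).2 x hx hyx

omit [AlgebraicGeometry.IsNoetherian X] in
theorem isCoh_push_of_finite {Z : Scheme.{u}} (π : Z ⟶ X) [IsFinite π] {M : Z.Modules} (hM : Coh.IsCoh M) :
    Coh.IsCoh ((Scheme.Modules.pushforward π).obj M) := QCoh.isCoh_pushforward_finite π hM

variable (k : Type u) [Field k] [X.Over (Spec (CommRingCat.of k))] [IsProper (X ↘ Spec (CommRingCat.of k))]
  {Z : Scheme.{u}} [Z.Over (Spec (CommRingCat.of k))] [IsProper (Z ↘ Spec (CommRingCat.of k))]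

omit [AlgebraicGeometry.IsNoetherian X] [IsProper (X ↘ Spec (CommRingCat.of k))] [IsProper (Z ↘ Spec (CommRingCat.of k))] in
theorem euler_push (π : Z ⟶ X) [IsAffineHom π] (hπ : π ≫ (X ↘ Spec (CommRingCat.of k)) = Z ↘ Spec (CommRingCat.of k))
    {M : Z.Modules} (hM : Coh.IsQCoh M) :
    Curv2.euler k X ((Scheme.Modules.pushforward π).obj M) = Curv2.euler k Z M :=
  finsum_congr fun i => by
    obtain ⟨e⟩ := PnCoh.exists_linearEquiv_push k π hπ hM i
    rw [show Module.finrank k (Coh.HH Z M i) = _ from e.finrank_eq]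

omit [AlgebraicGeometry.IsNoetherian X] in
/-- twisting a direct image by a bundle -/
theorem nonempty_tensor_push {W : Scheme.{u}} (i : W ⟶ X) (M : W.Modules) {E : X.Modules}
    (hE : FlatMod.IsFinLocFree E) :
    Nonempty ((DCoh.tensorBi.obj E).obj ((Scheme.Modules.pushforward i).obj M) ≅
      (Scheme.Modules.pushforward i).obj ((DCoh.tensorBi.obj ((Scheme.Modules.pullback i).obj E)).obj M)) := by
  haveI := SpObjSS.enoughInjectives_of_hasInjectiveResolutions (C := W.Modules)
  obtain ⟨e⟩ := S0927.result i M E hE 0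
  let ψ := (Scheme.Modules.pushforward i).rightDerivedZeroIsoSelf
  exact ⟨(DCoh.tensorBi.obj E).mapIso (ψ.app M).symm ≪≫ e ≪≫ ψ.app _⟩

/-- Euler characteristics of flat finite pullbacks. -/
theorem euler_pullback_finite_flat (π : Z ⟶ X) [IsFinite π] [Flat π]
    (hπ : π ≫ (X ↘ Spec (CommRingCat.of k)) = Z ↘ Spec (CommRingCat.of k))
    (hP : FlatMod.IsFinLocFree ((Scheme.Modules.pushforward π).obj (Coh.structureModule Z)))
    {M : X.Modules} (hM : Coh.IsCoh M) :
    Curv2.euler k Z ((Scheme.Modules.pullback π).obj M) =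
      Curv2.euler k X ((DCoh.tensorBi.obj ((Scheme.Modules.pushforward π).obj (Coh.structureModule Z))).obj M) := by
  haveI : IsNoetherian Z := CurveCohLib.isNoetherian_of_proper (k := k)
  haveI := PPSheaf.preservesFiniteLimits_pullback π
  let P := (Scheme.Modules.pushforward π).obj (Coh.structureModule Z)
  let ψ : X.Modules → ℤ := fun M =>
    Curv2.euler k Z ((Scheme.Modules.pullback π).obj M) - Curv2.euler k X ((DCoh.tensorBi.obj P).obj M)
  have h1 : HilbPoly.Additive fun M => Curv2.euler k Z ((Scheme.Modules.pullback π).obj M) :=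
    ⟨fun M N ⟨e⟩ => (HilbPoly.additive_euler k).iso _ _ ⟨(Scheme.Modules.pullback π).mapIso e⟩,
      fun S hS a b c => (HilbPoly.additive_euler k).add (S.map (Scheme.Modules.pullback π)) (hS.map_of_exact _)
        (ZClosLib.isCoh_pullback π a) (ZClosLib.isCoh_pullback π b) (ZClosLib.isCoh_pullback π c)⟩
  have h2 : HilbPoly.Additive fun M => Curv2.euler k X ((DCoh.tensorBi.obj P).obj M) :=
    ⟨fun M N ⟨e⟩ => (HilbPoly.additive_euler k).iso _ _ ⟨(DCoh.tensorBi.obj P).mapIso e⟩,
      fun S hS a b c => (HilbPoly.additive_euler k).add (S.map (DCoh.tensorBi.obj P))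
        (CurveTensor.shortExact_tensor hP S.f S.g S.zero hS)
        (CurveTensor.isCoh_tensor hP a) (CurveTensor.isCoh_tensor hP b) (CurveTensor.isCoh_tensor hP c)⟩
  have hψ : HilbPoly.Additive ψ := h1.sub h2
  suffices h : ψ M = 0 from sub_eq_zero.1 h
  refine QCoh.devissage (fun M => ψ M = 0) (fun M N e h => (hψ.iso M N e).symm.trans h)
    (fun M h => hψ.zero_of_isZero h) Set.univ
    (fun S hS a b c _ e₁ e₃ => by rw [hψ.add S hS a b c, e₁, e₃, add_zero]) (fun ξ _ _ W i _ _ _ => ?_)
    (fun S hS a b c _ e₂ e₃ => by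
      have := hψ.add S hS a b c
      rw [e₂, e₃, add_zero] at this
      exact this.symm) hM (Set.subset_univ _)
  refine sub_eq_zero.2 ?_
  -- both sides are the Euler characteristic of the cover of `W`
  let W' := Limits.pullback π i
  let i' : W' ⟶ Z := pullback.fst π i
  let π' : W' ⟶ W := pullback.snd π i
  have sq : IsPullback i' π' π i := IsPullback.of_hasPullback π i
  haveI : IsClosedImmersion i' := MorphismProperty.pullback_fst π i inferInstance
  haveI : IsFinite π' := MorphismProperty.pullback_snd π i inferInstance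
  letI : W.Over (Spec (CommRingCat.of k)) := ⟨i ≫ (X ↘ Spec (CommRingCat.of k))⟩
  letI : W'.Over (Spec (CommRingCat.of k)) := ⟨i' ≫ (Z ↘ Spec (CommRingCat.of k))⟩
  have hπ' : π' ≫ (W ↘ Spec (CommRingCat.of k)) = W' ↘ Spec (CommRingCat.of k) := by
    show π' ≫ i ≫ (X ↘ Spec (CommRingCat.of k)) = i' ≫ (Z ↘ Spec (CommRingCat.of k))
    rw [← Category.assoc, ← sq.w, Category.assoc, hπ]
  haveI : Coh.IsQCoh (Coh.structureModule W) := QCoh.isQCoh_structureModule
  haveI : Coh.IsQCoh (Coh.structureModule Z) := QCoh.isQCoh_structureModule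
  obtain ⟨eL⟩ := S0017.result i π π' i' sq.flip (Coh.structureModule W)
  obtain ⟨eR⟩ := S0017.result π i i' π' sq (Coh.structureModule Z)
  obtain ⟨eT⟩ := nonempty_tensor_push i (Coh.structureModule W) hP
  let O' := (Scheme.Modules.pullback π').obj (Coh.structureModule W)
  have hO' : Coh.IsQCoh O' := (QCoh.isQCoh_iff_iso (PicClLib.nonempty_pullback_structureModule π').some).2
    QCoh.isQCoh_structureModule
  have hO'' : Coh.IsQCoh ((Scheme.Modules.pullback i').obj (Coh.structureModule Z)) :=
    (QCoh.isQCoh_iff_iso (PicClLib.nonempty_pullback_structureModule i').some).2 QCoh.isQCoh_structureModule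
  have hT : Coh.IsQCoh ((DCoh.tensorBi.obj ((Scheme.Modules.pullback i).obj P)).obj (Coh.structureModule W)) :=
    (CurveTensor.isCoh_tensor (KFlatLib.isFinLocFree_pullback i hP)
      (by haveI : IsNoetherian W := { __ := LocallyOfFiniteType.isLocallyNoetherian i
                                      __ := QuasiCompact.compactSpace_of_compactSpace i }
          exact QCoh.isCoh_structureModule')).1
  rw [(HilbPoly.additive_euler k).iso _ _ ⟨eL⟩]
  rw [euler_push k i' rfl hO', (HilbPoly.additive_euler k).iso _ _ ⟨eT⟩, euler_push k i rfl hT]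
  haveI : IsProper (W ↘ Spec (CommRingCat.of k)) :=
    inferInstanceAs (IsProper (i ≫ (X ↘ Spec (CommRingCat.of k))))
  haveI : IsProper (W' ↘ Spec (CommRingCat.of k)) :=
    inferInstanceAs (IsProper (i' ≫ (Z ↘ Spec (CommRingCat.of k))))
  rw [(HilbPoly.additive_euler k).iso _ _ ⟨CurveTensor.commIso _ _ ≪≫ CurveTensor.structureTensorIso _⟩,
    (HilbPoly.additive_euler k).iso _ _ ⟨eR⟩, euler_push k π' hπ' hO'']
  exact (HilbPoly.additive_euler k).iso _ _ ⟨(PicClLib.nonempty_pullback_structureModule π').some ≪≫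
    (PicClLib.nonempty_pullback_structureModule i').some.symm⟩

/-- A bundle trivialised by a finite flat cover multiplies Euler characteristics by its rank. -/
theorem euler_tensor_of_split (π : Z ⟶ X) [IsFinite π]
    {N : ℕ} (hN : N ≠ 0) (hP : FlatMod.IsFinLocFreeOfRank N ((Scheme.Modules.pushforward π).obj (Coh.structureModule Z)))
    {E : X.Modules} (hE : FlatMod.IsFinLocFree E) {d : ℕ}
    (hsplit : Nonempty ((Scheme.Modules.pullback π).obj E ≅ FlatMod.freeMod Z d))
    {M : X.Modules} (hM : Coh.IsCoh M) :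
    Curv2.euler k X ((DCoh.tensorBi.obj E).obj M) = d * Curv2.euler k X M := by
  haveI : IsNoetherian Z := CurveCohLib.isNoetherian_of_proper (k := k)
  let P := (Scheme.Modules.pushforward π).obj (Coh.structureModule Z)
  let φ : X.Modules → ℤ := fun M => Curv2.euler k X ((DCoh.tensorBi.obj E).obj M) - d * Curv2.euler k X M
  have hφ : HilbPoly.Additive φ :=
    ⟨fun A B e => by
      show _ - _ = _ - _
      rw [(HilbPoly.additive_euler k).iso A B e,
        (HilbPoly.additive_euler k).iso _ _ ⟨(DCoh.tensorBi.obj E).mapIso e.some⟩],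
    fun S hS a b c => by
      have e1 := (HilbPoly.additive_euler k).add S hS a b c
      have e2 := (HilbPoly.additive_euler k).add (S.map (DCoh.tensorBi.obj E))
        (CurveTensor.shortExact_tensor hE S.f S.g S.zero hS)
        (CurveTensor.isCoh_tensor hE a) (CurveTensor.isCoh_tensor hE b) (CurveTensor.isCoh_tensor hE c)
      show _ - _ = _ - _ + (_ - _)
      change Curv2.euler k X ((DCoh.tensorBi.obj E).obj S.X₂) = Curv2.euler k X ((DCoh.tensorBi.obj E).obj S.X₁) + Curv2.euler k X ((DCoh.tensorBi.obj E).obj S.X₃) at e2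
      rw [e1, e2]
      ring⟩
  refine sub_eq_zero.1 (eq_zero_of_tensor_eq_zero hφ hN hP (fun G hG => sub_eq_zero.2 ?_) hM)
  obtain ⟨es⟩ := hsplit
  obtain ⟨eT⟩ := nonempty_tensor_push π (Coh.structureModule Z) hE
  haveI : (Scheme.Modules.pushforward π).Additive := inferInstance
  let eEP : (DCoh.tensorBi.obj E).obj P ≅ ∐ fun _ : Fin d => P :=
    eT ≪≫ (Scheme.Modules.pushforward π).mapIso (CurveTensor.commIso _ _ ≪≫ CurveTensor.structureTensorIso _ ≪≫ es) ≪≫
      PreservesCoproduct.iso (Scheme.Modules.pushforward π) (fun _ : Fin d => Coh.structureModule Z)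
  let e : (DCoh.tensorBi.obj E).obj ((DCoh.tensorBi.obj P).obj G) ≅
      ∐ fun _ : Fin d => (DCoh.tensorBi.obj P).obj G :=
    ((((KFlatLib.tensorAssocSch X).app E).app P).app G).symm ≪≫ (DCoh.tensorBi.mapIso eEP).app G ≪≫
      PreservesCoproduct.iso (DCoh.tensorBi.flip.obj G) _
  rw [(HilbPoly.additive_euler k).iso _ _ ⟨e⟩]
  exact apply_sigma (HilbPoly.additive_euler k)
    (KZ.CycleClass.isCoh_tensor_rank hP hG) d

/-- A finite flat cover which splits itself multiplies Euler characteristics by its degree. -/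
theorem euler_pullback_of_selfSplit (π : Z ⟶ X) [IsFinite π] [Flat π]
    (hπ : π ≫ (X ↘ Spec (CommRingCat.of k)) = Z ↘ Spec (CommRingCat.of k))
    {d : ℕ} (hd : d ≠ 0) (hP : FlatMod.IsFinLocFreeOfRank d ((Scheme.Modules.pushforward π).obj (Coh.structureModule Z)))
    (hsplit : Nonempty ((Scheme.Modules.pullback π).obj ((Scheme.Modules.pushforward π).obj (Coh.structureModule Z)) ≅
      FlatMod.freeMod Z d))
    {M : X.Modules} (hM : Coh.IsCoh M) :
    Curv2.euler k Z ((Scheme.Modules.pullback π).obj M) = d * Curv2.euler k X M := by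
  have hP' : FlatMod.IsFinLocFree ((Scheme.Modules.pushforward π).obj (Coh.structureModule Z)) := fun x =>
    let ⟨W, hx, h⟩ := hP x; ⟨W, d, hx, h⟩
  rw [euler_pullback_finite_flat k π hπ hP' hM, euler_tensor_of_split k π hd hP hP' hsplit hM]

end Groth.Agent.AVEuler

end
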