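import Groth.Agent.AVEuler.Homogeneous
import Groth.Agent.AVEuler.Split
import Groth.Agent.AVEuler.FibreRank
import Groth.Agent.S12002
import Groth.Agent.S0055
import Groth.Agent.S5794
import Groth.Agent.S9816
import Groth.Agent.H23.EquidimFibres

/-!
# Degenerate classes have Euler characteristic zero

If a positive dimensional variety `B` in `A` fixes the class of `L`, then comparing the two ways of computing
the Euler characteristics of `p^*L^a ⊗ m^*H^b` on `A × B` forces `χ(L) = 0`.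
-/

noncomputable section

set_option autoImplicit false
set_option backward.isDefEq.respectTransparency false
set_option linter.style.haveILetI false
set_option linter.unusedSectionVars false
set_option maxHeartbeats 1000000

universe u

open CategoryTheory CategoryTheory.Limits AlgebraicGeometry MonoidalCategory CartesianMonoidalCategory TopologicalSpace
open scoped MonObj

attribute [-instance] CategoryTheory.catToReflQuiver

namespace Groth.Agent.AVEuler

open H23 H23.CubeAb AVDegPoly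
open scoped Groth.Agent.H23.PicMul

variable {k : Type u} [Field k]

theorem isZero_of_toAb {Y : Scheme.{u}} {M : Y.Modules} (h : IsZero (Coh.toAb M)) : IsZero M := by
  haveI : (QCoh.toAbFunctor Y).Faithful := inferInstanceAs (SheafOfModules.toSheaf Y.ringCatSheaf).Faithful
  exact (IsZero.iff_id_eq_zero _).2 ((QCoh.toAbFunctor Y).map_injective (h.eq_of_src _ _))

theorem isFlatOver_of_finLocFree {X Y : Scheme.{u}} (f : X ⟶ Y) [Flat f] {F : X.Modules}
    (hF : FlatMod.IsFinLocFree F) : FlatMod.IsFlatOver f F := fun x => by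
  show FlatMod.IsFlatOverAt f F x
  unfold FlatMod.IsFlatOverAt
  letI := FlatMod.moduleStalkOver f F x
  letI : Algebra (Y.presheaf.stalk (f.base x)) (X.presheaf.stalk x) := (f.stalkMap x).hom.toAlgebra
  haveI : IsScalarTower (Y.presheaf.stalk (f.base x)) (X.presheaf.stalk x) (F.presheaf.stalk x) :=
    IsScalarTower.of_algebraMap_smul fun _ _ => rfl
  haveI : Module.Flat (Y.presheaf.stalk (f.base x)) (X.presheaf.stalk x) := Flat.stalkMap f x
  haveI := QCoh.free_stalk_of_isFinLocFree hF x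
  exact Module.Flat.trans _ (X.presheaf.stalk x) _

/-- the Euler characteristic of the point -/
abbrev kappa (k : Type u) [Field k] : ℤ :=
  @chi k _ (𝟙_ (Over (Spec (CommRingCat.of k)))) (inferInstanceAs (IsProper (𝟙 (Spec (CommRingCat.of k))))) 1

/-- Künneth for Euler characteristics, with an acyclic factor. -/
theorem chi_box_acyclic (Y : Over (Spec (CommRingCat.of k))) [IsProper Y.hom] {G : Y.left.Modules}
    (hG : PicF.IsInvertible G) (hvan : ∀ i, Subsingleton (Coh.HH Y.left G (i + 1))) :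
    ∃ m : ℕ, chi Y (PicF.cl G) = m * kappa k ∧
      ∀ (X : Over (Spec (CommRingCat.of k))) [IsProper X.hom] [IsProper (X ⊗ Y).hom] (e : PicF.Cl X.left),
        PicF.IsInvertibleCl e →
        chi (X ⊗ Y) (F e (fst X Y) * F (PicF.cl G) (snd X Y)) = m * chi X e := by
  obtain ⟨m, hm⟩ := exists_euler_box Y G hG hvan
  have hmain : ∀ (X : Over (Spec (CommRingCat.of k))) [IsProper X.hom] [IsProper (X ⊗ Y).hom] (e : PicF.Cl X.left),
      PicF.IsInvertibleCl e →
      chi (X ⊗ Y) (F e (fst X Y) * F (PicF.cl G) (snd X Y)) = m * chi X e := by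
    intro X _ _ e he
    obtain ⟨E, rfl, hE⟩ := he
    have h := @hm X ‹_› ⟨X.hom⟩ ⟨(X ⊗ Y).hom⟩ rfl rfl E hE
    have hcl : F (PicF.cl E) (fst X Y) * F (PicF.cl G) (snd X Y) =
        PicF.cl (CohB1.tensorMod ((Scheme.Modules.pullback (fst X Y).left).obj E)
          ((Scheme.Modules.pullback (snd X Y).left).obj G)) := by
      rw [H23.PicMul.cl_tensor]
      rfl
    rw [hcl]
    exact h
  refine ⟨m, ?_, hmain⟩
  let X₀ := 𝟙_ (Over (Spec (CommRingCat.of k)))
  haveI : IsProper X₀.hom := inferInstanceAs (IsProper (𝟙 (Spec (CommRingCat.of k))))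
  haveI : IsProper (X₀ ⊗ Y).hom := inferInstanceAs (IsProper (pullback.fst X₀.hom Y.hom ≫ X₀.hom))
  have h := hmain X₀ 1 ⟨_, rfl, CurveDeg.isInvertible_structureModule⟩
  haveI : IsIso (snd X₀ Y).left := by
    haveI : IsIso (snd X₀ Y) := ⟨lift (toUnit Y) (𝟙 Y),
      by ext : 1
         · exact toUnit_unique _ _
         · simp,
      by simp⟩
    exact (Over.forget _).map_isIso (snd X₀ Y)
  rw [show F (1 : PicF.Cl X₀.left) (fst X₀ Y) = 1 from map_one _, one_mul,
    chi_iso Y (snd X₀ Y) ⟨G, rfl, hG⟩] at h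
  exact h

/-- Künneth for Euler characteristics. -/
theorem chi_box (X Y : Over (Spec (CommRingCat.of k))) [IsProper X.hom] [IsProper Y.hom] [IsProper (X ⊗ Y).hom]
    {dY dT : ℕ} (hdY : topologicalKrullDim Y.left ≤ dY) (hdT : topologicalKrullDim (X ⊗ Y).left ≤ dT)
    {H : Y.left.Modules} (hH : CohB1.IsAmple H) (e : (PicF.Cl X.left)ˣ) (he : PicF.IsInvertibleCl (e : PicF.Cl X.left))
    (n : (PicF.Cl Y.left)ˣ) (hn : PicF.IsInvertibleCl (n : PicF.Cl Y.left)) :
    kappa k * chi (X ⊗ Y) (F (e : PicF.Cl X.left) (fst X Y) * F (n : PicF.Cl Y.left) (snd X Y)) =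
      chi X (e : PicF.Cl X.left) * chi Y (n : PicF.Cl Y.left) := by
  letI : Y.left.Over (Spec (CommRingCat.of k)) := ⟨Y.hom⟩
  haveI : IsProper (Y.left ↘ Spec (CommRingCat.of k)) := inferInstanceAs (IsProper Y.hom)
  letI : (X ⊗ Y).left.Over (Spec (CommRingCat.of k)) := ⟨(X ⊗ Y).hom⟩
  haveI : IsProper ((X ⊗ Y).left ↘ Spec (CommRingCat.of k)) := inferInstanceAs (IsProper (X ⊗ Y).hom)
  have hh : PicF.IsInvertibleCl (PicF.cl H) := ⟨H, rfl, hH.1⟩
  let h := (PicMul.isUnit_of_isInvertibleCl hh).unit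
  obtain ⟨N, hN, hNi⟩ := id hn
  haveI : IsNoetherian Y.left := CurveCohLib.isNoetherian_of_proper (k := k)
  obtain ⟨c₀, hc₀⟩ := AmpleVan.exists_vanishing (A := k) hH (AmpleVan.isCoh_invertible hNi)
  let b1 := Units.map (PicMul.pullHom (fst X Y).left) e * Units.map (PicMul.pullHom (snd X Y).left) n
  let b2 := Units.map (PicMul.pullHom (snd X Y).left) h
  have hb1 : PicF.IsInvertibleCl (b1 : PicF.Cl (X ⊗ Y).left) :=
    H23.PicMul.isInvertibleCl_mul (PicClLib.isInvertibleCl_pullCl _ he) (PicClLib.isInvertibleCl_pullCl _ hn)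
  have hb2 : PicF.IsInvertibleCl (b2 : PicF.Cl (X ⊗ Y).left) := PicClLib.isInvertibleCl_pullCl _ hh
  obtain ⟨Q, -, hQ⟩ := exists_poly_eulerCl k (X := (X ⊗ Y).left) hdT ![b1, b2] (fun i => by
    fin_cases i
    · exact hb1
    · exact hb2)
  obtain ⟨S, -, hS⟩ := exists_poly_eulerCl k (X := Y.left) hdY ![n, h] (fun i => by
    fin_cases i
    · exact hn
    · exact hh)
  have hQ' : ∀ c : ℤ, MvPolynomial.eval ![1, (c : ℚ)] Q =
      (chi (X ⊗ Y) ((b1 * b2 ^ c : (PicF.Cl (X ⊗ Y).left)ˣ) : PicF.Cl (X ⊗ Y).left) : ℚ) := fun c => by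
    have := hQ ![1, c]
    rw [show (fun j => ((![1, c] j : ℤ) : ℚ)) = ![1, (c : ℚ)] from funext fun j => by fin_cases j <;> simp,
      Fin.prod_univ_two] at this
    rw [← this]
    simp
    try rfl
  have hS' : ∀ c : ℤ, MvPolynomial.eval ![1, (c : ℚ)] S =
      (chi Y ((n * h ^ c : (PicF.Cl Y.left)ˣ) : PicF.Cl Y.left) : ℚ) := fun c => by
    have := hS ![1, c]
    rw [show (fun j => ((![1, c] j : ℤ) : ℚ)) = ![1, (c : ℚ)] from funext fun j => by fin_cases j <;> simp,
      Fin.prod_univ_two] at this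
    rw [← this]
    simp
    try rfl
  let sub : MvPolynomial (Fin 2) ℚ → Polynomial ℚ := MvPolynomial.aeval ![1, Polynomial.X]
  have hsub : ∀ (P : MvPolynomial (Fin 2) ℚ) (t : ℚ), (sub P).eval t = MvPolynomial.eval ![1, t] P := fun P t => by
    show (MvPolynomial.aeval (![1, Polynomial.X] : Fin 2 → Polynomial ℚ) P).eval t = _
    rw [eval_aeval_poly]
    congr 2
    funext j
    fin_cases j <;> simp
  have heq : Polynomial.C (kappa k : ℚ) * sub Q = Polynomial.C (chi X (e : PicF.Cl X.left) : ℚ) * sub S :=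
    poly_eq_of_large c₀ fun c hc => by
      let G := CohB1.tensorMod N (CohB1.tensorPow H c)
      have hGi : PicF.IsInvertible G := InvX.isInvertible_tensorMod hNi (InvX.isInvertible_tensorPow hH.1 c)
      obtain ⟨m, hm1, hm2⟩ := chi_box_acyclic Y hGi (hc₀ c hc)
      have hGcl : PicF.cl G = ((n * h ^ (c : ℤ) : (PicF.Cl Y.left)ˣ) : PicF.Cl Y.left) := by
        rw [H23.PicMul.cl_tensor, H23.PicMul.cl_tensorPow, hN, zpow_natCast, Units.val_mul, Units.val_pow_eq_pow_val]
        rfl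
      have hbcl : ((b1 * b2 ^ (c : ℤ) : (PicF.Cl (X ⊗ Y).left)ˣ) : PicF.Cl (X ⊗ Y).left) =
          F (e : PicF.Cl X.left) (fst X Y) * F (PicF.cl G) (snd X Y) := by
        rw [hGcl]
        simp only [b1, b2, ← map_zpow, Units.val_mul, Units.coe_map, F_mul]
        rw [mul_assoc]
      rw [Polynomial.eval_mul, Polynomial.eval_mul, Polynomial.eval_C, Polynomial.eval_C, hsub, hsub,
        ← Int.cast_natCast (R := ℚ) c, hQ', hS', hbcl, hm2 X _ he, ← hGcl, hm1]
      push_cast
      ring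
  have h0 := congrArg (Polynomial.eval ((0 : ℤ) : ℚ)) heq
  rw [Polynomial.eval_mul, Polynomial.eval_mul, Polynomial.eval_C, Polynomial.eval_C, hsub, hsub, hQ', hS', zpow_zero,
    zpow_zero, mul_one, mul_one] at h0
  exact_mod_cast h0

theorem kappa_ne_zero (Y : Over (Spec (CommRingCat.of k))) [IsProper Y.hom] [IsIntegral Y.left]
    {H : Y.left.Modules} (hH : CohB1.IsAmple H) {d : ℕ} (hd : topologicalKrullDim Y.left = d) : kappa k ≠ 0 := by
  letI : Y.left.Over (Spec (CommRingCat.of k)) := ⟨Y.hom⟩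
  haveI : IsProper (Y.left ↘ Spec (CommRingCat.of k)) := inferInstanceAs (IsProper Y.hom)
  haveI : IsNoetherian Y.left := CurveCohLib.isNoetherian_of_proper (k := k)
  intro h0
  have hh : PicF.IsInvertibleCl ((PicMul.isUnit_of_isInvertibleCl ⟨H, rfl, hH.1⟩).unit : PicF.Cl Y.left) :=
    ⟨H, rfl, hH.1⟩
  obtain ⟨P, hPd, hP⟩ := exists_chiPoly hd hh
  obtain ⟨c₀, hc₀⟩ := AmpleVan.exists_vanishing (A := k) hH QCoh.isCoh_structureModule'
  have hz : P = 0 := poly_eq_of_large c₀ fun c hc => by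
    let G := CohB1.tensorPow H c
    obtain ⟨m, hm, -⟩ := chi_box_acyclic Y (InvX.isInvertible_tensorPow hH.1 c)
      (fun i => QCoh.subsingleton_HH_of_iso (CurveTensor.structureTensorIso G) (i + 1) (hc₀ c hc i))
    rw [h0, mul_zero] at hm
    rw [Polynomial.eval_zero, ← Int.cast_natCast (R := ℚ) c, hP, zpow_natCast, Units.val_pow_eq_pow_val,
      IsUnit.unit_spec, ← H23.PicMul.cl_tensorPow, hm, Int.cast_zero]
  have h := fwdDiff_eval_eq P hPd (fun m : ℕ => chi Y (PicF.cl H ^ m)) fun m => by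
    have := hP (m : ℤ)
    rw [zpow_natCast, Units.val_pow_eq_pow_val, IsUnit.unit_spec, Int.cast_natCast] at this
    exact this.symm
  rw [hz, Polynomial.coeff_zero, mul_zero] at h
  change ((volCl k Y.left d (PicF.cl H) : ℤ) : ℚ) = 0 at h
  exact (volCl_pos k Y.left hH hd).ne' (by exact_mod_cast h)

/-- The polynomial of the twists of a vector bundle by the powers of a class. -/
theorem exists_twistPoly {A : Over (Spec (CommRingCat.of k))} [IsProper A.hom] [IsIntegral A.left] {g : ℕ}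
    (hg : topologicalKrullDim A.left = g) {L : A.left.Modules} (hL : PicF.IsInvertible L) {E : A.left.Modules} {r : ℕ}
    (hE : FlatMod.IsFinLocFreeOfRank r E) :
    ∃ Q : Polynomial ℚ, Q.natDegree ≤ g ∧
      (∀ n : ℕ, Q.eval (n : ℚ) = (@Curv2.euler k _ A.left ⟨A.hom⟩ (CohB1.tensorMod E (CohB1.tensorPow L n)) : ℚ)) ∧
      (g.factorial : ℚ) * Q.coeff g = (r : ℚ) * (@volCl k _ A.left ⟨A.hom⟩ ‹IsProper A.hom› g (PicF.cl L) : ℚ) := by
  letI : A.left.Over (Spec (CommRingCat.of k)) := ⟨A.hom⟩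
  haveI : IsProper (A.left ↘ Spec (CommRingCat.of k)) := inferInstanceAs (IsProper A.hom)
  haveI : IsNoetherian A.left := CurveCohLib.isNoetherian_of_proper (k := k)
  obtain ⟨P, hP, hPd, hPa⟩ := HilbPoly.exists_poly (HilbPoly.additive_euler k) hL
    (CurveDeg.isCoh_of_isFinLocFree fun x => let ⟨W, hx, h⟩ := hE x; ⟨W, r, hx, h⟩) (d := g)
    ((topologicalKrullDim_subspace_le _ _).trans hg.le)
  refine ⟨P, hPd, fun n => (hP n).symm, hPa.trans ?_⟩
  rw [volCl_eq_mult k A.left hL]
  have := mult_finLocFree k hL hg hE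
  exact_mod_cast this

variable [IsAlgClosed k] {A : Over (Spec (CommRingCat.of k))} [GrpObj A] [IsProper A.hom] [GeometricallyIntegral A.hom]

set_option maxHeartbeats 3000000 in
/-- the rank of the direct image against the polynomials -/
theorem kappa_mul_rank {g : ℕ} (hg : topologicalKrullDim A.left = g) {B : Over (Spec (CommRingCat.of k))}
    [IsProper B.hom] [IsProper (A ⊗ B).hom] (w : B ⟶ A) {h : ℕ} (hh : topologicalKrullDim B.left = h)
    {L H : A.left.Modules} (hL : PicF.IsInvertible L) (hH : PicF.IsInvertible H)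
    (u η' : (PicF.Cl A.left)ˣ) (huL : (u : PicF.Cl A.left) = PicF.cl L) (hηH : (η' : PicF.Cl A.left) = PicF.cl H)
    (v : (PicF.Cl B.left)ˣ) (hv : PicF.IsInvertibleCl (v : PicF.Cl B.left)) {HT : (A ⊗ B).left.Modules}
    (hHT : PicF.IsInvertible HT)
    (hHTcl : PicF.cl HT = F (PicF.cl H) (fst A B) * F (PicF.cl H) (fst A B * (snd A B ≫ w)))
    (hid : ∀ a b : ℤ,
      kappa k * chi (A ⊗ B)
          (((R u (fst A B) ^ a * R η' (fst A B * (snd A B ≫ w)) ^ b : (PicF.Cl (A ⊗ B).left)ˣ) : PicF.Cl (A ⊗ B).left)) =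
        chi A ((u ^ a * η' ^ b : (PicF.Cl A.left)ˣ) : PicF.Cl A.left) *
          chi B ((v ^ (-a) : (PicF.Cl B.left)ˣ) : PicF.Cl B.left))
    {b : ℕ} (hRA : ∀ i : ℕ, IsZero ((Coh.RpushAb (fst A B).left (i + 1)).obj (Coh.toAb (CohB1.tensorPow HT b))))
    (PB Pv : Polynomial ℚ)
    (hPB : ∀ n : ℤ, PB.eval (n : ℚ) = (chi B ((R η' w ^ n : (PicF.Cl B.left)ˣ) : PicF.Cl B.left) : ℚ))
    (hPv : ∀ n : ℤ, Pv.eval (n : ℚ) = (chi B ((v ^ n : (PicF.Cl B.left)ˣ) : PicF.Cl B.left) : ℚ))
    (hC : chi A (PicF.cl L) ≠ 0) :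
    (kappa k : ℚ) * PB.eval (b : ℚ) = Pv.eval 0 := by
  letI : A.left.Over (Spec (CommRingCat.of k)) := ⟨A.hom⟩
  haveI : IsProper (A.left ↘ Spec (CommRingCat.of k)) := inferInstanceAs (IsProper A.hom)
  haveI : IsIntegral A.left := GeometricallyIntegral.isIntegral_of_subsingleton A.hom
  haveI : IsNoetherian A.left := CurveCohLib.isNoetherian_of_proper (k := k)
  letI : B.left.Over (Spec (CommRingCat.of k)) := ⟨B.hom⟩
  haveI : IsProper (B.left ↘ Spec (CommRingCat.of k)) := inferInstanceAs (IsProper B.hom)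
  letI : (A ⊗ B).left.Over (Spec (CommRingCat.of k)) := ⟨(A ⊗ B).hom⟩
  haveI : IsProper ((A ⊗ B).left ↘ Spec (CommRingCat.of k)) := inferInstanceAs (IsProper (A ⊗ B).hom)
  haveI : IsNoetherian (A ⊗ B).left := CurveCohLib.isNoetherian_of_proper (k := k)
  let p := fst A B
  let q := snd A B
  let m := p * (q ≫ w)
  haveI : IsProper p.left := inferInstanceAs (IsProper (pullback.fst A.hom B.hom))
  haveI : Flat p.left := inferInstanceAs (Flat (pullback.fst A.hom B.hom))
  have hu : PicF.IsInvertibleCl (u : PicF.Cl A.left) := ⟨L, huL.symm, hL⟩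
  have hη : PicF.IsInvertibleCl (η' : PicF.Cl A.left) := ⟨H, hηH.symm, hH⟩
  let C : ℤ := chi A (PicF.cl L)
  let D := CohB1.tensorPow HT b
  have hDi : PicF.IsInvertible D := InvX.isInvertible_tensorPow hHT b
  have hD : Coh.IsCoh D := AmpleVan.isCoh_invertible hDi
  have hR : ∀ i : ℕ, 0 < i → IsZero ((Coh.Rpush p.left i).obj D) := fun i hi => by
    obtain ⟨j, rfl⟩ := Nat.exists_eq_add_of_le' hi
    exact isZero_of_toAb ((hRA j).of_iso (AVVanish.nonempty_toAb_Rpush p.left D (j + 1)).some.symm)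
  have hfl : FlatMod.IsFlatOver p.left D :=
    isFlatOver_of_finLocFree p.left (H23.PullPush.isFinLocFree_of_isInvertible hDi)
  have hc := fun y => QCoh.concentrated_of_isZero_Rpush hD hfl hR y
  let E₀ := (Coh.Rpush p.left 0).obj D
  have hE₀ : FlatMod.IsFinLocFree E₀ := fun y => by
    obtain ⟨U, hy, hU⟩ := QCoh.exists_free_of_concentrated hD hfl 0 y (hc y)
    exact ⟨U, _, hy, hU⟩
  let u₀ : Spec (CommRingCat.of k) ⟶ A.left := (η[A]).left
  let ι₀ : B ⟶ A ⊗ B := lift (toUnit B ≫ η[A]) (𝟙 B)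
  have hsl : IsPullback ι₀.left (B.left ↘ Spec (CommRingCat.of k)) p.left u₀ := by
    have sq : IsPullback q.left p.left B.hom A.hom := (IsPullback.of_hasPullback A.hom B.hom).flip
    have hq : ι₀.left ≫ q.left = 𝟙 B.left := by
      rw [← Over.comp_left, lift_snd]; rfl
    have hu₀ : u₀ ≫ A.hom = 𝟙 _ := Over.w η[A]
    have hp : ι₀.left ≫ p.left = B.hom ≫ u₀ := by
      rw [← Over.comp_left, lift_fst]; rfl
    refine (IsPullback.of_right (h₁₂ := q.left) (v₁₃ := B.hom) (h₂₂ := A.hom) ?_ hp sq)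
    rw [hq, hu₀]
    exact IsPullback.of_horiz_isIso ⟨by simp; rfl⟩
  have hrk : CurveBundle.rk E₀ = CohIII.fiberRank p.left D 0 (u₀ (IsLocalRing.closedPoint k)) := by
    obtain ⟨U, hy, ⟨e⟩⟩ := QCoh.exists_free_of_concentrated hD hfl 0 _ (hc (u₀ (IsLocalRing.closedPoint k)))
    obtain ⟨U', hy', ⟨e'⟩⟩ := CurveBundle.isFinLocFreeOfRank_rk hE₀ (u₀ (IsLocalRing.closedPoint k))
    obtain ⟨_, ⟨V, hV, rfl⟩, hxV, hle⟩ :=
      A.left.isBasis_affineOpens.exists_subset_of_mem_open (show _ ∈ U ⊓ U' from ⟨hy, hy'⟩) (U ⊓ U').2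
    obtain ⟨l⟩ := QCoh.free_sections hV (fun z hz => (hle hz).1) e
    obtain ⟨l'⟩ := QCoh.free_sections hV (fun z hz => (hle hz).2) e'
    exact (QCoh.finrank_stalk_of_freeChart hV (QCoh.isQCoh_of_isFinLocFree hE₀) l' hxV).symm.trans
      (QCoh.finrank_stalk_of_freeChart hV (QCoh.isQCoh_of_isFinLocFree hE₀) l hxV)
  have hr : ((CurveBundle.rk E₀ : ℕ) : ℚ) = PB.eval (b : ℚ) := by
    rw [← Int.cast_natCast (R := ℚ) b, hPB, ← Int.cast_natCast (R := ℚ) (CurveBundle.rk E₀)]
    refine congrArg Int.cast ?_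
    rw [hrk, fiberRank_eq_euler hsl A.hom (Over.w η[A]) hD.1 (hc _)]
    show chi B (PicMul.pullHom ι₀.left (PicF.cl D)) = _
    rw [H23.PicMul.cl_tensorPow, map_pow, zpow_natCast, Units.val_pow_eq_pow_val, hHTcl, map_mul]
    congr 2
    show PicMul.pullHom ι₀.left (F (PicF.cl H) p) * PicMul.pullHom ι₀.left (F (PicF.cl H) m) =
      F (η' : PicF.Cl A.left) w
    rw [hηH]
    rw [pull_F, pull_F, show ι₀ ≫ p = toUnit B ≫ η[A] from lift_fst _ _, F_const ⟨H, rfl, hH⟩, one_mul]
    congr 1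
    show ι₀ ≫ (p * (q ≫ w)) = w
    rw [MonObj.comp_mul, ← Category.assoc, show ι₀ ≫ p = toUnit B ≫ η[A] from lift_fst _ _,
      show ι₀ ≫ q = 𝟙 B from lift_snd _ _, Category.id_comp, show toUnit B ≫ η[A] = (1 : B ⟶ A) from rfl, one_mul]
  -- the two polynomials in the exponent of `L`
  obtain ⟨D', hD', hD'i⟩ := isInvertibleCl_zpow η' hη (-(b : ℤ))
  have hE : FlatMod.IsFinLocFreeOfRank (CurveBundle.rk E₀) (CohB1.tensorMod D' E₀) := fun y => by
    obtain ⟨U, hy, ⟨e⟩⟩ := CurveBundle.isFinLocFreeOfRank_rk hE₀ y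
    obtain ⟨U', hy', ⟨e'⟩⟩ := hD'i y
    let W := U ⊓ U'
    refine ⟨W, ⟨hy, hy'⟩, ⟨(Scheme.Modules.restrictFunctorIsoPullback W.ι).app _ ≪≫
      ((KFlatLib.pullTensorBiIso W.ι).app D').app E₀ ≪≫
      (DCoh.tensorBi.mapIso (((Scheme.Modules.restrictFunctorIsoPullback W.ι).app D').symm ≪≫
        (Scheme.Modules.restrictFunctorCongr (A.left.homOfLE_ι inf_le_right).symm).app D' ≪≫
        (Scheme.Modules.restrictFunctorComp (A.left.homOfLE (inf_le_right : W ≤ U')) U'.ι).app D' ≪≫
        (Scheme.Modules.restrictFunctor (A.left.homOfLE (inf_le_right : W ≤ U'))).mapIso e' ≪≫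
        KFlatLib.restrictStructureIso _)).app _ ≪≫
      CurveTensor.structureTensorIso _ ≪≫ ((Scheme.Modules.restrictFunctorIsoPullback W.ι).app E₀).symm ≪≫
      KFlatLib.restrictFreeIso inf_le_left e⟩⟩
  obtain ⟨Qb, hQd, hQ, hQc⟩ := exists_twistPoly hg hL hE
  have hHb : FlatMod.IsFinLocFreeOfRank 1 (CohB1.tensorPow H b) :=
    InvEnd.isFinLocFreeOfRank_one (InvX.isInvertible_tensorPow hH b)
  obtain ⟨Pb, hPd, hP, hPc⟩ := exists_twistPoly hg hL hHb
  have key : Polynomial.C (kappa k : ℚ) * Qb = Pb * Pv.comp (-Polynomial.X) := poly_eq_of_large 0 fun a _ => by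
    rw [Polynomial.eval_mul, Polynomial.eval_mul, Polynomial.eval_C, Polynomial.eval_comp, Polynomial.eval_neg,
      Polynomial.eval_X, hQ, hP, ← Int.cast_natCast (R := ℚ) a, ← Int.cast_neg, hPv]
    norm_cast
    -- both sides as classes
    have hW : PicF.IsInvertible (CohB1.tensorMod (CohB1.tensorPow L a) D') :=
      InvX.isInvertible_tensorMod (InvX.isInvertible_tensorPow hL a) hD'i
    obtain ⟨e1⟩ := nonempty_tensor_push p.left D (H23.PullPush.isFinLocFree_of_isInvertible hW)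
    haveI := SpObjSS.enoughInjectives_of_hasInjectiveResolutions (C := (A ⊗ B).left.Modules)
    haveI := QCoh.preservesFiniteLimits_push p.left
    let ψ := (Scheme.Modules.pushforward p.left).rightDerivedZeroIsoSelf
    let M := CohB1.tensorMod ((Scheme.Modules.pullback p.left).obj (CohB1.tensorMod (CohB1.tensorPow L a) D')) D
    have hMi : PicF.IsInvertible M := InvX.isInvertible_tensorMod (PicClLib.isInvertible_pullback _ hW) hDi
    let eM : CohB1.tensorMod (CohB1.tensorMod D' E₀) (CohB1.tensorPow L a) ≅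
        (Scheme.Modules.pushforward p.left).obj M :=
      CurveTensor.commIso (CohB1.tensorMod D' E₀) (CohB1.tensorPow L a) ≪≫
        ((((KFlatLib.tensorAssocSch A.left).app (CohB1.tensorPow L a)).app D').app E₀).symm ≪≫
        (DCoh.tensorBi.obj (CohB1.tensorMod (CohB1.tensorPow L a) D')).mapIso (ψ.app D) ≪≫ e1
    have hzero : ∀ i, IsZero ((CohTop.Rpush p.left.base (i + 1)).obj (Coh.toAb M)) := fun i => by
      obtain ⟨e2⟩ := S0927.result p.left D _ (H23.PullPush.isFinLocFree_of_isInvertible hW) (i + 1)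
      exact (AVVanish.isZero_toAb ((((DCoh.tensorBi.obj (CohB1.tensorMod (CohB1.tensorPow L a) D'))).map_isZero
        (hR (i + 1) i.succ_pos)).of_iso e2.symm)).of_iso (AVVanish.nonempty_toAb_Rpush p.left M (i + 1)).some
    have hpush : Curv2.euler k (A ⊗ B).left M = Curv2.euler k A.left ((Coh.push p.left).obj M) :=
      finsum_congr fun i => by
        rw [(PnCoh.nonempty_linearEquiv_of_natPushEquiv k p.left (Over.w p) M i
          (Nakai.natPushEquiv_of_Rpush_isZero p.left.base (QCoh.abSheaf M) hzero i)).some.finrank_eq]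
    rw [(HilbPoly.additive_euler k).iso _ _ ⟨eM⟩]
    refine Eq.trans (congrArg (kappa k * ·) hpush.symm) ?_
    have hMcl : PicF.cl M = ((R u p ^ (a : ℤ) * R η' m ^ (b : ℤ) : (PicF.Cl (A ⊗ B).left)ˣ) : PicF.Cl (A ⊗ B).left) := by
      simp only [M, D]
      rw [H23.PicMul.cl_tensor, H23.PicMul.cl_tensorPow, hHTcl]
      show PicMul.pullHom p.left (PicF.cl (CohB1.tensorMod (CohB1.tensorPow L a) D')) *
        (PicMul.pullHom p.left (PicF.cl H) * PicMul.pullHom m.left (PicF.cl H)) ^ b = _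
      rw [H23.PicMul.cl_tensor, H23.PicMul.cl_tensorPow, hD', map_mul, map_pow, mul_pow, zpow_natCast,
        zpow_natCast, Units.val_mul, Units.val_pow_eq_pow_val, Units.val_pow_eq_pow_val, mul_assoc, ← huL]
      congr 1
      have h1 : PicMul.pullHom p.left ((η' ^ (-(b : ℤ)) : (PicF.Cl A.left)ˣ) : PicF.Cl A.left) *
          PicMul.pullHom p.left (PicF.cl H) ^ b = 1 := by
        rw [← map_pow, ← map_mul, show PicF.cl H ^ b = ((η' ^ (b : ℤ) : (PicF.Cl A.left)ˣ) : PicF.Cl A.left) from by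
          rw [zpow_natCast, Units.val_pow_eq_pow_val, hηH], ← Units.val_mul, ← zpow_add, neg_add_cancel, zpow_zero,
          Units.val_one, map_one]
      rw [← mul_assoc, h1, one_mul, ← hηH]
      rfl
    show kappa k * chi (A ⊗ B) (PicF.cl M) = _
    rw [hMcl, hid]
    congr 1
    show chi A _ = chi A (PicF.cl (CohB1.tensorMod (CohB1.tensorPow H b) (CohB1.tensorPow L a)))
    rw [H23.PicMul.cl_tensor, H23.PicMul.cl_tensorPow, H23.PicMul.cl_tensorPow, zpow_natCast, zpow_natCast,
      Units.val_mul, Units.val_pow_eq_pow_val, Units.val_pow_eq_pow_val, mul_comm (PicF.cl H ^ b), huL, hηH]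
  have hvol : (volCl k A.left g (PicF.cl L) : ℚ) = (g.factorial : ℚ) * (C : ℚ) := by
    have h := fwdDiff_eval_eq (Polynomial.C (C : ℚ) * Polynomial.X ^ g) (Polynomial.natDegree_C_mul_X_pow_le _ _)
      (fun m : ℕ => chi A (PicF.cl L ^ m)) fun m => by
        have := chi_zpow hg hu (m : ℤ)
        rw [zpow_natCast, Units.val_pow_eq_pow_val] at this
        rw [Polynomial.eval_mul, Polynomial.eval_C, Polynomial.eval_pow, Polynomial.eval_X]
        rw [huL] at this
        rw [this]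
        push_cast
        ring
    rw [Polynomial.coeff_C_mul, Polynomial.coeff_X_pow, if_pos rfl, mul_one] at h
    exact h
  have hfac : (g.factorial : ℚ) ≠ 0 := by exact_mod_cast g.factorial_ne_zero
  have hPg : Pb.coeff g = (C : ℚ) := by
    rw [Nat.cast_one, one_mul, hvol] at hPc
    exact mul_left_cancel₀ hfac hPc
  have hQg : Qb.coeff g = (CurveBundle.rk E₀ : ℚ) * (C : ℚ) := by
    rw [hvol, mul_left_comm] at hQc
    exact mul_left_cancel₀ hfac hQc
  have hC' : (C : ℚ) ≠ 0 := by exact_mod_cast hC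
  have hPb0 : Pb ≠ 0 := fun h0 => hC' (by rw [← hPg, h0, Polynomial.coeff_zero])
  let S := Pv.comp (-Polynomial.X)
  have hSC : S = Polynomial.C (Pv.eval 0) := by
    have hS0 : S.eval 0 = Pv.eval 0 := by simp [S]
    rw [← hS0]
    rcases eq_or_ne S 0 with h0 | h0
    · rw [h0]; simp
    · have hdeg : (Polynomial.C (kappa k : ℚ) * Qb).natDegree ≤ g := (Polynomial.natDegree_C_mul_le _ _).trans hQd
      rw [key, Polynomial.natDegree_mul hPb0 h0] at hdeg
      have hge : g ≤ Pb.natDegree := Polynomial.le_natDegree_of_ne_zero (by rw [hPg]; exact hC')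
      have : S.natDegree = 0 := by omega
      rw [Polynomial.eq_C_of_natDegree_eq_zero this]
      simp
  have hco := congrArg (fun P : Polynomial ℚ => P.coeff g) key
  simp only [Polynomial.coeff_C_mul] at hco
  rw [show Pv.comp (-Polynomial.X) = S from rfl, hSC, Polynomial.coeff_mul_C, hPg, hQg] at hco
  rw [← hr]
  exact mul_left_cancel₀ hC' (by linear_combination hco)

/-- A class fixed by a positive dimensional subvariety. -/
theorem chi_eq_zero_of_fixed {g : ℕ} (hg : topologicalKrullDim A.left = g) {L : A.left.Modules}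
    (hL : PicF.IsInvertible L) {B : Over (Spec (CommRingCat.of k))} [IsProper B.hom] [IsIntegral B.left]
    (w : B ⟶ A) [IsClosedImmersion w.left] {h : ℕ} (hh : topologicalKrullDim B.left = h) (hpos : h ≠ 0)
    (hfix : F (PicF.cl L) (fst A B * (snd A B ≫ w)) =
      F (PicF.cl L) (fst A B) * F (F (PicF.cl L) w) (snd A B)) :
    chi A (PicF.cl L) = 0 := by
  letI : A.left.Over (Spec (CommRingCat.of k)) := ⟨A.hom⟩
  haveI : IsProper (A.left ↘ Spec (CommRingCat.of k)) := inferInstanceAs (IsProper A.hom)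
  haveI : IsIntegral A.left := GeometricallyIntegral.isIntegral_of_subsingleton A.hom
  haveI : IsCommMonObj A := isCommMonObj_of_isProper_of_geometricallyIntegral A
  haveI : IsNoetherian A.left := CurveCohLib.isNoetherian_of_proper (k := k)
  haveI : CompactSpace A.left := AmpleVan.compactSpace_of_proper (A := k) (X := A.left)
  haveI : A.left.IsSeparated := AmpleVan.isSeparated_of_proper (A := k) (X := A.left)
  letI : B.left.Over (Spec (CommRingCat.of k)) := ⟨B.hom⟩
  haveI : IsProper (B.left ↘ Spec (CommRingCat.of k)) := inferInstanceAs (IsProper B.hom)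
  haveI : IsNoetherian B.left := CurveCohLib.isNoetherian_of_proper (k := k)
  haveI : IsProper (A ⊗ B).hom := inferInstanceAs (IsProper (pullback.fst A.hom B.hom ≫ A.hom))
  letI : (A ⊗ B).left.Over (Spec (CommRingCat.of k)) := ⟨(A ⊗ B).hom⟩
  haveI : IsProper ((A ⊗ B).left ↘ Spec (CommRingCat.of k)) := inferInstanceAs (IsProper (A ⊗ B).hom)
  haveI : IsNoetherian (A ⊗ B).left := CurveCohLib.isNoetherian_of_proper (k := k)
  haveI : GeometricallyIntegral B.hom := H23.EquidimFibres.geometricallyIntegral_of_isAlgClosed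
  haveI : GeometricallyIntegral (A ⊗ B).hom := H23.MaxAbelian.geometricallyIntegral_tensor A B
  haveI : IsIntegral (A ⊗ B).left := GeometricallyIntegral.isIntegral_of_subsingleton (A ⊗ B).hom
  obtain ⟨d, hd⟩ : ∃ d : ℕ, topologicalKrullDim (A ⊗ B).left = d :=
    ⟨_, VarDim.topologicalKrullDim_eq_deg_genericPoint (A ⊗ B).hom⟩
  obtain ⟨H, hH⟩ := AVProj.exists_isAmple (X := A)
  let p := fst A B
  let q := snd A B
  let m := p * (q ≫ w)
  let u := (PicMul.isUnit_of_isInvertibleCl (⟨L, rfl, hL⟩ : PicF.IsInvertibleCl (PicF.cl L))).unit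
  let η' := (PicMul.isUnit_of_isInvertibleCl (⟨H, rfl, hH.1⟩ : PicF.IsInvertibleCl (PicF.cl H))).unit
  have hu : PicF.IsInvertibleCl (u : PicF.Cl A.left) := ⟨L, rfl, hL⟩
  have hη : PicF.IsInvertibleCl (η' : PicF.Cl A.left) := ⟨H, rfl, hH.1⟩
  let HB := (Scheme.Modules.pullback w.left).obj H
  have hHB : CohB1.IsAmple HB := by
    haveI : CompactSpace B.left := AmpleVan.compactSpace_of_proper (A := k) (X := B.left)
    exact AmpleVan.isAmple_pullback_of_isEmbedding w.left w.left.isClosedEmbedding.isEmbedding hH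
  let v := R u w
  have hv : PicF.IsInvertibleCl (v : PicF.Cl B.left) := isInvertibleCl_R hu w
  have hum : R u m = R u p * Units.map (PicMul.pullHom q.left) v := Units.ext hfix
  -- the shear
  let σ : A ⊗ B ⟶ A ⊗ B := lift m q
  haveI : IsIso σ.left := by
    haveI : IsIso σ := ⟨lift (p * (q ≫ w)⁻¹) q,
      by ext : 1 <;> simp [σ, m, p, q, MonObj.comp_mul, GrpObj.comp_inv],
      by ext : 1 <;> simp [σ, m, p, q, MonObj.comp_mul, GrpObj.comp_inv]⟩
    exact (Over.forget _).map_isIso σ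
  -- the identity between the two sides
  have hid : ∀ a b : ℤ,
      kappa k * chi (A ⊗ B) (((R u p ^ a * R η' m ^ b : (PicF.Cl (A ⊗ B).left)ˣ) : PicF.Cl (A ⊗ B).left)) =
        chi A ((u ^ a * η' ^ b : (PicF.Cl A.left)ˣ) : PicF.Cl A.left) *
          chi B ((v ^ (-a) : (PicF.Cl B.left)ˣ) : PicF.Cl B.left) := by
    intro a b
    have he : PicF.IsInvertibleCl ((u ^ a * η' ^ b : (PicF.Cl A.left)ˣ) : PicF.Cl A.left) := by
      rw [Units.val_mul]
      exact H23.PicMul.isInvertibleCl_mul (isInvertibleCl_zpow u hu a) (isInvertibleCl_zpow η' hη b)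
    have hn := isInvertibleCl_zpow v hv (-a)
    rw [← chi_box A B hh.le hd.le hHB _ he _ hn]
    congr 1
    let X := Units.map (PicMul.pullHom p.left : PicF.Cl A.left →* PicF.Cl (A ⊗ B).left) (u ^ a * η' ^ b) *
      Units.map (PicMul.pullHom q.left) (v ^ (-a))
    have hX : PicF.IsInvertibleCl (X : PicF.Cl (A ⊗ B).left) :=
      H23.PicMul.isInvertibleCl_mul (PicClLib.isInvertibleCl_pullCl _ he) (PicClLib.isInvertibleCl_pullCl _ hn)
    have hσX : Units.map (PicMul.pullHom σ.left) X = R u p ^ a * R η' m ^ b := by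
      simp only [X, map_mul, map_zpow]
      rw [R_comp, R_comp, show σ ≫ p = m from lift_fst _ _, hum]
      have hq : Units.map (PicMul.pullHom σ.left) (Units.map (PicMul.pullHom q.left) v) =
          Units.map (PicMul.pullHom q.left) v := by
        refine Units.ext ?_
        show PicMul.pullHom σ.left (PicMul.pullHom q.left _) = _
        rw [show PicMul.pullHom σ.left (PicMul.pullHom q.left (v : PicF.Cl B.left)) = F (v : PicF.Cl B.left) (σ ≫ q)
          from pull_F σ _ q, show σ ≫ q = q from lift_snd _ _]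
        rfl
      rw [hq, mul_zpow, zpow_neg]
      rw [mul_assoc, mul_assoc, mul_comm (R η' m ^ b), ← mul_assoc (Units.map (PicMul.pullHom q.left) v ^ a),
        mul_inv_cancel, one_mul]
    have := chi_iso (A ⊗ B) σ hX
    rw [← hσX]
    exact this
  -- the relatively ample bundle
  let HT := CohB1.tensorMod ((Scheme.Modules.pullback p.left).obj H) ((Scheme.Modules.pullback m.left).obj H)
  haveI : CompactSpace (A ⊗ B).left := AmpleVan.compactSpace_of_proper (A := k) (X := (A ⊗ B).left)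
  have hHT : CohB1.IsAmple HT := by
    obtain ⟨H2, hH2, hH2cl⟩ : ∃ H2 : (A ⊗ A).left.Modules, CohB1.IsAmple H2 ∧
        PicF.cl H2 = F (PicF.cl H) (fst A A) * F (PicF.cl H) (snd A A) :=
      ⟨_, S9816.result A.hom A.hom H H hH hH, H23.PicMul.cl_tensor _ _⟩
    let ψ : A ⊗ B ⟶ A ⊗ A := lift p m
    let φ : A ⊗ B ⟶ A ⊗ A := lift p (q ≫ w)
    haveI : IsClosedImmersion ψ.left := by
      let s : A ⊗ A ⟶ A ⊗ A := lift (fst A A) (fst A A * snd A A)
      haveI : IsIso s.left := by
        haveI : IsIso s := ⟨lift (fst A A) ((fst A A)⁻¹ * snd A A),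
          by ext : 1 <;> simp [s, MonObj.comp_mul, GrpObj.comp_inv],
          by ext : 1 <;> simp [s, MonObj.comp_mul, GrpObj.comp_inv]⟩
        exact (Over.forget _).map_isIso s
      have e : ψ = (A ◁ w) ≫ s := by
        ext : 1 <;> simp [ψ, s, m, p, q, MonObj.comp_mul]
      haveI : IsClosedImmersion (A ◁ w).left := by
        have hsq : IsPullback (A ◁ w).left q.left (snd A A).left w.left := by
          have sq : IsPullback (fst A A).left (snd A A).left A.hom A.hom := IsPullback.of_hasPullback A.hom A.hom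
          have h1 : IsPullback ((A ◁ w).left ≫ (fst A A).left) q.left A.hom (w.left ≫ A.hom) := by
            rw [← Over.comp_left, whiskerLeft_fst, Over.w w]
            exact IsPullback.of_hasPullback A.hom B.hom
          exact IsPullback.of_right h1 (by rw [← Over.comp_left, whiskerLeft_snd]; rfl) sq
        exact MorphismProperty.of_isPullback hsq.flip ‹IsClosedImmersion w.left›
      rw [e, Over.comp_left]
      infer_instance
    have hamp := AmpleVan.isAmple_pullback_of_isEmbedding ψ.left ψ.left.isClosedEmbedding.isEmbedding hH2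
    refine AmpleX.isAmple_of_iso (H23.PicMul.cl_eq_iff.1 ?_).some hamp
    show PicMul.pullHom ψ.left (PicF.cl H2) = PicF.cl HT
    rw [hH2cl, H23.PicMul.cl_tensor, map_mul, pull_F, pull_F, show ψ ≫ fst A A = p from lift_fst _ _,
      show ψ ≫ snd A A = m from lift_snd _ _]
    rfl
  haveI : IsProper p.left := inferInstanceAs (IsProper (pullback.fst A.hom B.hom))
  haveI : Flat p.left := inferInstanceAs (Flat (pullback.fst A.hom B.hom))
  obtain ⟨b₀, hb₀⟩ := S0055.result p.left HT hHT.1 (fun W _ => by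
    haveI : CompactSpace ((p.left ⁻¹ᵁ W : (A ⊗ B).left.Opens) : Scheme.{u}) :=
      isCompact_iff_compactSpace.1 (NoetherianSpace.isCompact _)
    exact AmpleX.isAmple_of_iso ((Scheme.Modules.restrictFunctorIsoPullback (p.left ⁻¹ᵁ W).ι).app HT).symm
      (AmpleVan.isAmple_pullback_of_isEmbedding _ (p.left ⁻¹ᵁ W).ι.isOpenEmbedding.isEmbedding hHT))
    _ QCoh.isCoh_structureModule'
  obtain ⟨PB, hPBd, hPB⟩ := exists_chiPoly hh (u := R η' w) (isInvertibleCl_R hη w)
  obtain ⟨Pv, hPvd, hPv⟩ := exists_chiPoly hh hv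
  let C : ℤ := chi A (PicF.cl L)
  by_contra hC
  -- the rank of the direct images is constant
  have hconst : ∀ b : ℕ, b₀ ≤ b → (kappa k : ℚ) * PB.eval (b : ℚ) = Pv.eval 0 := fun b hb =>
    kappa_mul_rank hg w hh hL hH.1 u η' rfl rfl v hv hHT.1 (H23.PicMul.cl_tensor _ _) hid (fun i =>
      (hb₀ b hb (i + 1) i.succ_pos).of_iso ((Coh.RpushAb p.left (i + 1)).mapIso
        ((QCoh.toAbFunctor _).mapIso (CurveTensor.structureTensorIso (CohB1.tensorPow HT b)).symm)))
      PB Pv hPB hPv hC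
  have hPBeq : Polynomial.C (kappa k : ℚ) * PB = Polynomial.C (Pv.eval 0) := poly_eq_of_large b₀ fun b hb => by
    rw [Polynomial.eval_mul, Polynomial.eval_C, Polynomial.eval_C]
    exact hconst b hb
  have hco := congrArg (fun P : Polynomial ℚ => P.coeff h) hPBeq
  simp only [Polynomial.coeff_C_mul, Polynomial.coeff_C, if_neg hpos, mul_eq_zero] at hco
  rcases hco with h0 | h0
  · exact kappa_ne_zero B hHB hh (by exact_mod_cast h0)
  · have h1 := fwdDiff_eval_eq PB hPBd (fun m : ℕ => chi B (PicF.cl HB ^ m)) fun m => by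
      have := hPB (m : ℤ)
      rw [zpow_natCast, Units.val_pow_eq_pow_val, Int.cast_natCast] at this
      exact this.symm
    rw [h0, mul_zero] at h1
    change ((volCl k B.left h (PicF.cl HB) : ℤ) : ℚ) = 0 at h1
    exact (volCl_pos k B.left hHB hh).ne' (by exact_mod_cast h1)

end Groth.Agent.AVEuler

end
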