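import Groth.Agent.AVEuler.IsogIndex
import Groth.Agent.AVEuler.Field
import Groth.Agent.S17505
import Groth.Agent.CohBasic.EulerBC
import Groth.Agent.H23.BcComp

/-!
# Concentrated cohomology over any field

Modules with cohomology in one degree have non-zero Euler characteristic, so are non-degenerate over an algebraic
closure, and the index theorems descend.
-/

noncomputable section

set_option autoImplicit false
set_option backward.isDefEq.respectTransparency false
set_option linter.style.haveILetI false
set_option linter.unusedSectionVars false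
set_option maxHeartbeats 1000000

universe u

open CategoryTheory CategoryTheory.Limits AlgebraicGeometry MonoidalCategory CartesianMonoidalCategory
open scoped MonObj

attribute [-instance] CategoryTheory.catToReflQuiver

namespace Groth.Agent.AVEuler

open H23 H23.CubeAb AVVanish AVDegPoly
open scoped Groth.Agent.H23.PicMul

variable {k : Type u} [Field k]

section closed

variable [IsAlgClosed k] {A : Over (Spec (CommRingCat.of k))} [GrpObj A] [IsProper A.hom]
  [GeometricallyIntegral A.hom]

theorem finite_Fix_of_euler_ne_zero {L : A.left.Modules} (hL : PicF.IsInvertible L)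
    (h : @Curv2.euler k _ A.left ⟨A.hom⟩ L ≠ 0) : (Fix A (PicF.cl L)).Finite := by
  by_contra hnd
  refine h (S17505.result k A L hL (fun hfin => hnd (hfin.subset fun a ha => ?_)))
  exact (PicGrp.cl_eq_cl_iff _ _).1 ha

theorem euler_of_conc {L : A.left.Modules} {i : ℕ} (hi : Conc A.left i L) :
    @Curv2.euler k _ A.left ⟨A.hom⟩ L = (-1) ^ i * (@Module.finrank k (Coh.HH A.left L i) _ _
      (@Coh.moduleOver k _ A.left ⟨A.hom⟩ L i) : ℤ) := by
  letI : A.left.Over (Spec (CommRingCat.of k)) := ⟨A.hom⟩
  refine (finsum_eq_single _ i fun j hj => ?_)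
  haveI := hi.1 j hj
  simp [Module.finrank_zero_of_subsingleton]

theorem finite_Fix_of_conc {L : A.left.Modules} (hL : PicF.IsInvertible L) {i : ℕ} (hi : Conc A.left i L) :
    (Fix A (PicF.cl L)).Finite := by
  letI : A.left.Over (Spec (CommRingCat.of k)) := ⟨A.hom⟩
  haveI : IsProper (A.left ↘ Spec (CommRingCat.of k)) := inferInstanceAs (IsProper A.hom)
  haveI : IsLocallyNoetherian A.left := LocallyOfFiniteType.isLocallyNoetherian A.hom
  haveI := S0002.result k A.left L (AmpleVan.isCoh_invertible hL) i
  haveI : Nontrivial (Coh.HH A.left L i) := not_subsingleton_iff_nontrivial.1 hi.2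
  refine finite_Fix_of_euler_ne_zero hL ?_
  rw [euler_of_conc hi]
  exact mul_ne_zero (pow_ne_zero _ (by norm_num)) (by exact_mod_cast (Module.finrank_pos (R := k)).ne')

/-- The index of every power. -/
theorem conc_tensorPow_any {L : A.left.Modules} (hL : PicF.IsInvertible L) {i : ℕ} (hi : Conc A.left i L)
    {m : ℕ} (hm : 1 ≤ m) : Conc A.left i (CohB1.tensorPow L m) := by
  letI : A.left.Over (Spec (CommRingCat.of k)) := ⟨A.hom⟩
  haveI : IsProper (A.left ↘ Spec (CommRingCat.of k)) := inferInstanceAs (IsProper A.hom)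
  haveI : IsIntegral A.left := GeometricallyIntegral.isIntegral_of_subsingleton A.hom
  haveI : IsNoetherian A.left := CurveCohLib.isNoetherian_of_proper (k := k)
  obtain ⟨g, hg⟩ : ∃ g : ℕ, topologicalKrullDim A.left = g :=
    ⟨_, VarDim.topologicalKrullDim_eq_deg_genericPoint A.hom⟩
  have hnd := finite_Fix_of_conc hL hi
  haveI := S0002.result k A.left L (AmpleVan.isCoh_invertible hL) i
  haveI : Nontrivial (Coh.HH A.left L i) := not_subsingleton_iff_nontrivial.1 hi.2
  have hpos : 1 ≤ Module.finrank k (Coh.HH A.left L i) := Module.finrank_pos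
  -- the powers have non-zero Euler characteristic
  let Lm := CohB1.tensorPow L m
  have hLm : PicF.IsInvertible Lm := InvX.isInvertible_tensorPow hL m
  have hndm : (Fix A (PicF.cl Lm)).Finite := finite_Fix_of_euler_ne_zero hLm (by
    rw [euler_tensorPow A hg hL m, euler_of_conc hi]
    exact mul_ne_zero (pow_ne_zero _ (by exact_mod_cast (show m ≠ 0 by omega)))
      (mul_ne_zero (pow_ne_zero _ (by norm_num)) (by exact_mod_cast (show Module.finrank k (Coh.HH A.left L i) ≠ 0 by omega))))
  obtain ⟨i', hi'⟩ := exists_conc A hLm hndm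
  suffices h : i' = i from h ▸ hi'
  by_contra hne
  let f : ℕ → ℕ := Growth.hf k i L (Coh.structureModule A.left)
  have hf : ∀ N, f N = Growth.hdim k i (CohB1.tensorPow L N) := fun N =>
    Growth.hdim_congr k (CurveTensor.structureTensorIso _) (Growth.isCoh_twist k hL QCoh.isCoh_structureModule' N)
      (AmpleVan.isCoh_invertible (InvX.isInvertible_tensorPow hL N)) i
  -- one step changes little
  obtain ⟨C, hstep⟩ : ∃ C, ∀ N, f (N + 1) ≤ f N + C * Growth.pw g N ∧ f N ≤ f (N + 1) + C * Growth.pw g N := by
    obtain ⟨U, hηU, e, he⟩ := InvX.exists_frame hL (genericPoint A.left)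
    have hgt : topologicalKrullDim A.left < ((g + 1 : ℕ) : WithBot ℕ∞) := by
      rw [hg]; exact_mod_cast g.lt_succ_self
    have IH : ∀ M : A.left.Modules, Coh.IsCoh M → CohB1.support M ⊆ Set.univ \ U → Growth.BddAll k g L M := by
      intro M hM hMs
      refine Growth.bdd_of_dim_lt k hL g ⟨_, isClosed_univ.sdiff U.2⟩ ?_ M hM hMs
      exact Growth.dim_sdiff_lt (IrreducibleSpace.isIrreducible_univ A.left) isClosed_univ (Set.mem_univ _) hηU
        (by rwa [(Homeomorph.Set.univ A.left).isHomeomorph.topologicalKrullDim_eq])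
    obtain ⟨K, I, a, b, c, hK, hI, ha, hb, hc⟩ := Snapper.exists_link_frame hL he
    have hLc := AmpleVan.isCoh_invertible hL
    obtain ⟨err, ⟨C, hC⟩, h⟩ := ((Growth.near_of_isoOn k hL IH hK QCoh.isCoh_structureModule' (Set.subset_univ _)
        (Set.subset_univ _) a ha i).symm.trans
      (Growth.near_of_isoOn k hL IH hK hI (Set.subset_univ _) (Set.subset_univ _) b hb i)).trans
      (Growth.near_of_isoOn k hL IH hLc hI (Set.subset_univ _) (Set.subset_univ _) c hc i).symm
    refine ⟨C, fun N => ?_⟩
    have hs : Growth.hf k i L L N = f (N + 1) := by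
      rw [hf]
      exact Growth.hdim_congr k (show ShStab.twist A.left L L N ≅ CohB1.tensorPow L (N + 1) from
        CurveTensor.commIso _ _) (Growth.isCoh_twist k hL hLc N)
        (AmpleVan.isCoh_invertible (InvX.isInvertible_tensorPow hL (N + 1))) i
    obtain ⟨h1, h2⟩ := h N
    rw [hs] at h1 h2
    change f N ≤ f (N + 1) + err N at h1
    change f (N + 1) ≤ f N + err N at h2
    have := hC N
    omega
  have hclose : ∀ N s, f N ≤ f (N + s) + s * (C * Growth.pw g (N + s)) := by
    intro N s
    induction s with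
    | zero => simp
    | succ s ih =>
      have h1 := (hstep (N + s)).2
      have h2 : C * Growth.pw g (N + s) ≤ C * Growth.pw g (N + (s + 1)) :=
        Nat.mul_le_mul_left C (Growth.pw_mono g (by omega))
      have h3 := Nat.mul_le_mul_left s h2
      rw [← add_assoc N s 1, Nat.succ_mul] at *
      omega
  let n := C * 8 ^ g + 1
  let N := m * n ^ 2
  let q := N.sqrt
  have hnq : n ≤ q := Nat.le_sqrt'.2 (Nat.le_mul_of_pos_left _ hm)
  have hq2 : q ^ 2 ≤ N := Nat.sqrt_le' N
  have hqN : N < (q + 1) ^ 2 := Nat.lt_succ_sqrt' N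
  -- no cohomology at `N`, a lot at the square below
  have hzero : f N = 0 := by
    rw [hf]
    have h := (conc_tensorPow hLm hndm (show 1 ≤ n by omega) hi').1 i fun e => hne e.symm
    have e : CohB1.tensorPow Lm (n ^ 2) ≅ CohB1.tensorPow L N := (PicMul.cl_eq_iff.1 (by
      rw [PicMul.cl_tensorPow, PicMul.cl_tensorPow, PicMul.cl_tensorPow, ← pow_mul])).some
    haveI := QCoh.subsingleton_HH_of_iso e i h
    exact Module.finrank_zero_of_subsingleton
  have hbig : (q ^ 2) ^ g ≤ f (q ^ 2) := by
    rw [hf]
    have hcq := conc_tensorPow hL hnd (show 1 ≤ q by omega) hi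
    have h := euler_tensorPow A hg hL (q ^ 2)
    rw [euler_of_conc hcq, euler_of_conc hi, mul_left_comm] at h
    have h2 := mul_left_cancel₀ (pow_ne_zero _ (by norm_num)) h
    have h3 : Module.finrank k (Coh.HH A.left (CohB1.tensorPow L (q ^ 2)) i) =
        (q ^ 2) ^ g * Module.finrank k (Coh.HH A.left L i) := by exact_mod_cast h2
    show (q ^ 2) ^ g ≤ Module.finrank k (Coh.HH A.left (CohB1.tensorPow L (q ^ 2)) i)
    rw [h3]
    exact Nat.le_mul_of_pos_right _ hpos
  have h := hclose (q ^ 2) (N - q ^ 2)
  rw [Nat.add_sub_cancel' hq2, hzero, zero_add] at h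
  have hs : N - q ^ 2 ≤ 2 * q := by
    rw [show (q + 1) ^ 2 = q ^ 2 + 2 * q + 1 by ring] at hqN
    omega
  have h' := hbig.trans (h.trans (Nat.mul_le_mul_right _ hs))
  cases hg' : g with
  | zero => simp [hg', Growth.pw] at h'
  | succ e =>
    rw [hg'] at h'
    have h1 : Growth.pw (e + 1) N ≤ 4 ^ e * (q ^ 2) ^ e := by
      rw [← mul_pow]
      refine Nat.pow_le_pow_left ?_ e
      have : q + 1 ≤ 2 * q := by omega
      calc N + 1 ≤ (q + 1) ^ 2 := hqN
        _ ≤ (2 * q) ^ 2 := Nat.pow_le_pow_left this 2
        _ = 4 * q ^ 2 := by ring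
    have h2 : q * (q * (q ^ 2) ^ e) ≤ (2 * C * 4 ^ e) * (q * (q ^ 2) ^ e) :=
      calc q * (q * (q ^ 2) ^ e) = (q ^ 2) ^ (e + 1) := by ring
        _ ≤ 2 * q * (C * Growth.pw (e + 1) N) := h'
        _ ≤ 2 * q * (C * (4 ^ e * (q ^ 2) ^ e)) := Nat.mul_le_mul_left _ (Nat.mul_le_mul_left _ h1)
        _ = (2 * C * 4 ^ e) * (q * (q ^ 2) ^ e) := by ring
    have h3 := Nat.le_of_mul_le_mul_right h2 (Nat.mul_pos (by omega) (Nat.pow_pos (Nat.pow_pos (by omega))))
    have h4 : 2 * C * 4 ^ e ≤ C * 8 ^ g := by
      rw [hg', pow_succ, show C * (8 ^ e * 8) = 8 * C * 8 ^ e by ring]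
      exact Nat.mul_le_mul (Nat.mul_le_mul_right _ (by norm_num)) (Nat.pow_le_pow_left (by norm_num) e)
    omega

end closed

section descent

variable (X : Over (Spec (CommRingCat.of k)))

/-- the algebraic closure -/
abbrev barMap : Spec (CommRingCat.of (AlgebraicClosure k)) ⟶ Spec (CommRingCat.of k) :=
  Spec.map (CommRingCat.ofHom (algebraMap k (AlgebraicClosure k)))

/-- the extension to the algebraic closure -/
abbrev bar : Over (Spec (CommRingCat.of (AlgebraicClosure k))) := (Over.pullback (barMap (k := k))).obj X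

/-- the projection -/
abbrev barP : (bar X).left ⟶ X.left := pullback.fst X.hom barMap

theorem conc_bar_iff [IsProper X.hom] {L : X.left.Modules} (hL : PicF.IsInvertible L) (i : ℕ) :
    Conc (bar X).left i ((Scheme.Modules.pullback (barP X)).obj L) ↔ Conc X.left i L := by
  letI : X.left.Over (Spec (CommRingCat.of k)) := ⟨X.hom⟩
  haveI : IsProper (X.left ↘ Spec (CommRingCat.of k)) := inferInstanceAs (IsProper X.hom)
  have h : ∀ j, Subsingleton (Coh.HH (bar X).left ((Scheme.Modules.pullback (barP X)).obj L) j) ↔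
      Subsingleton (Coh.HH X.left L j) := fun j =>
    CohBasic.subsingleton_HH_bc_iff k X.left (AlgebraicClosure k) (ProjUPX.isQCoh_of_isInvertible hL) j
  simp only [Conc, h]

instance [GrpObj X] : GrpObj (bar X) := Functor.grpObjObj

instance [IsProper X.hom] : IsProper (bar X).hom := inferInstanceAs (IsProper (pullback.snd X.hom barMap))

instance [GeometricallyIntegral X.hom] : GeometricallyIntegral (bar X).hom :=
  inferInstanceAs (GeometricallyIntegral (pullback.snd X.hom barMap))

end descent

end Groth.Agent.AVEuler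

end
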