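import Groth.Agent.SpObjSS.SiteLeray
import Groth.Agent.H6SpSeq.Stationary
import Groth.Agent.SiteBase.LerayTop
import Groth.Agent.QCoh.Ab.MV
import Groth.Agent.PnCoh.Chow.Relative
import Groth.Agent.S8355

/-!
# Corner terms of the Leray spectral sequence

A term of the second page with no possible differentials contributes to the abutment.
-/

noncomputable section

set_option autoImplicit false
set_option linter.style.haveILetI false

universe u

open CategoryTheory CategoryTheory.Limits TopologicalSpace Opposite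

namespace Groth.Agent.AVEuler

variable {X Y : TopCat.{u}} (f : X ⟶ Y) (F : CohTop.Ab X)

/-- The Leray spectral sequence of a continuous map. -/
theorem exists_leray_top :
    ∃ (E : E₂CohomologicalSpectralSequence AddCommGrpCat.{u})
      (a : SpSeq.Abutment E (fun n : ℤ => if 0 ≤ n then AddCommGrpCat.of (CohTop.HU F n.toNat (⊤ : Opens X))
        else AddCommGrpCat.of PUnit.{u + 1})),
      (∀ n, a.IsFinite n) ∧ SpSeq.IsBounded E ∧
      ∀ p q : ℤ, Nonempty ((E.page 2 le_rfl).X (p, q) ≅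
        (if 0 ≤ p ∧ 0 ≤ q then AddCommGrpCat.of (CohTop.HU ((CohTop.Rpush f q.toNat).obj F) p.toNat (⊤ : Opens Y))
          else AddCommGrpCat.of PUnit.{u + 1})) :=
  SpObjSS.exists_grothendieck_spectralSequence' (CohTop.push f)
    (SpObjSS.secAt (Opens.grothendieckTopology Y) ⊤)
    (fun Q hQ => by
      haveI := @SiteBase.injective_push _ _ f Q hQ
      exact Groth.Agent.TriCat.isRightAcyclic_of_injective _) F
    (fun n => AddCommGrpCat.of (CohTop.HU F n (⊤ : Opens X)))
    (fun n => ⟨(SiteBase.rightDerivedCongr (F := CohTop.push f ⋙ SpObjSS.secAt (Opens.grothendieckTopology Y) ⊤)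
      (G := SpObjSS.secAt (Opens.grothendieckTopology X) ⊤) (Iso.refl _) n).app F ≪≫
      SpObjSS.rightDerivedSecAtIso (Opens.grothendieckTopology X) ⊤ n F⟩)
    (fun p q => AddCommGrpCat.of (CohTop.HU ((CohTop.Rpush f q).obj F) p (⊤ : Opens Y)))
    (fun p _ => ⟨SpObjSS.rightDerivedSecAtIso (Opens.grothendieckTopology Y) ⊤ p _⟩)
    _ (AddCommGrpCat.isZero_of_subsingleton _)

theorem isZero_grPiece {A : Type*} [Category A] [Abelian A] {Z : A} (G : ℤ → Subobject Z) (hG : Antitone G) (p : ℤ)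
    (hZ : IsZero Z) : IsZero (SpSeq.grPiece G hG p) := by
  show IsZero (cokernel ((G (p + 1)).ofLE (G p) _))
  exact IsZero.of_epi (cokernel.π _) (IsZero.of_mono (G p).arrow hZ)

/-- A term without neighbours that could support differentials survives. -/
theorem not_subsingleton_H_of_corner (a b : ℕ)
    (hne : ¬ Subsingleton (CohTop.H ((CohTop.Rpush f b).obj F) a))
    (hout : ∀ p q : ℕ, a < p → q < b → Subsingleton (CohTop.H ((CohTop.Rpush f q).obj F) p))
    (hin : ∀ p q : ℕ, p < a → b < q → Subsingleton (CohTop.H ((CohTop.Rpush f q).obj F) p)) :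
    ¬ Subsingleton (CohTop.H F (a + b)) := by
  intro hH
  obtain ⟨E, ab, -, -, hP2⟩ := exists_leray_top f F
  have hz : ∀ p q : ℤ, (p < 0 ∨ q < 0 ∨ ((a : ℤ) < p ∧ q < b) ∨ (p < a ∧ (b : ℤ) < q)) →
      IsZero ((E.page 2 le_rfl).X (p, q)) := by
    intro p q hpq
    obtain ⟨e⟩ := hP2 p q
    refine IsZero.of_iso ?_ e
    split_ifs with h
    · haveI : Subsingleton (CohTop.HU ((CohTop.Rpush f q.toNat).obj F) p.toNat (⊤ : Opens Y)) := by
        refine PnCoh.Chow.subsingleton_HU_top _ _ ?_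
        rcases hpq with h' | h' | ⟨h', h''⟩ | ⟨h', h''⟩
        · omega
        · omega
        · exact hout _ _ (by omega) (by omega)
        · exact hin _ _ (by omega) (by omega)
      exact AddCommGrpCat.isZero_of_subsingleton _
    · exact AddCommGrpCat.isZero_of_subsingleton _
  have hst : SpSeq.StationaryAt E ((a : ℤ), (b : ℤ)) 2 := by
    refine ⟨le_rfl, fun r h₀ hr => ?_⟩
    constructor
    · refine ((S8355.result E 2 le_rfl _ (hz _ _ ?_)).1 r hr).eq_of_src _ _
      simp only [Prod.fst_sub, Prod.snd_sub]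
      omega
    · refine ((S8355.result E 2 le_rfl _ (hz _ _ ?_)).1 r hr).eq_of_tgt _ _
      simp only [Prod.fst_add, Prod.snd_add]
      omega
  let pq : ℤ × ℤ := ((a : ℤ), (b : ℤ))
  obtain ⟨e₁⟩ := H6SpSeq.nonempty_pageIso hst (max 2 (ab.rk pq)) (le_max_left _ _)
  obtain ⟨e₂⟩ := H6SpSeq.nonempty_pageIso (ab.stat pq) (max 2 (ab.rk pq)) (le_max_right _ _)
  obtain ⟨e₃⟩ := hP2 a b
  rw [if_pos ⟨Int.natCast_nonneg _, Int.natCast_nonneg _⟩] at e₃
  have hobj : IsZero ((fun n : ℤ => if 0 ≤ n then AddCommGrpCat.of (CohTop.HU F n.toNat (⊤ : Opens X))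
      else AddCommGrpCat.of PUnit.{u + 1}) (pq.1 + pq.2)) := by
    simp only [pq]
    rw [if_pos (by omega), show ((a : ℤ) + (b : ℤ)).toNat = a + b by omega]
    haveI := PnCoh.Chow.subsingleton_HU_top F (a + b) hH
    exact AddCommGrpCat.isZero_of_subsingleton _
  have hgr : IsZero (SpSeq.grPiece (ab.fil (pq.1 + pq.2)) (ab.anti (pq.1 + pq.2)) pq.1) :=
    isZero_grPiece (ab.fil (pq.1 + pq.2)) (ab.anti _) pq.1 hobj
  have h2 : IsZero (AddCommGrpCat.of (CohTop.HU ((CohTop.Rpush f b).obj F) a (⊤ : Opens Y))) := by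
    refine IsZero.of_iso hgr ((eqToIso ?_) ≪≫ e₃.symm ≪≫ e₁ ≪≫ e₂.symm ≪≫ ab.β pq)
    simp
  refine hne (QCoh.Ab.subsingleton_H_of_HU_top _ _ ?_)
  exact AddCommGrpCat.subsingleton_of_isZero h2

end Groth.Agent.AVEuler

end
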