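import Groth.Agent.AcycLib.Cochain
import Groth.Agent.LC.GorRows
import Groth.Agent.FlatCxLib.Structure
import Groth.Agent.FlatCxLib.Exchange

/-!
# Complexes computing cohomology universally over a regular local ring

A complex of finite free modules which is universally exact in positive degrees and has homology of finite
length is exact above the degree `-g`.
-/

noncomputable section

set_option autoImplicit false
set_option linter.style.haveILetI false

universe u

open CategoryTheory CategoryTheory.Limits IsLocalRing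

namespace Groth.Agent.AVEuler

open Groth.Agent.FlatCxLib

/-- Homology as cycles modulo boundaries. -/
theorem exists_homology_equiv {R : Type u} [Ring R] {ι : Type*} {c : ComplexShape ι}
    (K : HomologicalComplex (ModuleCat.{u} R) c) {i j k : ι} (hi : c.prev j = i) (hk : c.next j = k) :
    Nonempty ((LinearMap.ker (K.d j k).hom ⧸
      Submodule.comap (LinearMap.ker (K.d j k).hom).subtype (LinearMap.range (K.d i j).hom)) ≃ₗ[R] K.homology j) := by
  have h : LinearMap.ker (clsHom K j k hk).hom =
      Submodule.comap (LinearMap.ker (K.d j k).hom).subtype (LinearMap.range (K.d i j).hom) :=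
    Submodule.ext fun ⟨x, hx⟩ => cls_eq_zero_iff hi hk x hx
  exact ⟨(Submodule.quotEquivOfEq _ _ h.symm).trans ((clsHom K j k hk).hom.quotKerEquivOfSurjective fun a => by
    obtain ⟨x, hx, rfl⟩ := cls_surjective hk a
    exact ⟨⟨x, hx⟩, rfl⟩)⟩

variable {B : Type u} [CommRing B] (P : ChainComplex (ModuleCat.{u} B) ℤ)

/-- The terms of the truncation. -/
def truncX : ℕ → ModuleCat.{u} B
  | 0 => ModuleCat.of B (Coker P 1 0)
  | n + 1 => P.X (Int.negSucc n)

/-- The differentials of the truncation. -/
def truncD : ∀ n, truncX P n ⟶ truncX P (n + 1)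
  | 0 => ModuleCat.ofHom (cokerDesc P 1 0 (Int.negSucc 0))
  | n + 1 => P.d (Int.negSucc n) (Int.negSucc (n + 1))

/-- The truncation. -/
def truncCx : CochainComplex (ModuleCat.{u} B) ℕ :=
  CochainComplex.of (truncX P) (truncD P) fun n => by
    cases n with
    | zero =>
      refine ModuleCat.hom_ext (LinearMap.ext fun x => ?_)
      obtain ⟨x, rfl⟩ := Submodule.Quotient.mk_surjective _ x
      exact LinearMap.congr_fun (ModuleCat.hom_ext_iff.1 (P.d_comp_d 0 (Int.negSucc 0) (Int.negSucc 1))) x
    | succ n => exact P.d_comp_d _ _ _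

theorem truncCx_d (n : ℕ) : (truncCx P).d n (n + 1) = truncD P n :=
  CochainComplex.of_d (truncX P) (truncD P) n

theorem nonempty_homology_trunc : ∀ n : ℕ,
    Nonempty ((truncCx P).homology n ≃ₗ[B] P.homology (-(n : ℤ)))
  | 0 => by
    obtain ⟨e⟩ := exists_homology_equiv (truncCx P) (i := 0) (j := 0) (k := 1)
      CochainComplex.prev_nat_zero (CochainComplex.next ℕ 0)
    have h0 : (truncCx P).d 0 0 = 0 := (truncCx P).shape 0 0 (by simp)
    have hd : (truncCx P).d 0 1 = ModuleCat.ofHom (cokerDesc P 1 0 (Int.negSucc 0)) := truncCx_d P 0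
    let f := hom'ToCoker P 1 0 (Int.negSucc 0)
    have hrange : LinearMap.range f = LinearMap.ker (cokerDesc P 1 0 (Int.negSucc 0)) := by
      rw [← LinearMap.ker_rangeRestrict]
      exact (LinearMap.exact_iff.1 (exact_hom'ToCoker P 1 0 (Int.negSucc 0))).symm
    let e1 : Hom' P 1 0 (Int.negSucc 0) ≃ₗ[B] LinearMap.ker ((truncCx P).d 0 1).hom :=
      (LinearEquiv.ofInjective f (hom'ToCoker_injective P _ _ _)).trans
        (LinearEquiv.ofEq _ _ (by rw [hd]; exact hrange))
    have hbot : Submodule.comap (LinearMap.ker ((truncCx P).d 0 1).hom).subtype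
        (LinearMap.range ((truncCx P).d 0 0).hom) = ⊥ := by
      rw [h0, ModuleCat.hom_zero, LinearMap.range_zero, Submodule.comap_bot, Submodule.ker_subtype]
    exact ⟨e.symm.trans (((Submodule.quotEquivOfEqBot _ hbot).trans e1.symm).trans (hom'Equiv rfl rfl))⟩
  | n + 1 => by
    obtain ⟨e⟩ := exists_homology_equiv (truncCx P) (i := n) (j := n + 1) (k := n + 2)
      (CochainComplex.prev_nat_succ n) (CochainComplex.next ℕ (n + 1))
    have hd : (truncCx P).d (n + 1) (n + 2) = P.d (Int.negSucc n) (Int.negSucc (n + 1)) :=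
      truncCx_d P (n + 1)
    have hrange : LinearMap.range ((truncCx P).d n (n + 1)).hom =
        LinearMap.range (P.d (-(n : ℤ)) (Int.negSucc n)).hom := by
      rw [show (truncCx P).d n (n + 1) = truncD P n from truncCx_d P n]
      cases n with
      | zero => exact range_cokerDesc P 1 0 (Int.negSucc 0)
      | succ n => rfl
    let e1 : LinearMap.ker ((truncCx P).d (n + 1) (n + 2)).hom ≃ₗ[B] Cyc P (Int.negSucc n) (Int.negSucc (n + 1)) :=
      LinearEquiv.ofEq _ _ (by rw [hd]; rfl)
    exact ⟨e.symm.trans ((Submodule.Quotient.equiv _ _ e1 (by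
      ext ⟨x, hx⟩
      constructor
      · rintro ⟨⟨y, hy⟩, hy', hxy⟩
        obtain ⟨w, hw⟩ := hrange ▸ (Submodule.mem_comap.1 hy' : _ ∈ _)
        exact ⟨w, Subtype.ext (hw.trans (congrArg Subtype.val hxy))⟩
      · rintro ⟨w, hw⟩
        refine ⟨⟨x, by rw [hd]; exact hx⟩, ?_, rfl⟩
        show x ∈ LinearMap.range ((truncCx P).d n (n + 1)).hom
        rw [hrange]
        exact ⟨w, congrArg Subtype.val hw⟩)).trans
      (hom'Equiv (q := Int.negSucc n) (by omega) (by omega)))⟩

variable [IsRegularLocalRing B]

/-- The lemma of Mumford for a complex that computes cohomology universally. -/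
theorem isZero_homology_neg {g : ℕ} (hg : ringKrullDim B = g)
    (hfree : ∀ i, Module.Free B (P.X i)) (hfin : ∀ i, Module.Finite B (P.X i))
    (hflat : Module.Flat B (Coker P 1 0))
    (hfl : ∀ n : ℕ, IsFiniteLength B (P.homology (-(n : ℤ)))) (n : ℕ) (hn : n < g) :
    IsZero (P.homology (-(n : ℤ))) := by
  haveI := Groth.Agent.LC.gorenstein_of_isRegularLocalRing (R := B)
  haveI := Groth.Agent.LC.isCohenMacaulayLocalRing_of_gorenstein (R := B)
  have hd : LocCoh.depth B B = (g : ℕ∞) := by
    have h := LocCoh.IsCohenMacaulayLocalRing.supportDim_eq_depth (R := B)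
    rw [Module.supportDim_self_eq_ringKrullDim, hg] at h
    exact (WithBot.coe_inj.1 h).symm
  obtain ⟨e⟩ := nonempty_homology_trunc P n
  have hX : ∀ j, Module.Free B ((truncCx P).X j) ∧ Module.Finite B ((truncCx P).X j) := fun j => by
    cases j with
    | zero =>
      haveI := hfin 0
      haveI : Module.Finite B (Coker P 1 0) := Module.Finite.quotient B _
      exact ⟨Module.free_of_flat_of_isLocalRing (R := B) (P := Coker P 1 0), this⟩
    | succ j => exact ⟨hfree _, hfin _⟩
  have h := AcycLib.isZero_homology (truncCx P) g (fun j => by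
    obtain ⟨_, _⟩ := hX j
    exact AcycLib.depthGE_free g hd.ge _) (fun j => by
      obtain ⟨e'⟩ := nonempty_homology_trunc P j
      exact e'.symm.isFiniteLength (hfl j)) n hn
  haveI := ModuleCat.subsingleton_of_isZero h
  haveI : Subsingleton (P.homology (-(n : ℤ))) := e.symm.toEquiv.subsingleton
  exact ModuleCat.isZero_of_subsingleton _

end Groth.Agent.AVEuler

end
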