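import Groth.Agent.AVVanish.Sheaf
import Groth.Agent.AVVanish.Fibre
import Groth.Agent.AVDegPoly.RankMult
import Groth.Agent.CurveBC.Geometry
import Groth.Agent.AmpleVan.Uniform

/-! Modules on the point and Euler characteristics under isomorphisms. -/

set_option autoImplicit false
set_option backward.isDefEq.respectTransparency false
set_option linter.style.haveILetI false

universe u

open CategoryTheory CategoryTheory.Limits AlgebraicGeometry

attribute [-instance] CategoryTheory.catToReflQuiver

namespace Groth.Agent.AVEuler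

variable {k : Type u} [Field k]

set_option maxHeartbeats 1000000 in
/-- coherent modules on a point are free -/
theorem exists_free (M : (Spec (CommRingCat.of k)).Modules) (hM : Coh.IsCoh M) :
    ∃ n : ℕ, Nonempty (M ≅ FlatMod.freeMod (Spec (CommRingCat.of k)) n) := by
  classical
  obtain ⟨n, φ, ψ, hsum, hid, horth⟩ := exists_basis M hM
  refine ⟨n, ⟨{
    hom := ∑ j, ψ j ≫ Sigma.ι (fun _ : Fin n => Coh.structureModule (Spec (CommRingCat.of k))) j
    inv := Sigma.desc φ
    hom_inv_id := ?_
    inv_hom_id := ?_ }⟩⟩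
  · rw [Preadditive.sum_comp]
    simp only [Category.assoc, Sigma.ι_desc]
    exact hsum
  · refine Sigma.hom_ext _ _ fun i => ?_
    rw [Sigma.ι_desc_assoc, Preadditive.comp_sum, Finset.sum_eq_single i, reassoc_of% (hid i), Category.comp_id]
    · intro j _ hj
      rw [reassoc_of% (horth i j hj.symm), zero_comp]
    · simp
where
  exists_basis (M : (Spec (CommRingCat.of k)).Modules) (hM : Coh.IsCoh M) :
      ∃ (n : ℕ) (φ : Fin n → (Coh.structureModule _ ⟶ M)) (ψ : Fin n → (M ⟶ Coh.structureModule _)),
        ∑ j, ψ j ≫ φ j = 𝟙 M ∧ (∀ j, φ j ≫ ψ j = 𝟙 _) ∧ ∀ i j, i ≠ j → φ i ≫ ψ j = 0 := by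
    classical
    haveI : M.IsQuasicoherent := hM.1
    haveI : IsIso (Scheme.Modules.fromTildeΓ (R := CommRingCat.of k) M) :=
      Scheme.Modules.isIso_fromTildeΓ_of_isQuasicoherent (R := CommRingCat.of k) M
    let F := tilde.functor (CommRingCat.of k)
    let V : ModuleCat (CommRingCat.of k) := (moduleSpecΓFunctor (R := CommRingCat.of k)).obj M
    have hfin : Module.Finite Γ(Spec (CommRingCat.of k), ⊤) Γ(M, ⊤) :=
      QCoh.finite_of_isFT hM.1 hM.2 (isAffineOpen_top _)
    haveI : Module.Finite k V := by
      obtain ⟨s, hs⟩ := hfin.fg_top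
      let s' : Finset V := s
      refine ⟨⟨s', top_le_iff.1 fun x _ => ?_⟩⟩
      let x' : Γ(M, ⊤) := x
      have hx : x' ∈ Submodule.span Γ(Spec (CommRingCat.of k), ⊤) (s : Set Γ(M, ⊤)) := hs ▸ Submodule.mem_top
      refine Submodule.span_induction (p := fun (y : Γ(M, ⊤)) _ => (y : V) ∈ Submodule.span k (s' : Set V))
        (fun y hy => Submodule.subset_span hy) (Submodule.zero_mem _)
        (fun _ _ _ _ => Submodule.add_mem _) (fun c y _ hy => ?_) hx
      have : c = (Scheme.ΓSpecIso (CommRingCat.of k)).inv ((Scheme.ΓSpecIso (CommRingCat.of k)).hom c) :=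
        (congr($((Scheme.ΓSpecIso (CommRingCat.of k)).hom_inv_id) c)).symm
      rw [this]
      exact Submodule.smul_mem _ ((Scheme.ΓSpecIso (CommRingCat.of k)).hom c) hy
    let b := Module.finBasis k V
    let e : F.obj V ≅ M := asIso (Scheme.Modules.fromTildeΓ (R := CommRingCat.of k) M)
    refine ⟨_, fun j => F.map (ModuleCat.ofHom (X := CommRingCat.of k) (LinearMap.toSpanSingleton k V (b j))) ≫ e.hom,
      fun j => e.inv ≫ F.map (ModuleCat.ofHom (Y := CommRingCat.of k) (b.coord j)), ?_, fun j => ?_, fun i j hij => ?_⟩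
    · have hsum : ∑ j, ModuleCat.ofHom (Y := CommRingCat.of k) (b.coord j) ≫
          ModuleCat.ofHom (X := CommRingCat.of k) (LinearMap.toSpanSingleton k V (b j)) = 𝟙 V := by
        ext x
        simp only [ModuleCat.hom_sum, ModuleCat.hom_comp, ModuleCat.hom_id, ModuleCat.hom_ofHom,
          LinearMap.sum_apply, LinearMap.comp_apply, LinearMap.id_apply, LinearMap.toSpanSingleton_apply]
        exact b.sum_repr x
      have := congrArg (fun t => e.inv ≫ F.map t ≫ e.hom) hsum
      simp only [F.map_sum, Preadditive.sum_comp, Preadditive.comp_sum, F.map_comp, F.map_id, Category.id_comp,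
        Iso.inv_hom_id, Category.assoc] at this
      simpa only [Category.assoc] using this
    · rw [Category.assoc, Iso.hom_inv_id_assoc, ← F.map_comp]
      refine (congrArg F.map ?_).trans (F.map_id _)
      ext
      simp
    · rw [Category.assoc, Iso.hom_inv_id_assoc, ← F.map_comp]
      refine (congrArg F.map ?_).trans (F.map_zero _ _)
      ext
      simp [hij]

/-- the Euler characteristic does not see isomorphisms of schemes -/
theorem euler_pullback_iso {X X' : Scheme.{u}} [X.Over (Spec (CommRingCat.of k))] [X'.Over (Spec (CommRingCat.of k))]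
    [IsProper (X ↘ Spec (CommRingCat.of k))] (θ : X' ⟶ X) [IsIso θ]
    (hθ : θ ≫ (X ↘ Spec (CommRingCat.of k)) = X' ↘ Spec (CommRingCat.of k)) {F : X.Modules} (hF : Coh.IsQCoh F) :
    Curv2.euler k X' ((Scheme.Modules.pullback θ).obj F) = Curv2.euler k X F := by
  haveI : CompactSpace X := AmpleVan.compactSpace_of_proper (A := k) (X := X)
  haveI : X.IsSeparated := AmpleVan.isSeparated_of_proper (A := k) (X := X)
  have hid : Spec.map (CommRingCat.ofHom (algebraMap k k)) = 𝟙 _ := by
    rw [show CommRingCat.ofHom (algebraMap k k) = 𝟙 (CommRingCat.of k) from rfl, Spec.map_id]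
  have hpb : IsPullback θ (X' ↘ Spec (CommRingCat.of k)) (X ↘ Spec (CommRingCat.of k))
      (Spec.map (CommRingCat.ofHom (algebraMap k k))) := by
    haveI : IsIso (Spec.map (CommRingCat.ofHom (algebraMap k k))) := by rw [hid]; infer_instance
    refine IsPullback.of_horiz_isIso ⟨?_⟩
    rw [hid, Category.comp_id, hθ]
  refine finsum_congr fun i => ?_
  obtain ⟨e⟩ := QCoh.nonempty_HH_flat_bc (A := k) (B := k) θ hpb hF i
  rw [(e.trans (TensorProduct.lid k (Coh.HH X F i))).finrank_eq]

end Groth.Agent.AVEuler
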