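import Groth.Agent.AVEuler.Split
import Groth.Agent.AVEuler.Point
import Groth.Agent.H23.CoverPush
import Groth.Agent.S9716
import Groth.Agent.KZ.OpenExt
import Mathlib.AlgebraicGeometry.Morphisms.Etale

/-!
# Euler characteristics under finite étale covers

Induction on the degree: over itself a finite étale cover splits off the diagonal.
-/

noncomputable section

set_option autoImplicit false
set_option linter.style.haveILetI false
set_option linter.unusedSectionVars false
set_option backward.isDefEq.respectTransparency false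
set_option backward.isDefEq.respectTransparency.types false

universe u

open CategoryTheory CategoryTheory.Limits AlgebraicGeometry TopologicalSpace

attribute [-instance] CategoryTheory.catToReflQuiver

namespace Groth.Agent.AVEuler

open Groth.Agent

section Clopen

variable {X : Scheme.{u}} {U V : X.Opens}

theorem isZero_stalk_resMap {H : X.Modules} (hUV : Disjoint (U : Set X) V) {x : X} (hx : x ∈ U) :
    IsZero ((DerSch.stalkFunctor X x).obj ((Scheme.Modules.pushforward V.ι).obj (H.restrict V.ι))) :=
  Snapper.notMem_support_iff.1 (Snapper.notMem_support_push hx (by rw [hUV.inter_eq]; exact Set.empty_disjoint _))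

/-- A module is the sum of its restrictions to the two halves of a clopen partition. -/
theorem nonempty_clopen_split (hUV : Disjoint (U : Set X) V) (hcov : (U : Set X) ∪ V = Set.univ) (H : X.Modules) :
    Nonempty (H ≅ (Scheme.Modules.pushforward U.ι).obj (H.restrict U.ι) ⊞
      (Scheme.Modules.pushforward V.ι).obj (H.restrict V.ι)) := by
  let c := biprod.lift (Snapper.resMap U H) (Snapper.resMap V H)
  suffices IsIso c from ⟨asIso c⟩
  refine KFlatLib.isIso_of_stalk c fun x => ?_
  let S := DerSch.stalkFunctor X x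
  haveI : S.Additive := inferInstance
  haveI := preservesBinaryBiproducts_of_preservesBiproducts S
  suffices IsIso (S.map c ≫ (S.mapBiprod _ _).hom) from IsIso.of_isIso_comp_right _ (S.mapBiprod _ _).hom
  have hc : S.map c ≫ (S.mapBiprod _ _).hom =
      biprod.lift (S.map (Snapper.resMap U H)) (S.map (Snapper.resMap V H)) := by
    apply biprod.hom_ext <;>
      simp [c, Functor.mapBiprod_hom, ← Functor.map_comp]
  rw [hc]
  rcases (show x ∈ (U : Set X) ∪ V by rw [hcov]; trivial) with hx | hx
  · haveI : IsIso (S.map (Snapper.resMap U H)) := Snapper.isoOn_resMap U H x hx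
    have hz := isZero_stalk_resMap (H := H) hUV hx
    refine ⟨biprod.fst ≫ inv (S.map (Snapper.resMap U H)), by simp, ?_⟩
    apply biprod.hom_ext
    · simp
    · exact hz.eq_of_tgt _ _
  · haveI : IsIso (S.map (Snapper.resMap V H)) := Snapper.isoOn_resMap V H x hx
    have hz := isZero_stalk_resMap (H := H) hUV.symm hx
    refine ⟨biprod.snd ≫ inv (S.map (Snapper.resMap V H)), by simp, ?_⟩
    apply biprod.hom_ext
    · exact hz.eq_of_tgt _ _
    · simp

theorem isClosedImmersion_ι (hUV : Disjoint (U : Set X) V) (hcov : (U : Set X) ∪ V = Set.univ) :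
    IsClosedImmersion U.ι := by
  refine .of_isPreimmersion _ ?_
  rw [Scheme.Opens.range_ι, show (U : Set X) = (V : Set X)ᶜ from
    (IsCompl.eq_compl ⟨hUV, codisjoint_iff.2 hcov⟩)]
  exact V.2.isClosed_compl

variable (k : Type u) [Field k] [X.Over (Spec (CommRingCat.of k))] [IsProper (X ↘ Spec (CommRingCat.of k))]

/-- Euler characteristics along a clopen partition. -/
theorem euler_clopen (hUV : Disjoint (U : Set X) V) (hcov : (U : Set X) ∪ V = Set.univ) {H : X.Modules}
    (hH : Coh.IsCoh H) :
    Curv2.euler k X H =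
      @Curv2.euler k _ (U : Scheme.{u}) ⟨U.ι ≫ (X ↘ Spec (CommRingCat.of k))⟩ (H.restrict U.ι) +
      @Curv2.euler k _ (V : Scheme.{u}) ⟨V.ι ≫ (X ↘ Spec (CommRingCat.of k))⟩ (H.restrict V.ι) := by
  haveI : IsNoetherian X := CurveCohLib.isNoetherian_of_proper (k := k)
  haveI := isClosedImmersion_ι hUV hcov
  haveI := isClosedImmersion_ι hUV.symm ((Set.union_comm _ _).trans hcov)
  obtain ⟨e⟩ := nonempty_clopen_split hUV hcov H
  have hU : Coh.IsCoh (H.restrict U.ι) := KZ.Localization.isCoh_restrict U.ι hH
  have hV : Coh.IsCoh (H.restrict V.ι) := KZ.Localization.isCoh_restrict V.ι hH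
  have cU := isCoh_push_of_finite U.ι hU
  have cV := isCoh_push_of_finite V.ι hV
  rw [(HilbPoly.additive_euler k).iso _ _ ⟨e⟩,
    (HilbPoly.additive_euler k).add _ (ShortComplex.Splitting.ofHasBinaryBiproduct
      ((Scheme.Modules.pushforward U.ι).obj (H.restrict U.ι))
      ((Scheme.Modules.pushforward V.ι).obj (H.restrict V.ι))).shortExact cU
      ((KZ.isCoh_biprod cU cV)) cV]
  letI : (U : Scheme.{u}).Over (Spec (CommRingCat.of k)) := ⟨U.ι ≫ (X ↘ Spec (CommRingCat.of k))⟩
  letI : (V : Scheme.{u}).Over (Spec (CommRingCat.of k)) := ⟨V.ι ≫ (X ↘ Spec (CommRingCat.of k))⟩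
  exact congrArg₂ (· + ·) (euler_push k U.ι rfl hU.1) (euler_push k V.ι rfl hV.1)

end Clopen

section Rank

variable {X P : Scheme.{u}} (p : P ⟶ X) [IsAffineHom p] {U V : P.Opens}

theorem rank_sub {a d : ℕ} (hUV : Disjoint (U : Set P) V) (hcov : (U : Set P) ∪ V = Set.univ)
    (hP : FlatMod.IsFinLocFreeOfRank d ((Scheme.Modules.pushforward p).obj (Coh.structureModule P)))
    (hU : FlatMod.IsFinLocFreeOfRank a ((Scheme.Modules.pushforward (U.ι ≫ p)).obj (Coh.structureModule U)))
    (hV : FlatMod.IsFinLocFree ((Scheme.Modules.pushforward (V.ι ≫ p)).obj (Coh.structureModule V))) :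
    FlatMod.IsFinLocFreeOfRank (d - a) ((Scheme.Modules.pushforward (V.ι ≫ p)).obj (Coh.structureModule V)) := by
  intro x
  obtain ⟨W, n, hxW, ⟨g⟩⟩ := hV x
  suffices n = d - a from this ▸ ⟨W, hxW, ⟨g⟩⟩
  let A := (Scheme.Modules.pushforward (U.ι ≫ p)).obj (Coh.structureModule U)
  let B := (Scheme.Modules.pushforward (V.ι ≫ p)).obj (Coh.structureModule V)
  obtain ⟨e⟩ := nonempty_clopen_split hUV hcov (Coh.structureModule P)
  haveI : (Scheme.Modules.pushforward p).Additive := inferInstance
  haveI := preservesBinaryBiproducts_of_preservesBiproducts (Scheme.Modules.pushforward p)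
  let e' : (Scheme.Modules.pushforward p).obj (Coh.structureModule P) ≅ A ⊞ B :=
    (Scheme.Modules.pushforward p).mapIso e ≪≫ (Scheme.Modules.pushforward p).mapBiprod _ _ ≪≫
      biprod.mapIso (((Scheme.Modules.pushforwardComp U.ι p).app _) ≪≫
          (Scheme.Modules.pushforward (U.ι ≫ p)).mapIso (KFlatLib.restrictStructureIso U.ι))
        (((Scheme.Modules.pushforwardComp V.ι p).app _) ≪≫
          (Scheme.Modules.pushforward (V.ι ≫ p)).mapIso (KFlatLib.restrictStructureIso V.ι))
  let S := DerSch.stalkFunctor X x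
  haveI := preservesBinaryBiproducts_of_preservesBiproducts S
  let l := (S.mapIso e' ≪≫ S.mapBiprod A B ≪≫ ModuleCat.biprodIsoProd _ _).toLinearEquiv
  obtain ⟨bP₀⟩ := CurveTensor.exists_basis_stalk hP x
  obtain ⟨bA₀⟩ := CurveTensor.exists_basis_stalk hU x
  let bP : Module.Basis (Fin d) (X.presheaf.stalk x)
      (S.obj ((Scheme.Modules.pushforward p).obj (Coh.structureModule P))) := bP₀
  let bA : Module.Basis (Fin a) (X.presheaf.stalk x) (S.obj A) := bA₀
  obtain ⟨_, ⟨W', hW', rfl⟩, hxW', hle⟩ := X.isBasis_affineOpens.exists_subset_of_mem_open hxW W.2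
  obtain ⟨m⟩ := QCoh.free_sections hW' hle g
  have hn := QCoh.finrank_stalk_of_freeChart hW' (QCoh.isQCoh_of_isFinLocFree hV) m hxW'
  have hfree : Module.Free (X.presheaf.stalk x) (S.obj B) ∧ Module.Finite (X.presheaf.stalk x) (S.obj B) := by
    haveI : Module.Free (X.presheaf.stalk x) (S.obj ((Scheme.Modules.pushforward p).obj (Coh.structureModule P))) :=
      Module.Free.of_basis bP
    haveI : Module.Finite (X.presheaf.stalk x) (S.obj ((Scheme.Modules.pushforward p).obj (Coh.structureModule P))) :=
      Module.Finite.of_basis bP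
    haveI : Module.Finite (X.presheaf.stalk x) (S.obj A × S.obj B) := Module.Finite.equiv l
    haveI : Module.Free (X.presheaf.stalk x) (S.obj A × S.obj B) := Module.Free.of_equiv l
    haveI : Module.Finite (X.presheaf.stalk x) (S.obj B) :=
      Module.Finite.of_surjective (LinearMap.snd _ (S.obj A) (S.obj B)) fun b => ⟨(0, b), rfl⟩
    haveI : Module.Projective (X.presheaf.stalk x) (S.obj A × S.obj B) := Module.Projective.of_free
    haveI : Module.Projective (X.presheaf.stalk x) (S.obj B) :=
      Module.Projective.of_split (LinearMap.inr _ (S.obj A) (S.obj B)) (LinearMap.snd _ (S.obj A) (S.obj B)) rfl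
    exact ⟨Module.free_of_flat_of_isLocalRing, inferInstance⟩
  obtain ⟨hf, hfin⟩ := hfree
  haveI := hf
  haveI := hfin
  haveI : Module.Free (X.presheaf.stalk x) (S.obj A) := Module.Free.of_basis bA
  haveI : Module.Finite (X.presheaf.stalk x) (S.obj A) := Module.Finite.of_basis bA
  have hdim := l.finrank_eq
  rw [Module.finrank_prod, Module.finrank_eq_card_basis bP, Module.finrank_eq_card_basis bA, Fintype.card_fin,
    Fintype.card_fin] at hdim
  have : Module.finrank (X.presheaf.stalk x) (S.obj B) = n := hn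
  omega

end Rank

variable (k : Type u) [Field k]

/-- Euler characteristics under finite étale covers of constant degree. -/
theorem euler_pullback_etale : ∀ (d : ℕ) (X X' : Scheme.{u}) [X.Over (Spec (CommRingCat.of k))]
    [X'.Over (Spec (CommRingCat.of k))] [IsProper (X ↘ Spec (CommRingCat.of k))]
    [IsProper (X' ↘ Spec (CommRingCat.of k))] (φ : X' ⟶ X) [IsFinite φ] [Etale φ],
    φ ≫ (X ↘ Spec (CommRingCat.of k)) = X' ↘ Spec (CommRingCat.of k) →
    FlatMod.IsFinLocFreeOfRank d ((Scheme.Modules.pushforward φ).obj (Coh.structureModule X')) →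
    ∀ M : X.Modules, Coh.IsCoh M →
      Curv2.euler k X' ((Scheme.Modules.pullback φ).obj M) = d * Curv2.euler k X M := by
  intro d
  induction d with
  | zero =>
    intro X X' _ _ _ _ φ _ _ hφ hd M hM
    haveI : IsEmpty X' := ⟨fun z => by
      obtain ⟨U, hU, hy, ⟨e⟩⟩ := H23.CoverPush.crit_of_isFinLocFreeOfRank_push φ hd (φ z)
      haveI : Subsingleton Γ(X', φ ⁻¹ᵁ U) := e.toEquiv.subsingleton
      exact not_nontrivial _ ((X'.presheaf.germ (φ ⁻¹ᵁ U) z hy).hom.domain_nontrivial)⟩
    haveI : IsNoetherian X' := CurveCohLib.isNoetherian_of_proper (k := k)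
    rw [Nat.cast_zero, zero_mul]
    exact (HilbPoly.additive_euler k).zero_of_isZero
      (CurveCohLib.isZero_of_subsingleton_stalks fun z => isEmptyElim z)
  | succ d ih =>
    intro X X' _ _ _ _ φ _ _ hφ hd M hM
    haveI : IsNoetherian X := CurveCohLib.isNoetherian_of_proper (k := k)
    haveI : IsNoetherian X' := CurveCohLib.isNoetherian_of_proper (k := k)
    let E := (Scheme.Modules.pushforward φ).obj (Coh.structureModule X')
    have hE : FlatMod.IsFinLocFree E := fun x => let ⟨W, hx, h⟩ := hd x; ⟨W, _, hx, h⟩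
    rw [euler_pullback_finite_flat k φ hφ hE hM]
    let ψ : X.Modules → ℤ := fun M =>
      Curv2.euler k X ((DCoh.tensorBi.obj E).obj M) - ((d + 1 : ℕ) : ℤ) * Curv2.euler k X M
    have hψ : HilbPoly.Additive ψ :=
      ⟨fun A B e => by
        show _ - _ = _ - _
        rw [(HilbPoly.additive_euler k).iso A B e,
          (HilbPoly.additive_euler k).iso _ _ ⟨(DCoh.tensorBi.obj E).mapIso e.some⟩],
      fun S hS a b c => by
        have e1 := (HilbPoly.additive_euler k).add S hS a b c
        have e2 := (HilbPoly.additive_euler k).add (S.map (DCoh.tensorBi.obj E))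
          (CurveTensor.shortExact_tensor hE S.f S.g S.zero hS)
          (CurveTensor.isCoh_tensor hE a) (CurveTensor.isCoh_tensor hE b) (CurveTensor.isCoh_tensor hE c)
        show _ - _ = _ - _ + (_ - _)
        change Curv2.euler k X ((DCoh.tensorBi.obj E).obj S.X₂) = Curv2.euler k X ((DCoh.tensorBi.obj E).obj S.X₁) +
          Curv2.euler k X ((DCoh.tensorBi.obj E).obj S.X₃) at e2
        rw [e1, e2]
        ring⟩
    refine sub_eq_zero.1 (eq_zero_of_tensor_eq_zero hψ (Nat.succ_ne_zero d) hd (fun F hF => sub_eq_zero.2 ?_) hM)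
    -- both sides live on the cover
    let G := (DCoh.tensorBi.obj E).obj F
    have hG : Coh.IsCoh G := CurveTensor.isCoh_tensor hE hF
    rw [← euler_pullback_finite_flat k φ hφ hE hG, ← euler_pullback_finite_flat k φ hφ hE hF]
    let P := Limits.pullback φ φ
    let p : P ⟶ X' := pullback.fst φ φ
    let δ : X' ⟶ P := pullback.diagonal φ
    haveI : IsFinite p := MorphismProperty.pullback_fst φ φ inferInstance
    haveI : Etale p := MorphismProperty.pullback_fst φ φ inferInstance
    letI : P.Over (Spec (CommRingCat.of k)) := ⟨p ≫ (X' ↘ Spec (CommRingCat.of k))⟩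
    haveI : IsProper (P ↘ Spec (CommRingCat.of k)) :=
      inferInstanceAs (IsProper (p ≫ (X' ↘ Spec (CommRingCat.of k))))
    haveI : IsNoetherian P := CurveCohLib.isNoetherian_of_proper (k := k)
    haveI : IsOpenImmersion δ := inferInstance
    haveI : IsClosedImmersion δ := inferInstance
    have hδ : δ ≫ p = 𝟙 X' := pullback.diagonal_fst φ
    let U : P.Opens := δ.opensRange
    let V : P.Opens := ⟨(U : Set P)ᶜ, δ.isClosedEmbedding.isClosed_range.isOpen_compl⟩
    have hUV : Disjoint (U : Set P) V := disjoint_compl_right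
    have hcov : (U : Set P) ∪ V = Set.univ := Set.union_compl_self _
    haveI := isClosedImmersion_ι hUV hcov
    haveI := isClosedImmersion_ι hUV.symm ((Set.union_comm _ _).trans hcov)
    let eU : X' ≅ (U : Scheme.{u}) := δ.isoOpensRange
    have heU : eU.hom ≫ U.ι = δ := δ.isoOpensRange_hom_ι
    haveI : IsIso (U.ι ≫ p) := by
      have : U.ι ≫ p = eU.inv := by
        rw [← cancel_epi eU.hom, reassoc_of% heU, hδ, eU.hom_inv_id]
      rw [this]
      infer_instance
    haveI : Coh.IsQCoh (Coh.structureModule X') := QCoh.isQCoh_structureModule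
    have sq : IsPullback (pullback.snd φ φ) p φ φ := (IsPullback.of_hasPullback φ φ).flip
    -- the rank of the push forward to the cover
    have hP : FlatMod.IsFinLocFreeOfRank (d + 1) ((Scheme.Modules.pushforward p).obj (Coh.structureModule P)) := by
      obtain ⟨e1⟩ := S0017.result φ φ (pullback.snd φ φ) p sq (Coh.structureModule X')
      let e : (Scheme.Modules.pullback φ).obj E ≅ (Scheme.Modules.pushforward p).obj (Coh.structureModule P) :=
        e1 ≪≫ (Scheme.Modules.pushforward p).mapIso (PicClLib.nonempty_pullback_structureModule _).some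
      intro x
      obtain ⟨W, hx, ⟨g⟩⟩ := hd (φ x)
      exact ⟨φ ⁻¹ᵁ W, hx, ⟨(Scheme.Modules.restrictFunctor (φ ⁻¹ᵁ W).ι).mapIso e.symm ≪≫
        ((H23.PullPush.pullRestrictIso φ W).app E).symm ≪≫
        (Scheme.Modules.pullback (φ ∣_ W)).mapIso g ≪≫ KFlatLib.pullFreeIso _ _⟩⟩
    have hU1 : FlatMod.IsFinLocFreeOfRank 1
        ((Scheme.Modules.pushforward (U.ι ≫ p)).obj (Coh.structureModule U)) := by
      let e : (Scheme.Modules.pushforward (U.ι ≫ p)).obj (Coh.structureModule U) ≅ Coh.structureModule X' :=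
        (Scheme.Modules.pushforward (U.ι ≫ p)).mapIso
            (KFlatLib.restrictStructureIso (U.ι ≫ p)).symm ≪≫
          (@asIso _ _ _ _ ((Scheme.Modules.restrictAdjunction (U.ι ≫ p)).unit.app (Coh.structureModule X'))
            (CurveTensor.isIso_unit_of_isIso (U.ι ≫ p) _)).symm
      intro x
      exact ⟨⊤, trivial, ⟨(Scheme.Modules.restrictFunctor (⊤ : X'.Opens).ι).mapIso e ≪≫
        KFlatLib.restrictStructureIso _ ≪≫ (show FlatMod.freeMod _ 1 ≅ Coh.structureModule _ from coproductUniqueIso _).symm⟩⟩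
    haveI : IsFinite (V.ι ≫ p) := inferInstance
    haveI : Etale (V.ι ≫ p) := inferInstance
    have hV := rank_sub p hUV hcov hP hU1 ((S9716.result (V.ι ≫ p)).2 ⟨inferInstance, inferInstance, inferInstance⟩).2
    rw [Nat.add_sub_cancel] at hV
    letI : (V : Scheme.{u}).Over (Spec (CommRingCat.of k)) := ⟨V.ι ≫ (P ↘ Spec (CommRingCat.of k))⟩
    letI : (U : Scheme.{u}).Over (Spec (CommRingCat.of k)) := ⟨U.ι ≫ (P ↘ Spec (CommRingCat.of k))⟩
    haveI : IsProper ((V : Scheme.{u}) ↘ Spec (CommRingCat.of k)) :=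
      inferInstanceAs (IsProper (V.ι ≫ (P ↘ Spec (CommRingCat.of k))))
    haveI : IsProper ((U : Scheme.{u}) ↘ Spec (CommRingCat.of k)) :=
      inferInstanceAs (IsProper (U.ι ≫ (P ↘ Spec (CommRingCat.of k))))
    let F' := (Scheme.Modules.pullback φ).obj F
    have hF' : Coh.IsCoh F' := ZClosLib.isCoh_pullback φ hF
    -- the pullback of the twist
    have hEP : FlatMod.IsFinLocFree ((Scheme.Modules.pushforward p).obj (Coh.structureModule P)) :=
      fun x => let ⟨W, hx, h⟩ := hP x; ⟨W, _, hx, h⟩
    haveI : Flat p := inferInstance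
    obtain ⟨e1⟩ := S0017.result φ φ (pullback.snd φ φ) p sq (Coh.structureModule X')
    let eG : (Scheme.Modules.pullback φ).obj G ≅
        (DCoh.tensorBi.obj ((Scheme.Modules.pushforward p).obj (Coh.structureModule P))).obj F' :=
      ((KFlatLib.pullTensorBiIso φ).app E).app F ≪≫
        (DCoh.tensorBi.mapIso (e1 ≪≫ (Scheme.Modules.pushforward p).mapIso
          (PicClLib.nonempty_pullback_structureModule _).some)).app F'
    rw [(HilbPoly.additive_euler k).iso _ _ ⟨eG⟩, ← euler_pullback_finite_flat k p rfl hEP hF',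
      euler_clopen k hUV hcov (ZClosLib.isCoh_pullback p hF')]
    let r : ∀ W : P.Opens, ((Scheme.Modules.pullback p).obj F').restrict W.ι ≅
        (Scheme.Modules.pullback (W.ι ≫ p)).obj F' := fun W =>
      (Scheme.Modules.restrictFunctorIsoPullback W.ι).app _ ≪≫ (Scheme.Modules.pullbackComp W.ι p).app F'
    rw [(HilbPoly.additive_euler k).iso _ _ ⟨r U⟩, (HilbPoly.additive_euler k).iso _ _ ⟨r V⟩,
      euler_pullback_iso (U.ι ≫ p) (Category.assoc _ _ _) hF'.1,
      ih X' V (V.ι ≫ p) (Category.assoc _ _ _) hV F' hF']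
    push_cast
    ring

end Groth.Agent.AVEuler

end
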