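import Groth.Agent.QCoh.RpushModel
import Groth.Agent.S2380

/-!
# Vanishing of the cohomology of fibres is open
-/

noncomputable section

set_option autoImplicit false
set_option backward.isDefEq.respectTransparency false
set_option backward.isDefEq.respectTransparency.types false
set_option linter.style.haveILetI false

universe u

open CategoryTheory CategoryTheory.Limits AlgebraicGeometry TopologicalSpace

namespace Groth.Agent.AVEuler

open Groth.Agent

/-- Around a point, the vanishing of the fibre cohomology spreads in every degree at once. -/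
theorem exists_open_vanishing {X S : Scheme.{u}} (f : X ⟶ S) [IsProper f] [IsLocallyNoetherian S]
    [HasInjectiveResolutions X.Modules] {M : X.Modules} (hM : Coh.IsCoh M) (hfl : FlatMod.IsFlatOver f M) (y : S) :
    ∃ W : S.Opens, y ∈ W ∧ ∀ z ∈ W, ∀ p, Subsingleton (CohIII.fiberH f M y p) →
      Subsingleton (CohIII.fiberH f M z p) := by
  obtain ⟨V, hV, hyV, -⟩ := exists_isAffineOpen_mem_and_subset (show y ∈ (⊤ : S.Opens) from trivial)
  obtain ⟨P, hP⟩ := QCoh.exists_isLocalModel (f := f) hM hfl hV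
  haveI : IsNoetherianRing Γ(S, V) := IsLocallyNoetherian.component_noetherian ⟨V, hV⟩
  obtain ⟨hfin, hfree, ⟨c, hc⟩, -, -, hfib⟩ := hP
  have hflat : ∀ i, Module.Finite Γ(S, V) (P.X i) ∧ Module.Flat Γ(S, V) (P.X i) := fun i =>
    ⟨hfin i, haveI := hfree i; inferInstance⟩
  have hiff : ∀ (z : S) (hz : z ∈ V) (p : ℕ), Subsingleton (CohIII.fiberH f M z p) ↔
      CohIII.dRank P (-(p : ℤ)) (hV.primeIdealOf ⟨z, hz⟩) = 0 := fun z hz p => by
    obtain ⟨h1, h2⟩ := hfib p z hz
    rw [← h1]
    haveI := h2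
    exact Module.finrank_zero_iff.symm
  -- above the bound everything vanishes
  have hhigh : ∀ (p : ℕ) (x : PrimeSpectrum Γ(S, V)), -(p : ℤ) < c → CohIII.dRank P (-(p : ℤ)) x = 0 := by
    intro p x hp
    have hz : IsZero ((CohIII.bcCx (algebraMap _ x.asIdeal.ResidueField) P).homology (-(p : ℤ))) :=
      ShortComplex.isZero_homology_of_isZero_X₂ _ ((ModuleCat.extendScalars _).map_isZero (hc _ hp))
    haveI := ModuleCat.subsingleton_of_isZero hz
    exact Module.finrank_zero_of_subsingleton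
  let B := (-c).toNat
  let O : Fin (B + 1) → Set (PrimeSpectrum Γ(S, V)) := fun p => {x | CohIII.dRank P (-(p : ℕ) : ℤ) x = 0 ∨
    CohIII.dRank P (-(p : ℕ) : ℤ) (hV.primeIdealOf ⟨y, hyV⟩) ≠ 0}
  have hO : ∀ p, IsOpen (O p) := by
    intro p
    by_cases h : CohIII.dRank P (-(p : ℕ) : ℤ) (hV.primeIdealOf ⟨y, hyV⟩) = 0
    · have : O p = CohIII.dRank P (-(p : ℕ) : ℤ) ⁻¹' Set.Iio 1 := by
        ext x
        simp [O, h, Nat.lt_one_iff]
      rw [this]
      exact upperSemicontinuous_iff_isOpen_preimage.1 (S2380.result P hflat _) 1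
    · have : O p = Set.univ := Set.eq_univ_of_forall fun x => Or.inr h
      rw [this]
      exact isOpen_univ
  let W₀ : Set V := ⋂ p : Fin (B + 1), (fun z : V => hV.primeIdealOf z) ⁻¹' O p
  have hW₀ : IsOpen W₀ := isOpen_iInter_of_finite fun p => (hO p).preimage hV.isoSpec.hom.continuous
  let W : S.Opens := ⟨Subtype.val '' W₀, V.2.isOpenMap_subtype_val _ hW₀⟩
  refine ⟨W, ⟨⟨y, hyV⟩, ?_, rfl⟩, ?_⟩
  · refine Set.mem_iInter.2 fun p => ?_
    by_cases h : CohIII.dRank P (-(p : ℕ) : ℤ) (hV.primeIdealOf ⟨y, hyV⟩) = 0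
    · exact Or.inl h
    · exact Or.inr h
  · rintro z ⟨⟨z, hzV⟩, hz, rfl⟩ p hp
    rw [hiff y hyV] at hp
    rw [hiff z hzV]
    by_cases hpB : p < B + 1
    · rcases Set.mem_iInter.1 hz ⟨p, hpB⟩ with h | h
      · exact h
      · exact absurd hp h
    · exact hhigh p _ (by omega)

end Groth.Agent.AVEuler

end
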