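import Groth.Agent.Snapper.Main
import Groth.Agent.Snapper.Multi
import Groth.Agent.QCoh.LocFree
import Groth.Agent.Lib.CurveDeg

/-!
# Growth of the cohomology of twists

The dimensions of the cohomology of the twists by the powers of an invertible module grow at most with the
dimension of the support, degree by degree; generically isomorphic modules have the same growth up to lower order.
-/

noncomputable section

set_option autoImplicit false
set_option linter.style.haveILetI false
set_option linter.unusedSectionVars false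
set_option backward.isDefEq.respectTransparency false
set_option backward.isDefEq.respectTransparency.types false
set_option maxHeartbeats 1600000

universe u

open CategoryTheory CategoryTheory.Limits AlgebraicGeometry TopologicalSpace Opposite

namespace Groth.Agent.AVEuler.Growth

open Groth.Agent Groth.Agent.Snapper

/-- the comparison sequence of order below `d` -/
def pw : ℕ → ℕ → ℕ
  | 0, _ => 0
  | d + 1, n => (n + 1) ^ d

theorem pw_mono (d : ℕ) {m n : ℕ} (h : m ≤ n) : pw d m ≤ pw d n := by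
  cases d with
  | zero => exact le_rfl
  | succ d => exact Nat.pow_le_pow_left (by omega) d

theorem mul_pw_le (d n : ℕ) : n * pw d n ≤ pw (d + 1) n := by
  cases d with
  | zero => simp [pw]
  | succ d =>
    show n * (n + 1) ^ d ≤ (n + 1) ^ (d + 1)
    rw [pow_succ']
    exact Nat.mul_le_mul_right _ n.le_succ

theorem one_le_pw (d n : ℕ) : 1 ≤ pw (d + 1) n := Nat.one_le_pow _ _ n.succ_pos

/-- sequences bounded by the comparison sequence -/
def Bdd (d : ℕ) (f : ℕ → ℕ) : Prop := ∃ C, ∀ n, f n ≤ C * pw d n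

theorem Bdd.add {d : ℕ} {f g : ℕ → ℕ} (h : Bdd d f) (h' : Bdd d g) : Bdd d (fun n => f n + g n) :=
  let ⟨C, hC⟩ := h; let ⟨C', hC'⟩ := h'
  ⟨C + C', fun n => (add_le_add (hC n) (hC' n)).trans_eq (by ring)⟩

theorem Bdd.of_le {d : ℕ} {f g : ℕ → ℕ} (h : Bdd d f) (e : ∀ n, g n ≤ f n) : Bdd d g :=
  let ⟨C, hC⟩ := h; ⟨C, fun n => (e n).trans (hC n)⟩

/-- sequences differing by a bounded one -/
def Near (d : ℕ) (f g : ℕ → ℕ) : Prop := ∃ e, Bdd d e ∧ ∀ n, f n ≤ g n + e n ∧ g n ≤ f n + e n

theorem Near.symm {d : ℕ} {f g : ℕ → ℕ} (h : Near d f g) : Near d g f :=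
  let ⟨e, he, h⟩ := h; ⟨e, he, fun n => (h n).symm⟩

theorem Near.trans {d : ℕ} {f g h : ℕ → ℕ} (h1 : Near d f g) (h2 : Near d g h) : Near d f h :=
  let ⟨e, he, h1⟩ := h1; let ⟨e', he', h2⟩ := h2
  ⟨fun n => e n + e' n, he.add he', fun n => by
    have := h1 n; have := h2 n
    show f n ≤ h n + (e n + e' n) ∧ h n ≤ f n + (e n + e' n)
    omega⟩

/-- a sequence with small steps -/
theorem bdd_of_step {d : ℕ} {f : ℕ → ℕ} (h : Near d f (fun n => f (n + 1))) : Bdd (d + 1) f := by
  obtain ⟨e, ⟨C, hC⟩, he⟩ := h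
  have key : ∀ n m, m ≤ n → f m ≤ f 0 + m * (C * pw d n) := by
    intro n m
    induction m with
    | zero => intro _; simp
    | succ m ih =>
      intro hm
      have h1 := ih (Nat.le_of_succ_le hm)
      have h2 : f (m + 1) ≤ f m + e m := (he m).2
      have h3 : e m ≤ C * pw d n := (hC m).trans (Nat.mul_le_mul_left C (pw_mono d (Nat.le_of_succ_le hm)))
      show f (m + 1) ≤ _
      rw [Nat.succ_mul]
      omega
  refine ⟨f 0 + C, fun n => (key n n le_rfl).trans ?_⟩
  rw [add_mul]
  refine add_le_add (Nat.le_mul_of_pos_right _ (one_le_pw d n)) ?_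
  rw [Nat.mul_left_comm]
  exact Nat.mul_le_mul_left C (mul_pw_le d n)

variable (k : Type u) [Field k] {X : Scheme.{u}} [X.Over (Spec (CommRingCat.of k))]

/-- the dimension of a cohomology group -/
abbrev hdim (j : ℕ) (M : X.Modules) : ℕ := Module.finrank k (Coh.HH X M j)

open Groth.Agent.PnCoh.Finite in
theorem mapLin_retract {M N : X.Modules} (s : M ⟶ N) (r : N ⟶ M) (h : s ≫ r = 𝟙 M) (j : ℕ) :
    Function.Injective (mapLin k s j) := by
  intro x y hxy
  have h' : ∀ z, mapLin k r j (mapLin k s j z) = z := fun z =>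
    (Groth.Agent.PnCoh.Finite.map_map (Y := X.toPresheafedSpace.carrier)
      (((QCoh.toAbFunctor X).map_comp s r).symm.trans
        (by rw [h, CategoryTheory.Functor.map_id]; rfl)) j z).trans (Sheaf.H.map_id_apply z)
  rw [← h' x, ← h' y, hxy]

variable [IsProper (X ↘ Spec (CommRingCat.of k))]

theorem hdim_le_of_retract {M N : X.Modules} (hN : Coh.IsCoh N) (s : M ⟶ N) (r : N ⟶ M) (h : s ≫ r = 𝟙 M)
    (j : ℕ) : hdim k j M ≤ hdim k j N := by
  haveI := S0002.result k X N hN j
  exact LinearMap.finrank_le_finrank_of_injective (mapLin_retract k s r h j)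

theorem hdim_congr {M N : X.Modules} (e : M ≅ N) (hM : Coh.IsCoh M) (hN : Coh.IsCoh N) (j : ℕ) :
    hdim k j M = hdim k j N :=
  le_antisymm (hdim_le_of_retract k hN e.hom e.inv e.hom_inv_id j)
    (hdim_le_of_retract k hM e.inv e.hom e.inv_hom_id j)

open Groth.Agent.PnCoh.Finite in
theorem hdim_ses {S : ShortComplex X.Modules} (hS : S.ShortExact) (h₁ : Coh.IsCoh S.X₁) (h₂ : Coh.IsCoh S.X₂)
    (h₃ : Coh.IsCoh S.X₃) (j : ℕ) :
    hdim k j S.X₂ ≤ hdim k j S.X₁ + hdim k j S.X₃ ∧
      hdim k j S.X₁ ≤ hdim k j S.X₂ + hdim k (j - 1) S.X₃ ∧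
      hdim k j S.X₃ ≤ hdim k j S.X₂ + hdim k (j + 1) S.X₁ := by
  haveI := fun n => S0002.result k X S.X₁ h₁ n
  haveI := fun n => S0002.result k X S.X₂ h₂ n
  haveI := fun n => S0002.result k X S.X₃ h₃ n
  refine ⟨?_, ?_, ?_⟩
  · have e := (mapLin k S.g j).finrank_range_add_finrank_ker
    rw [← Euler.range_mapLin_f k hS j] at e
    have a := Submodule.finrank_le (LinearMap.range (mapLin k S.g j))
    have b := LinearMap.finrank_range_le (mapLin k S.f j)
    simp only [hdim]
    omega
  · have e := (mapLin k S.f j).finrank_range_add_finrank_ker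
    have a := Submodule.finrank_le (LinearMap.range (mapLin k S.f j))
    cases j with
    | zero =>
      rw [Euler.ker_mapLin_f_zero k hS, finrank_bot] at e
      simp only [hdim]
      omega
    | succ i =>
      rw [← Euler.range_deltaLin k hS i] at e
      have b := LinearMap.finrank_range_le (deltaLin k hS i)
      show Module.finrank k (Coh.HH X S.X₁ (i + 1)) ≤
        Module.finrank k (Coh.HH X S.X₂ (i + 1)) + Module.finrank k (Coh.HH X S.X₃ i)
      omega
  · have e := (deltaLin k hS j).finrank_range_add_finrank_ker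
    rw [← Euler.range_mapLin_g k hS j] at e
    have a := Submodule.finrank_le (LinearMap.range (deltaLin k hS j))
    have b := LinearMap.finrank_range_le (mapLin k S.g j)
    simp only [hdim]
    omega

/-- the dimensions for the twists -/
def hf (j : ℕ) (L M : X.Modules) : ℕ → ℕ := fun n => hdim k j (ShStab.twist X L M n)

variable {L : X.Modules}

include k in
theorem isCoh_twist (hL : PicF.IsInvertible L) {M : X.Modules} (hM : Coh.IsCoh M) (n : ℕ) :
    Coh.IsCoh (ShStab.twist X L M n) :=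
  haveI := CurveCohLib.isNoetherian_of_proper (k := k) (X := X)
  AmpleVan.isCoh_tensor hM (AmpleVan.isCoh_invertible (InvX.isInvertible_tensorPow hL n))

theorem hf_ses (hL : PicF.IsInvertible L) {S : ShortComplex X.Modules} (hS : S.ShortExact)
    (h₁ : Coh.IsCoh S.X₁) (h₂ : Coh.IsCoh S.X₂) (h₃ : Coh.IsCoh S.X₃) (j n : ℕ) :
    hf k j L S.X₂ n ≤ hf k j L S.X₁ n + hf k j L S.X₃ n ∧
      hf k j L S.X₁ n ≤ hf k j L S.X₂ n + hf k (j - 1) L S.X₃ n ∧
      hf k j L S.X₃ n ≤ hf k j L S.X₂ n + hf k (j + 1) L S.X₁ n := by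
  let P := CohB1.tensorPow L n
  haveI := AmpleVan.isEquivalence_tw (InvX.isInvertible_tensorPow hL n)
  haveI : (AmpleVan.tw P).Additive := Functor.additive_of_preserves_binary_products _
  exact hdim_ses k (S := S.map (AmpleVan.tw P)) (hS.map_of_exact _) (isCoh_twist k hL h₁ n) (isCoh_twist k hL h₂ n)
    (isCoh_twist k hL h₃ n) j

theorem hf_congr (hL : PicF.IsInvertible L) {M N : X.Modules} (e : M ≅ N) (hM : Coh.IsCoh M) (hN : Coh.IsCoh N)
    (j n : ℕ) : hf k j L M n = hf k j L N n :=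
  hdim_congr k ((AmpleVan.tw (CohB1.tensorPow L n)).mapIso e) (isCoh_twist k hL hM n) (isCoh_twist k hL hN n) j

/-- all degrees bounded -/
def BddAll (d : ℕ) (L M : X.Modules) : Prop := ∀ j, Bdd d (hf k j L M)

theorem near_of_isoOn (hL : PicF.IsInvertible L) {d : ℕ} {C : Set X} {U : X.Opens}
    (IH : ∀ M : X.Modules, Coh.IsCoh M → CohB1.support M ⊆ C \ U → BddAll k d L M)
    {A B : X.Modules} (hA : Coh.IsCoh A) (hB : Coh.IsCoh B) (hAC : CohB1.support A ⊆ C)
    (hBC : CohB1.support B ⊆ C) (φ : A ⟶ B) (hφ : IsoOn U φ) (j : ℕ) :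
    Near d (hf k j L A) (hf k j L B) := by
  haveI := CurveCohLib.isNoetherian_of_proper (k := k) (X := X)
  have hK := QCoh.isCoh_kernel hA hB φ
  have hC := QCoh.isCoh_cokernel hA.1 hB φ
  have hI : Coh.IsCoh (Abelian.image φ) :=
    QCoh.isCoh_of_epi (Abelian.factorThruImage φ) hA (QCoh.isQCoh_kernel hB.1 hC.1 _)
  obtain ⟨hk, hc⟩ := support_subset_compl hφ
  obtain ⟨hk', hc'⟩ := support_sub_of_map hA hB φ
  have bK := IH _ hK fun x hx => ⟨hAC (hk' hx), hk hx⟩
  have bC := IH _ hC fun x hx => ⟨hBC (hc' hx), hc hx⟩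
  refine ⟨_, ((bK j).add (bK (j + 1))).add ((bC j).add (bC (j - 1))), fun n => ?_⟩
  have h1 := hf_ses k hL (S := ShortComplex.mk (kernel.ι φ) (Abelian.factorThruImage φ)
      ((cancel_mono (Abelian.image.ι φ)).1 (by rw [Category.assoc, Abelian.image.fac, kernel.condition, zero_comp])))
    { exact := ShortComplex.exact_of_f_is_kernel _ (KernelFork.IsLimit.ofι' _ _ fun {T} t ht =>
        ⟨kernel.lift φ t (by rw [← Abelian.image.fac φ, reassoc_of% ht, zero_comp]), kernel.lift_ι _ _ _⟩)
      mono_f := inferInstance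
      epi_g := inferInstance } hK hA hI j n
  have h2 := hf_ses k hL (S := ShortComplex.mk (Abelian.image.ι φ) (cokernel.π φ) (kernel.condition _))
    { exact := ShortComplex.exact_of_f_is_kernel _ (kernelIsKernel (cokernel.π φ))
      mono_f := inferInstance
      epi_g := inferInstance } hI hB hC j n
  dsimp only at h1 h2
  show _ ≤ _ + (hf k j L (kernel φ) n + hf k (j + 1) L (kernel φ) n +
      (hf k j L (cokernel φ) n + hf k (j - 1) L (cokernel φ) n)) ∧
    _ ≤ _ + (hf k j L (kernel φ) n + hf k (j + 1) L (kernel φ) n +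
      (hf k j L (cokernel φ) n + hf k (j - 1) L (cokernel φ) n))
  omega

theorem bdd_of_split (hL : PicF.IsInvertible L) {d : ℕ} {C C₁ C₂ : Closeds X} (hC : (C : Set X) ⊆ ↑C₁ ∪ ↑C₂)
    (h₁ : ∀ M : X.Modules, Coh.IsCoh M → CohB1.support M ⊆ C₁ → BddAll k d L M)
    (h₂ : ∀ M : X.Modules, Coh.IsCoh M → CohB1.support M ⊆ C₂ → BddAll k d L M)
    {M : X.Modules} (hM : Coh.IsCoh M) (hMC : CohB1.support M ⊆ C) : BddAll k d L M := by
  haveI := CurveCohLib.isNoetherian_of_proper (k := k) (X := X)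
  let U : X.Opens := ⟨(C₂ : Set X)ᶜ, C₂.isClosed.isOpen_compl⟩
  let φ := resMap U M
  have hQ : Coh.IsQCoh ((Scheme.Modules.pushforward U.ι).obj (M.restrict U.ι)) :=
    QCoh.isQCoh_pushforward U.ι (QCoh.isQCoh_restrict U.ι hM.1)
  have hco := QCoh.isQCoh_cokernel hM.1 hQ φ
  have hI : Coh.IsCoh (Abelian.image φ) :=
    QCoh.isCoh_of_epi (Abelian.factorThruImage φ) hM (QCoh.isQCoh_kernel hQ hco _)
  have hK : Coh.IsCoh (kernel φ) := QCoh.isCoh_of_mono (kernel.ι φ) hM (QCoh.isQCoh_kernel hM.1 hQ φ)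
  have bK : BddAll k d L (kernel φ) := h₂ _ hK fun x hx =>
    not_not.1 fun hx2 => (support_subset_compl (isoOn_resMap U M)).1 hx (show x ∈ U from hx2)
  have bI : BddAll k d L (Abelian.image φ) := h₁ _ hI fun x hx => by
    by_contra hx1
    have hP := QCoh.mem_support_of_mono hI.1 hQ (Abelian.image.ι φ) hx
    refine notMem_support_push (W := ⟨(C₁ : Set X)ᶜ, C₁.isClosed.isOpen_compl⟩) hx1 ?_ hP
    exact Set.disjoint_left.2 fun y hy hyM => (hC (hMC hyM)).elim hy.1 hy.2
  exact fun j => ((bK j).add (bI j)).of_le fun n => (hf_ses k hL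
    (S := ShortComplex.mk (kernel.ι φ) (Abelian.factorThruImage φ)
      ((cancel_mono (Abelian.image.ι φ)).1 (by rw [Category.assoc, Abelian.image.fac, kernel.condition, zero_comp])))
    { exact := ShortComplex.exact_of_f_is_kernel _ (KernelFork.IsLimit.ofι' _ _ fun {T} t ht =>
        ⟨kernel.lift φ t (by rw [← Abelian.image.fac φ, reassoc_of% ht, zero_comp]), kernel.lift_ι _ _ _⟩)
      mono_f := inferInstance
      epi_g := inferInstance } hK hM hI j n).1

/-- removing a dense open drops the dimension -/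
theorem dim_sdiff_lt {C : Set X} (hirr : IsIrreducible C) (_ : IsClosed C) {η : X} (hηC : η ∈ C) {U : X.Opens}
    (hηU : η ∈ U) {d : ℕ} (hC : topologicalKrullDim ↥C < ((d + 1 : ℕ) : WithBot ℕ∞)) :
    topologicalKrullDim ↥(C \ U) < (d : WithBot ℕ∞) := by
  haveI : IrreducibleSpace ↥C := isIrreducible_iff_irreducibleSpace.1 hirr
  let Y : Set ↥C := {y | (y : X) ∈ (U : Set X)ᶜ}
  have hlt := H23.TopDim.dim_lt_of_ssubset (X := ↥C) (fun h => by rw [h] at hC; exact not_top_lt hC)
    (Y := Y) (U.2.isClosed_compl.preimage continuous_subtype_val)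
    (fun h => (h.ge (Set.mem_univ ⟨η, hηC⟩) : η ∈ (U : Set X)ᶜ) hηU)
  have hle : topologicalKrullDim ↥(C \ U) ≤ topologicalKrullDim ↥Y := by
    let g : ↥(C \ U) → ↥Y := fun p => ⟨⟨p.1, p.2.1⟩, p.2.2⟩
    have hg : Continuous g := (continuous_subtype_val.subtype_mk _).subtype_mk _
    have hcomp : Topology.IsInducing ((Subtype.val ∘ Subtype.val : ↥Y → X) ∘ g) :=
      show Topology.IsInducing (Subtype.val : ↥(C \ U) → X) from Topology.IsInducing.subtypeVal
    exact ((Topology.IsInducing.subtypeVal.comp Topology.IsInducing.subtypeVal).of_comp_iff.1 hcomp).topologicalKrullDim_le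
  refine lt_of_le_of_lt hle ?_
  revert hlt hC
  generalize topologicalKrullDim ↥Y = a
  generalize topologicalKrullDim ↥C = b
  intro hC hlt
  cases a with
  | bot => exact WithBot.bot_lt_coe _
  | coe a =>
    cases b with
    | bot => exact absurd hlt not_lt_bot
    | coe b =>
      have h1 : a < b := WithBot.coe_lt_coe.1 hlt
      have h2 : b < ((d + 1 : ℕ) : ℕ∞) := WithBot.coe_lt_coe.1 hC
      refine WithBot.coe_lt_coe.2 (lt_of_lt_of_le h1 ?_)
      exact ENat.lt_add_one_iff (ENat.natCast_ne_top d) |>.1 (by exact_mod_cast h2)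

/-- the dévissage step -/
theorem bdd_step (hL : PicF.IsInvertible L) {d : ℕ} {C : Closeds X} {U : X.Opens} {e : Γ(L, U)}
    (he : InvX.IsFrame e)
    (IH : ∀ M : X.Modules, Coh.IsCoh M → CohB1.support M ⊆ (C : Set X) \ U → BddAll k d L M)
    {M : X.Modules} (hM : Coh.IsCoh M) (hMC : CohB1.support M ⊆ C) : BddAll k (d + 1) L M := by
  haveI := CurveCohLib.isNoetherian_of_proper (k := k) (X := X)
  obtain ⟨K, I, a, b, c, hK, hI, ha, hb, hc⟩ := exists_link_frame hL he
  have hLc := AmpleVan.isCoh_invertible hL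
  let F := AmpleVan.tw M
  have hsupp : ∀ A, CohB1.support (F.obj A) ⊆ C := fun A => fun x hx => hMC (CurveTensor.support_tensor_subset hx)
  have hcoh : ∀ {A}, Coh.IsCoh A → Coh.IsCoh (F.obj A) := fun h => AmpleVan.isCoh_tensor h hM
  intro j
  have e1 := near_of_isoOn k hL IH (hcoh hK) (hcoh QCoh.isCoh_structureModule') (hsupp _) (hsupp _) _ (ha.tensor M) j
  have e2 := near_of_isoOn k hL IH (hcoh hK) (hcoh hI) (hsupp _) (hsupp _) _ (hb.tensor M) j
  have e3 := near_of_isoOn k hL IH (hcoh hLc) (hcoh hI) (hsupp _) (hsupp _) _ (hc.tensor M) j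
  have h := e1.symm.trans (e2.trans e3.symm)
  have h1 : hf k j L (F.obj (Coh.structureModule X)) = hf k j L M := funext fun n =>
    hf_congr k hL (CurveTensor.structureTensorIso M) (hcoh QCoh.isCoh_structureModule') hM j n
  have h2 : hf k j L (F.obj L) = fun n => hf k j L M (n + 1) := funext fun n =>
    hdim_congr k (twistSuccIso L M n) (isCoh_twist k hL (hcoh hLc) n) (isCoh_twist k hL hM (n + 1)) j
  rw [h1, h2] at h
  exact bdd_of_step h

theorem bdd_of_support_empty (hL : PicF.IsInvertible L) (d : ℕ) {M : X.Modules} (hM : Coh.IsCoh M)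
    (h : CohB1.support M = ∅) : BddAll k d L M := by
  haveI := CurveCohLib.isNoetherian_of_proper (k := k) (X := X)
  have hz : IsZero M := QCoh.isZero_of_app_eq_zero hM.1 fun W s =>
    TopCat.Presheaf.section_ext ⟨M.presheaf, M.isSheaf⟩ _ _ _ fun y hy => by
      haveI : Subsingleton (M.presheaf.stalk y) := not_not.1 fun hy' => h.le hy'
      exact Subsingleton.elim _ _
  refine fun j => ⟨0, fun n => ?_⟩
  haveI := AmpleVan.isEquivalence_tw (InvX.isInvertible_tensorPow hL n)
  have hzt : IsZero (ShStab.twist X L M n) := (AmpleVan.tw (CohB1.tensorPow L n)).map_isZero hz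
  haveI := Euler.subsingleton_HH_of_isZero hzt j
  simp [hf, hdim, Module.finrank_zero_of_subsingleton]

/-- The growth of the cohomology of twists. -/
theorem bdd_of_dim_lt (hL : PicF.IsInvertible L) (d : ℕ) :
    ∀ (C : Closeds X), topologicalKrullDim ↥(C : Set X) < (d : WithBot ℕ∞) →
      ∀ M : X.Modules, Coh.IsCoh M → CohB1.support M ⊆ C → BddAll k d L M := by
  haveI := CurveCohLib.isNoetherian_of_proper (k := k) (X := X)
  induction d with
  | zero =>
    intro C hC M hM hMC
    refine bdd_of_support_empty k hL 0 hM (Set.eq_empty_of_forall_notMem fun x hx => ?_)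
    haveI : Nonempty ↥(C : Set X) := ⟨⟨x, hMC hx⟩⟩
    haveI : Nonempty (IrreducibleCloseds ↥(C : Set X)) :=
      ⟨⟨closure {⟨x, hMC hx⟩}, isIrreducible_singleton.closure, isClosed_closure⟩⟩
    exact absurd hC (not_lt.2 (by exact_mod_cast Order.krullDim_nonneg))
  | succ d IHd =>
    intro C
    induction C using WellFoundedLT.induction with
    | ind C IH =>
      intro hC M hM hMC
      rcases Set.eq_empty_or_nonempty (C : Set X) with h0 | hne
      · exact bdd_of_support_empty k hL _ hM (Set.subset_empty_iff.1 (h0 ▸ hMC))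
      by_cases hirr : IsIrreducible (C : Set X)
      · obtain ⟨η, hη⟩ := QuasiSober.sober hirr C.isClosed
        have hηC : η ∈ (C : Set X) := hη.mem
        obtain ⟨U, hηU, e, he⟩ := InvX.exists_frame hL η
        refine bdd_step k hL he (fun N hN hNs => IHd ⟨_, C.isClosed.sdiff U.2⟩ ?_ N hN hNs) hM hMC
        exact dim_sdiff_lt hirr C.isClosed hηC hηU hC
      · obtain ⟨A, B, hA, hB, hsub, hnA, hnB⟩ : ∃ A B : Set X, IsClosed A ∧ IsClosed B ∧
            (C : Set X) ⊆ A ∪ B ∧ ¬ (C : Set X) ⊆ A ∧ ¬ (C : Set X) ⊆ B := by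
          by_contra! hno
          exact hirr ⟨hne, isPreirreducible_iff_isClosed_union_isClosed.2 fun A B hA hB hs =>
            or_iff_not_imp_left.2 fun hA' => hno A B hA hB hs hA'⟩
        let C₁ : Closeds X := ⟨(C : Set X) ∩ A, C.isClosed.inter hA⟩
        let C₂ : Closeds X := ⟨(C : Set X) ∩ B, C.isClosed.inter hB⟩
        have h1 : C₁ < C := lt_of_le_of_ne (Set.inter_subset_left : (C : Set X) ∩ A ⊆ C)
          fun h => hnA (Set.inter_eq_left.1 (congrArg (SetLike.coe) h))
        have h2 : C₂ < C := lt_of_le_of_ne (Set.inter_subset_left : (C : Set X) ∩ B ⊆ C)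
          fun h => hnB (Set.inter_eq_left.1 (congrArg (SetLike.coe) h))
        have hdim : ∀ C' : Closeds X, C' ≤ C → topologicalKrullDim ↥(C' : Set X) < ((d + 1 : ℕ) : WithBot ℕ∞) :=
          fun C' h => lt_of_le_of_lt ((Topology.IsInducing.subtypeVal.of_comp_iff.1
            (show Topology.IsInducing (Subtype.val ∘ Set.inclusion (show (C' : Set X) ⊆ C from h)) from
              Topology.IsInducing.subtypeVal)).topologicalKrullDim_le) hC
        exact bdd_of_split k hL (C := C) (C₁ := C₁) (C₂ := C₂)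
          (fun x hx => (hsub hx).imp (fun h => ⟨hx, h⟩) fun h => ⟨hx, h⟩)
          (IH C₁ h1 (hdim C₁ h1.le)) (IH C₂ h2 (hdim C₂ h2.le)) hM hMC

/-- On an irreducible scheme, a free summand over an open set bounds the twists from below. -/
theorem exists_bound_of_free [IrreducibleSpace X] {g : ℕ}
    (hg : topologicalKrullDim X < ((g + 1 : ℕ) : WithBot ℕ∞)) (hL : PicF.IsInvertible L) {P : X.Modules}
    (hP : Coh.IsCoh P) {U : X.Opens} {x : X} (hx : x ∈ U) {d : ℕ} (hd : 0 < d)
    (e : P.restrict U.ι ≅ FlatMod.freeMod (U : Scheme.{u}) d) (j : ℕ) :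
    ∃ C, ∀ n, hf k j L (Coh.structureModule X) n ≤ hf k j L P n + C * pw g n := by
  haveI := CurveCohLib.isNoetherian_of_proper (k := k) (X := X)
  let Fr := FlatMod.freeMod X d
  have hFr : Coh.IsCoh Fr := CurveDeg.isCoh_of_isFinLocFree fun x => ⟨⊤, d, trivial, ⟨QCoh.freeModRestrict _ d⟩⟩
  let Q := (Scheme.Modules.pushforward U.ι).obj (P.restrict U.ι)
  have hQ : Coh.IsQCoh Q := QCoh.isQCoh_pushforward U.ι (QCoh.isQCoh_restrict U.ι hP.1)
  let t := (Scheme.Modules.pushforward U.ι).map ((QCoh.freeModRestrict U.ι d).hom ≫ e.inv)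
  have hφ : IsoOn U (resMap U Fr ≫ t) := fun y hy => by
    haveI := isoOn_resMap U Fr y hy
    rw [Functor.map_comp]
    infer_instance
  obtain ⟨K, I, a, b, c, hK, hI, ha, hb, hc⟩ := exists_link hFr hP hQ _ (resMap U P) hφ (isoOn_resMap U P)
  have IH : ∀ M : X.Modules, Coh.IsCoh M → CohB1.support M ⊆ Set.univ \ U → BddAll k g L M := by
    intro M hM hMs
    refine bdd_of_dim_lt k hL g ⟨_, isClosed_univ.sdiff U.2⟩ ?_ M hM hMs
    exact dim_sdiff_lt (IrreducibleSpace.isIrreducible_univ X) isClosed_univ (Set.mem_univ x) hx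
      (by rwa [(Homeomorph.Set.univ X).isHomeomorph.topologicalKrullDim_eq])
  have h := ((near_of_isoOn k hL IH hK hFr (Set.subset_univ _) (Set.subset_univ _) a ha j).symm.trans
    (near_of_isoOn k hL IH hK hI (Set.subset_univ _) (Set.subset_univ _) b hb j)).trans
    (near_of_isoOn k hL IH hP hI (Set.subset_univ _) (Set.subset_univ _) c hc j).symm
  obtain ⟨err, ⟨C, hC⟩, he⟩ := h
  refine ⟨C, fun n => ?_⟩
  let O := fun _ : Fin d => Coh.structureModule X
  have hr : hf k j L (Coh.structureModule X) n ≤ hf k j L Fr n := by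
    let F := AmpleVan.tw (CohB1.tensorPow L n)
    refine hdim_le_of_retract k (isCoh_twist k hL hFr n) (F.map (Sigma.ι O ⟨0, hd⟩))
      (F.map (Sigma.desc fun _ => 𝟙 (Coh.structureModule X))) ?_ j
    rw [← F.map_comp, Sigma.ι_desc, F.map_id]
  have := (he n).1
  have := hC n
  omega

end Groth.Agent.AVEuler.Growth

end
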