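import Groth.Agent.AVEuler.Growth

/-!
# Growth of the cohomology of twists by two modules
-/

noncomputable section

set_option autoImplicit false
set_option linter.style.haveILetI false
set_option linter.unusedSectionVars false
set_option backward.isDefEq.respectTransparency false
set_option backward.isDefEq.respectTransparency.types false
set_option maxHeartbeats 1600000

universe u

open CategoryTheory CategoryTheory.Limits AlgebraicGeometry TopologicalSpace Opposite

namespace Groth.Agent.AVEuler.Growth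

open Groth.Agent Groth.Agent.Snapper

/-- double sequences bounded by the comparison sequence -/
def Bdd2 (d : ℕ) (f : ℕ → ℕ → ℕ) : Prop := ∃ C, ∀ a b, f a b ≤ C * pw d (a + b)

theorem Bdd2.add {d : ℕ} {f g : ℕ → ℕ → ℕ} (h : Bdd2 d f) (h' : Bdd2 d g) : Bdd2 d (fun a b => f a b + g a b) :=
  let ⟨C, hC⟩ := h; let ⟨C', hC'⟩ := h'
  ⟨C + C', fun a b => (add_le_add (hC a b) (hC' a b)).trans_eq (by ring)⟩

theorem Bdd2.of_le {d : ℕ} {f g : ℕ → ℕ → ℕ} (h : Bdd2 d f) (e : ∀ a b, g a b ≤ f a b) : Bdd2 d g :=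
  let ⟨C, hC⟩ := h; ⟨C, fun a b => (e a b).trans (hC a b)⟩

/-- double sequences differing by a bounded one -/
def Near2 (d : ℕ) (f g : ℕ → ℕ → ℕ) : Prop :=
  ∃ e, Bdd2 d e ∧ ∀ a b, f a b ≤ g a b + e a b ∧ g a b ≤ f a b + e a b

theorem Near2.symm {d : ℕ} {f g : ℕ → ℕ → ℕ} (h : Near2 d f g) : Near2 d g f :=
  let ⟨e, he, h⟩ := h; ⟨e, he, fun a b => (h a b).symm⟩

theorem Near2.trans {d : ℕ} {f g h : ℕ → ℕ → ℕ} (h1 : Near2 d f g) (h2 : Near2 d g h) : Near2 d f h :=
  let ⟨e, he, h1⟩ := h1; let ⟨e', he', h2⟩ := h2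
  ⟨fun a b => e a b + e' a b, he.add he', fun a b => by
    have := h1 a b; have := h2 a b
    show f a b ≤ h a b + (e a b + e' a b) ∧ h a b ≤ f a b + (e a b + e' a b)
    omega⟩

/-- a double sequence with small steps -/
theorem bdd2_of_step {d : ℕ} {f : ℕ → ℕ → ℕ} (h1 : Near2 d f (fun a b => f (a + 1) b))
    (h2 : Near2 d f (fun a b => f a (b + 1))) : Bdd2 (d + 1) f := by
  obtain ⟨e, ⟨C, hC⟩, he⟩ := h1
  obtain ⟨e', ⟨C', hC'⟩, he'⟩ := h2
  have ka : ∀ n a, a ≤ n → f a 0 ≤ f 0 0 + a * ((C + C') * pw d n) := by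
    intro n a
    induction a with
    | zero => intro _; simp
    | succ a ih =>
      intro ha
      have p1 := ih (Nat.le_of_succ_le ha)
      have p2 : f (a + 1) 0 ≤ f a 0 + e a 0 := (he a 0).2
      have p3 : e a 0 ≤ (C + C') * pw d n :=
        (hC a 0).trans (Nat.mul_le_mul (Nat.le_add_right _ _) (pw_mono d (by omega)))
      show f (a + 1) 0 ≤ _
      rw [Nat.succ_mul]
      omega
  have kb : ∀ n a b, a + b ≤ n → f a b ≤ f 0 0 + (a + b) * ((C + C') * pw d n) := by
    intro n a b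
    induction b with
    | zero => intro h; simpa using ka n a h
    | succ b ih =>
      intro hb
      have p1 := ih (by omega)
      have p2 : f a (b + 1) ≤ f a b + e' a b := (he' a b).2
      have p3 : e' a b ≤ (C + C') * pw d n :=
        (hC' a b).trans (Nat.mul_le_mul (Nat.le_add_left _ _) (pw_mono d (by omega)))
      show f a (b + 1) ≤ _
      rw [← add_assoc, Nat.succ_mul]
      omega
  refine ⟨f 0 0 + (C + C'), fun a b => (kb _ a b le_rfl).trans ?_⟩
  rw [add_mul (f 0 0) (C + C')]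
  refine add_le_add (Nat.le_mul_of_pos_right _ (one_le_pw d _)) ?_
  rw [Nat.mul_left_comm]
  exact Nat.mul_le_mul_left _ (mul_pw_le d _)

/-- the double twists -/
abbrev twist2 {X : Scheme.{u}} (L H M : X.Modules) (a b : ℕ) : X.Modules :=
  ShStab.twist X H (ShStab.twist X L M a) b

variable (k : Type u) [Field k] {X : Scheme.{u}} [X.Over (Spec (CommRingCat.of k))]

/-- the dimensions for the double twists -/
def hf2 (j : ℕ) (L H M : X.Modules) : ℕ → ℕ → ℕ := fun a b => hdim k j (twist2 L H M a b)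

variable [IsProper (X ↘ Spec (CommRingCat.of k))] {L H : X.Modules}

theorem hf2_ses (hL : PicF.IsInvertible L) (hH : PicF.IsInvertible H) {S : ShortComplex X.Modules}
    (hS : S.ShortExact) (h₁ : Coh.IsCoh S.X₁) (h₂ : Coh.IsCoh S.X₂) (h₃ : Coh.IsCoh S.X₃) (j a b : ℕ) :
    hf2 k j L H S.X₂ a b ≤ hf2 k j L H S.X₁ a b + hf2 k j L H S.X₃ a b ∧
      hf2 k j L H S.X₁ a b ≤ hf2 k j L H S.X₂ a b + hf2 k (j - 1) L H S.X₃ a b ∧
      hf2 k j L H S.X₃ a b ≤ hf2 k j L H S.X₂ a b + hf2 k (j + 1) L H S.X₁ a b := by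
  let P := CohB1.tensorPow L a
  haveI := AmpleVan.isEquivalence_tw (InvX.isInvertible_tensorPow hL a)
  haveI : (AmpleVan.tw P).Additive := Functor.additive_of_preserves_binary_products _
  exact hf_ses k hH (S := S.map (AmpleVan.tw P)) (hS.map_of_exact _) (isCoh_twist k hL h₁ a) (isCoh_twist k hL h₂ a)
    (isCoh_twist k hL h₃ a) j b

/-- all degrees bounded -/
def BddAll2 (d : ℕ) (L H M : X.Modules) : Prop := ∀ j, Bdd2 d (hf2 k j L H M)

theorem near2_of_isoOn (hL : PicF.IsInvertible L) (hH : PicF.IsInvertible H) {d : ℕ} {C : Set X} {U : X.Opens}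
    (IH : ∀ M : X.Modules, Coh.IsCoh M → CohB1.support M ⊆ C \ U → BddAll2 k d L H M)
    {A B : X.Modules} (hA : Coh.IsCoh A) (hB : Coh.IsCoh B) (hAC : CohB1.support A ⊆ C)
    (hBC : CohB1.support B ⊆ C) (φ : A ⟶ B) (hφ : IsoOn U φ) (j : ℕ) :
    Near2 d (hf2 k j L H A) (hf2 k j L H B) := by
  haveI := CurveCohLib.isNoetherian_of_proper (k := k) (X := X)
  have hK := QCoh.isCoh_kernel hA hB φ
  have hC := QCoh.isCoh_cokernel hA.1 hB φ
  have hI : Coh.IsCoh (Abelian.image φ) :=
    QCoh.isCoh_of_epi (Abelian.factorThruImage φ) hA (QCoh.isQCoh_kernel hB.1 hC.1 _)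
  obtain ⟨hk, hc⟩ := support_subset_compl hφ
  obtain ⟨hk', hc'⟩ := support_sub_of_map hA hB φ
  have bK := IH _ hK fun x hx => ⟨hAC (hk' hx), hk hx⟩
  have bC := IH _ hC fun x hx => ⟨hBC (hc' hx), hc hx⟩
  refine ⟨_, ((bK j).add (bK (j + 1))).add ((bC j).add (bC (j - 1))), fun n m => ?_⟩
  have h1 := hf2_ses k hL hH (S := ShortComplex.mk (kernel.ι φ) (Abelian.factorThruImage φ)
      ((cancel_mono (Abelian.image.ι φ)).1 (by rw [Category.assoc, Abelian.image.fac, kernel.condition, zero_comp])))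
    { exact := ShortComplex.exact_of_f_is_kernel _ (KernelFork.IsLimit.ofι' _ _ fun {T} t ht =>
        ⟨kernel.lift φ t (by rw [← Abelian.image.fac φ, reassoc_of% ht, zero_comp]), kernel.lift_ι _ _ _⟩)
      mono_f := inferInstance
      epi_g := inferInstance } hK hA hI j n m
  have h2 := hf2_ses k hL hH (S := ShortComplex.mk (Abelian.image.ι φ) (cokernel.π φ) (kernel.condition _))
    { exact := ShortComplex.exact_of_f_is_kernel _ (kernelIsKernel (cokernel.π φ))
      mono_f := inferInstance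
      epi_g := inferInstance } hI hB hC j n m
  dsimp only at h1 h2
  show _ ≤ _ + (hf2 k j L H (kernel φ) n m + hf2 k (j + 1) L H (kernel φ) n m +
      (hf2 k j L H (cokernel φ) n m + hf2 k (j - 1) L H (cokernel φ) n m)) ∧
    _ ≤ _ + (hf2 k j L H (kernel φ) n m + hf2 k (j + 1) L H (kernel φ) n m +
      (hf2 k j L H (cokernel φ) n m + hf2 k (j - 1) L H (cokernel φ) n m))
  omega

theorem bdd2_of_split (hL : PicF.IsInvertible L) (hH : PicF.IsInvertible H) {d : ℕ} {C C₁ C₂ : Closeds X} (hC : (C : Set X) ⊆ ↑C₁ ∪ ↑C₂)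
    (h₁ : ∀ M : X.Modules, Coh.IsCoh M → CohB1.support M ⊆ C₁ → BddAll2 k d L H M)
    (h₂ : ∀ M : X.Modules, Coh.IsCoh M → CohB1.support M ⊆ C₂ → BddAll2 k d L H M)
    {M : X.Modules} (hM : Coh.IsCoh M) (hMC : CohB1.support M ⊆ C) : BddAll2 k d L H M := by
  haveI := CurveCohLib.isNoetherian_of_proper (k := k) (X := X)
  let U : X.Opens := ⟨(C₂ : Set X)ᶜ, C₂.isClosed.isOpen_compl⟩
  let φ := resMap U M
  have hQ : Coh.IsQCoh ((Scheme.Modules.pushforward U.ι).obj (M.restrict U.ι)) :=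
    QCoh.isQCoh_pushforward U.ι (QCoh.isQCoh_restrict U.ι hM.1)
  have hco := QCoh.isQCoh_cokernel hM.1 hQ φ
  have hI : Coh.IsCoh (Abelian.image φ) :=
    QCoh.isCoh_of_epi (Abelian.factorThruImage φ) hM (QCoh.isQCoh_kernel hQ hco _)
  have hK : Coh.IsCoh (kernel φ) := QCoh.isCoh_of_mono (kernel.ι φ) hM (QCoh.isQCoh_kernel hM.1 hQ φ)
  have bK : BddAll2 k d L H (kernel φ) := h₂ _ hK fun x hx =>
    not_not.1 fun hx2 => (support_subset_compl (isoOn_resMap U M)).1 hx (show x ∈ U from hx2)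
  have bI : BddAll2 k d L H (Abelian.image φ) := h₁ _ hI fun x hx => by
    by_contra hx1
    have hP := QCoh.mem_support_of_mono hI.1 hQ (Abelian.image.ι φ) hx
    refine notMem_support_push (W := ⟨(C₁ : Set X)ᶜ, C₁.isClosed.isOpen_compl⟩) hx1 ?_ hP
    exact Set.disjoint_left.2 fun y hy hyM => (hC (hMC hyM)).elim hy.1 hy.2
  exact fun j => ((bK j).add (bI j)).of_le fun n m => (hf2_ses k hL hH
    (S := ShortComplex.mk (kernel.ι φ) (Abelian.factorThruImage φ)
      ((cancel_mono (Abelian.image.ι φ)).1 (by rw [Category.assoc, Abelian.image.fac, kernel.condition, zero_comp])))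
    { exact := ShortComplex.exact_of_f_is_kernel _ (KernelFork.IsLimit.ofι' _ _ fun {T} t ht =>
        ⟨kernel.lift φ t (by rw [← Abelian.image.fac φ, reassoc_of% ht, zero_comp]), kernel.lift_ι _ _ _⟩)
      mono_f := inferInstance
      epi_g := inferInstance } hK hM hI j n m).1

/-- moving a module out of a twist -/
def twistSwapIso (L H M : X.Modules) (a : ℕ) :
    ShStab.twist X L ((AmpleVan.tw M).obj H) a ≅ (AmpleVan.tw (ShStab.twist X L M a)).obj H :=
  AmpleVan.assocT H M (CohB1.tensorPow L a)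

/-- the dévissage step -/
theorem bdd2_step (hL : PicF.IsInvertible L) (hH : PicF.IsInvertible H) {d : ℕ} {C : Closeds X} {U : X.Opens}
    {e : Γ(L, U)} (he : InvX.IsFrame e) {e' : Γ(H, U)} (he' : InvX.IsFrame e')
    (IH : ∀ M : X.Modules, Coh.IsCoh M → CohB1.support M ⊆ (C : Set X) \ U → BddAll2 k d L H M)
    {M : X.Modules} (hM : Coh.IsCoh M) (hMC : CohB1.support M ⊆ C) : BddAll2 k (d + 1) L H M := by
  haveI := CurveCohLib.isNoetherian_of_proper (k := k) (X := X)
  let F := AmpleVan.tw M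
  have hsupp : ∀ A, CohB1.support (F.obj A) ⊆ C := fun A => fun x hx => hMC (CurveTensor.support_tensor_subset hx)
  have hcoh : ∀ {A}, Coh.IsCoh A → Coh.IsCoh (F.obj A) := fun h => AmpleVan.isCoh_tensor h hM
  have link : ∀ {P : X.Modules}, PicF.IsInvertible P → ∀ {p : Γ(P, U)}, InvX.IsFrame p → ∀ j,
      Near2 d (hf2 k j L H M) (hf2 k j L H (F.obj P)) := by
    intro P hP p hp j
    obtain ⟨K, I, a, b, c, hK, hI, ha, hb, hc⟩ := exists_link_frame hP hp
    have hPc := AmpleVan.isCoh_invertible hP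
    have e1 := near2_of_isoOn k hL hH IH (hcoh hK) (hcoh QCoh.isCoh_structureModule') (hsupp _) (hsupp _) _ (ha.tensor M) j
    have e2 := near2_of_isoOn k hL hH IH (hcoh hK) (hcoh hI) (hsupp _) (hsupp _) _ (hb.tensor M) j
    have e3 := near2_of_isoOn k hL hH IH (hcoh hPc) (hcoh hI) (hsupp _) (hsupp _) _ (hc.tensor M) j
    have h := e1.symm.trans (e2.trans e3.symm)
    have h1 : hf2 k j L H (F.obj (Coh.structureModule X)) = hf2 k j L H M := funext fun n => funext fun m =>
      hdim_congr k ((AmpleVan.tw (CohB1.tensorPow H m)).mapIso ((AmpleVan.tw (CohB1.tensorPow L n)).mapIso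
        (CurveTensor.structureTensorIso M))) (isCoh_twist k hH (isCoh_twist k hL (hcoh QCoh.isCoh_structureModule') n) m)
        (isCoh_twist k hH (isCoh_twist k hL hM n) m) j
    rwa [h1] at h
  intro j
  refine bdd2_of_step ?_ ?_
  · have h := link hL he j
    have h2 : hf2 k j L H (F.obj L) = fun n m => hf2 k j L H M (n + 1) m := funext fun n => funext fun m =>
      hdim_congr k ((AmpleVan.tw (CohB1.tensorPow H m)).mapIso (twistSuccIso L M n))
        (isCoh_twist k hH (isCoh_twist k hL (hcoh (AmpleVan.isCoh_invertible hL)) n) m)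
        (isCoh_twist k hH (isCoh_twist k hL hM (n + 1)) m) j
    rwa [h2] at h
  · have h := link hH he' j
    have h2 : hf2 k j L H (F.obj H) = fun n m => hf2 k j L H M n (m + 1) := funext fun n => funext fun m =>
      hdim_congr k ((AmpleVan.tw (CohB1.tensorPow H m)).mapIso (twistSwapIso L H M n) ≪≫
          twistSuccIso H (ShStab.twist X L M n) m)
        (isCoh_twist k hH (isCoh_twist k hL (hcoh (AmpleVan.isCoh_invertible hH)) n) m)
        (isCoh_twist k hH (isCoh_twist k hL hM n) (m + 1)) j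
    rwa [h2] at h

theorem bdd2_of_support_empty (hL : PicF.IsInvertible L) (hH : PicF.IsInvertible H) (d : ℕ) {M : X.Modules} (hM : Coh.IsCoh M)
    (h : CohB1.support M = ∅) : BddAll2 k d L H M := by
  haveI := CurveCohLib.isNoetherian_of_proper (k := k) (X := X)
  have hz : IsZero M := QCoh.isZero_of_app_eq_zero hM.1 fun W s =>
    TopCat.Presheaf.section_ext ⟨M.presheaf, M.isSheaf⟩ _ _ _ fun y hy => by
      haveI : Subsingleton (M.presheaf.stalk y) := not_not.1 fun hy' => h.le hy'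
      exact Subsingleton.elim _ _
  refine fun j => ⟨0, fun n m => ?_⟩
  haveI := AmpleVan.isEquivalence_tw (InvX.isInvertible_tensorPow hL n)
  haveI := AmpleVan.isEquivalence_tw (InvX.isInvertible_tensorPow hH m)
  have hzt : IsZero (twist2 L H M n m) :=
    (AmpleVan.tw (CohB1.tensorPow H m)).map_isZero ((AmpleVan.tw (CohB1.tensorPow L n)).map_isZero hz)
  haveI := Euler.subsingleton_HH_of_isZero hzt j
  simp [hf2, hdim, Module.finrank_zero_of_subsingleton]

/-- The growth of the cohomology of twists. -/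
theorem bdd2_of_dim_lt (hL : PicF.IsInvertible L) (hH : PicF.IsInvertible H) (d : ℕ) :
    ∀ (C : Closeds X), topologicalKrullDim ↥(C : Set X) < (d : WithBot ℕ∞) →
      ∀ M : X.Modules, Coh.IsCoh M → CohB1.support M ⊆ C → BddAll2 k d L H M := by
  haveI := CurveCohLib.isNoetherian_of_proper (k := k) (X := X)
  induction d with
  | zero =>
    intro C hC M hM hMC
    refine bdd2_of_support_empty k hL hH 0 hM (Set.eq_empty_of_forall_notMem fun x hx => ?_)
    haveI : Nonempty ↥(C : Set X) := ⟨⟨x, hMC hx⟩⟩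
    haveI : Nonempty (IrreducibleCloseds ↥(C : Set X)) :=
      ⟨⟨closure {⟨x, hMC hx⟩}, isIrreducible_singleton.closure, isClosed_closure⟩⟩
    exact absurd hC (not_lt.2 (by exact_mod_cast Order.krullDim_nonneg))
  | succ d IHd =>
    intro C
    induction C using WellFoundedLT.induction with
    | ind C IH =>
      intro hC M hM hMC
      rcases Set.eq_empty_or_nonempty (C : Set X) with h0 | hne
      · exact bdd2_of_support_empty k hL hH _ hM (Set.subset_empty_iff.1 (h0 ▸ hMC))
      by_cases hirr : IsIrreducible (C : Set X)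
      · obtain ⟨η, hη⟩ := QuasiSober.sober hirr C.isClosed
        have hηC : η ∈ (C : Set X) := hη.mem
        obtain ⟨U₁, hη1, e₁, he₁⟩ := InvX.exists_frame hL η
        obtain ⟨U₂, hη2, e₂, he₂⟩ := InvX.exists_frame hH η
        let U := U₁ ⊓ U₂
        have hηU : η ∈ U := ⟨hη1, hη2⟩
        have he := he₁.res (inf_le_left : U ≤ U₁)
        have he' := he₂.res (inf_le_right : U ≤ U₂)
        refine bdd2_step k hL hH he he' (fun N hN hNs => IHd ⟨_, C.isClosed.sdiff U.2⟩ ?_ N hN hNs) hM hMC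
        exact dim_sdiff_lt hirr C.isClosed hηC hηU hC
      · obtain ⟨A, B, hA, hB, hsub, hnA, hnB⟩ : ∃ A B : Set X, IsClosed A ∧ IsClosed B ∧
            (C : Set X) ⊆ A ∪ B ∧ ¬ (C : Set X) ⊆ A ∧ ¬ (C : Set X) ⊆ B := by
          by_contra! hno
          exact hirr ⟨hne, isPreirreducible_iff_isClosed_union_isClosed.2 fun A B hA hB hs =>
            or_iff_not_imp_left.2 fun hA' => hno A B hA hB hs hA'⟩
        let C₁ : Closeds X := ⟨(C : Set X) ∩ A, C.isClosed.inter hA⟩
        let C₂ : Closeds X := ⟨(C : Set X) ∩ B, C.isClosed.inter hB⟩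
        have h1 : C₁ < C := lt_of_le_of_ne (Set.inter_subset_left : (C : Set X) ∩ A ⊆ C)
          fun h => hnA (Set.inter_eq_left.1 (congrArg (SetLike.coe) h))
        have h2 : C₂ < C := lt_of_le_of_ne (Set.inter_subset_left : (C : Set X) ∩ B ⊆ C)
          fun h => hnB (Set.inter_eq_left.1 (congrArg (SetLike.coe) h))
        have hdim : ∀ C' : Closeds X, C' ≤ C → topologicalKrullDim ↥(C' : Set X) < ((d + 1 : ℕ) : WithBot ℕ∞) :=
          fun C' h => lt_of_le_of_lt ((Topology.IsInducing.subtypeVal.of_comp_iff.1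
            (show Topology.IsInducing (Subtype.val ∘ Set.inclusion (show (C' : Set X) ⊆ C from h)) from
              Topology.IsInducing.subtypeVal)).topologicalKrullDim_le) hC
        exact bdd2_of_split k hL hH (C := C) (C₁ := C₁) (C₂ := C₂)
          (fun x hx => (hsub hx).imp (fun h => ⟨hx, h⟩) fun h => ⟨hx, h⟩)
          (IH C₁ h1 (hdim C₁ h1.le)) (IH C₂ h2 (hdim C₂ h2.le)) hM hMC

end Groth.Agent.AVEuler.Growth

end
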