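import Mathlib.Algebra.MvPolynomial.Funext
import Mathlib.Algebra.MvPolynomial.Eval
import Mathlib.Algebra.Polynomial.Roots
import Mathlib.RingTheory.Polynomial.Basic
import Mathlib.Algebra.MvPolynomial.Polynomial
import Mathlib.Tactic

/-! A function of a quadratic form, multiplicative on diagonal forms, is a monomial. -/

set_option autoImplicit false

open MvPolynomial

namespace Groth.Agent.AVEuler

theorem eq_of_forall_int {σ : Type*} (F G : MvPolynomial σ ℚ)
    (h : ∀ n : σ → ℤ, eval (fun i => (n i : ℚ)) F = eval (fun i => (n i : ℚ)) G) : F = G := by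
  refine MvPolynomial.funext_set (fun _ => Set.range fun m : ℤ => (m : ℚ))
    (fun _ => Set.infinite_range_of_injective Int.cast_injective) fun x hx => ?_
  choose n hn using fun i => hx i trivial
  obtain rfl : x = fun i => (n i : ℚ) := funext fun i => (hn i).symm
  exact h n

theorem eval_aeval' {σ τ : Type*} (g : σ → MvPolynomial τ ℚ) (F : MvPolynomial σ ℚ) (x : τ → ℚ) :
    eval x (aeval g F) = eval (fun i => eval x (g i)) F := by
  rw [map_aeval, coe_eval₂Hom]
  have hC : (eval x).comp (algebraMap ℚ (MvPolynomial τ ℚ)) = RingHom.id ℚ :=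
    RingHom.ext fun r => by simp
  rw [hC, eval₂_id]

theorem eval_comp_C' {σ : Type*} (x : σ → ℚ) : (eval x).comp C = RingHom.id ℚ :=
  RingHom.ext fun r => eval_C r

/-- the core of homogeneity of the Riemann–Roch polynomial -/
theorem eq_monomial_of_symmetric (P : Polynomial ℚ) (F : MvPolynomial (Fin 3) ℚ) (l : ℚ) (hl : l ≠ 0)
    (h0 : ∀ a b : ℤ, eval ![(a : ℚ), (b : ℚ), 0] F = l * P.eval (a : ℚ) * P.eval (b : ℚ))
    (hsh : ∀ a b c : ℤ, eval ![(a : ℚ), (a + b + 2 * c : ℚ), (a + c : ℚ)] F = eval ![(a : ℚ), (b : ℚ), (c : ℚ)] F)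
    (hsw : ∀ a b c : ℤ, eval ![(b : ℚ), (a : ℚ), (c : ℚ)] F = eval ![(a : ℚ), (b : ℚ), (c : ℚ)] F)
    (hP : P ≠ 0) : ∃ (C : ℚ) (j : ℕ), P = Polynomial.C C * Polynomial.X ^ j := by
  -- the shears
  have hm : ∀ (m : ℕ) (a b c : ℤ),
      eval ![(a : ℚ), (b + 2 * c * m + a * m ^ 2 : ℚ), (c + a * m : ℚ)] F = eval ![(a : ℚ), (b : ℚ), (c : ℚ)] F := by
    intro m
    induction m with
    | zero => intro a b c; norm_num
    | succ m ih =>
      intro a b c
      rw [← hsh a b c]
      have := ih a (a + b + 2 * c) (a + c)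
      push_cast at this ⊢
      rw [← this]
      congr 2
      funext i
      fin_cases i <;> simp <;> ring
  let G : Fin 3 → MvPolynomial (Fin 4) ℚ :=
    ![X 0, X 1 + C 2 * X 2 * X 3 + X 0 * X 3 ^ 2, X 2 + X 0 * X 3]
  have hG : aeval G F = rename Fin.castSucc F := by
    refine MvPolynomial.funext_set ![Set.range fun m : ℤ => (m : ℚ), Set.range fun m : ℤ => (m : ℚ),
      Set.range fun m : ℤ => (m : ℚ), Set.range fun m : ℕ => (m : ℚ)] (fun i => ?_) fun x hx => ?_
    · fin_cases i
      · exact Set.infinite_range_of_injective Int.cast_injective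
      · exact Set.infinite_range_of_injective Int.cast_injective
      · exact Set.infinite_range_of_injective Int.cast_injective
      · exact Set.infinite_range_of_injective Nat.cast_injective
    · obtain ⟨a, ha⟩ := hx 0 trivial
      obtain ⟨b, hb⟩ := hx 1 trivial
      obtain ⟨c, hc⟩ := hx 2 trivial
      obtain ⟨m, hm'⟩ := hx 3 trivial
      rw [eval_aeval', eval_rename]
      have e1 : (fun i => eval x (G i)) = ![(a : ℚ), (b + 2 * c * m + a * m ^ 2 : ℚ), (c + a * m : ℚ)] := by
        funext i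
        fin_cases i <;> simp [G, ← ha, ← hb, ← hc, ← hm']
      have e2 : x ∘ Fin.castSucc = ![(a : ℚ), (b : ℚ), (c : ℚ)] := by
        funext i
        fin_cases i <;> simp [← ha, ← hb, ← hc]
      rw [e1, e2]
      exact hm m a b c
  have hm' : ∀ a b c m : ℚ, eval ![a, b + 2 * c * m + a * m ^ 2, c + a * m] F = eval ![a, b, c] F := by
    intro a b c m
    have := congrArg (eval ![a, b, c, m]) hG
    rw [eval_aeval', eval_rename] at this
    have e1 : (fun i => eval ![a, b, c, m] (G i)) = ![a, b + 2 * c * m + a * m ^ 2, c + a * m] := by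
      funext i
      fin_cases i <;> simp [G]
    have e2 : ![a, b, c, m] ∘ Fin.castSucc = ![a, b, c] := by
      funext i
      fin_cases i <;> simp
    rwa [e1, e2] at this
  have hsw' : ∀ a b c : ℚ, eval ![b, a, c] F = eval ![a, b, c] F := by
    intro a b c
    have := congrArg (eval ![a, b, c]) (eq_of_forall_int (aeval ![X 1, X 0, X 2] F) F fun n => by
      rw [eval_aeval']
      have e1 : (fun i => eval (fun i => (n i : ℚ)) (![X 1, X 0, X 2] i : MvPolynomial (Fin 3) ℚ)) =
          ![(n 1 : ℚ), (n 0 : ℚ), (n 2 : ℚ)] := by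
        funext i
        fin_cases i <;> simp
      have e2 : (fun i => (n i : ℚ)) = ![(n 0 : ℚ), (n 1 : ℚ), (n 2 : ℚ)] := by
        funext i
        fin_cases i <;> simp
      rw [e1, e2]
      exact hsw _ _ _)
    rw [eval_aeval'] at this
    have e1 : (fun i => eval ![a, b, c] (![X 1, X 0, X 2] i : MvPolynomial (Fin 3) ℚ)) = ![b, a, c] := by
      funext i
      fin_cases i <;> simp
    rwa [e1] at this
  have h0' : ∀ a b : ℚ, eval ![a, b, 0] F = l * P.eval a * P.eval b := by
    intro a b
    have := congrArg (eval ![a, b]) (eq_of_forall_int (aeval ![X 0, X 1, 0] F)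
      (C l * Polynomial.aeval (X 0) P * Polynomial.aeval (X 1 : MvPolynomial (Fin 2) ℚ) P) fun n => by
        rw [eval_aeval']
        have e1 : (fun i => eval (fun i => (n i : ℚ)) (![X 0, X 1, 0] i : MvPolynomial (Fin 2) ℚ)) =
            ![(n 0 : ℚ), (n 1 : ℚ), 0] := by
          funext i
          fin_cases i <;> simp
        rw [e1, h0, map_mul, map_mul, eval_C]
        simp only [Polynomial.aeval_def, Polynomial.hom_eval₂]
        simp [Polynomial.eval₂_eq_eval_map, eval_comp_C'])
    rw [eval_aeval'] at this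
    have e1 : (fun i => eval ![a, b] (![X 0, X 1, 0] i : MvPolynomial (Fin 2) ℚ)) = ![a, b, 0] := by
      funext i
      fin_cases i <;> simp
    rw [e1] at this
    rw [this, map_mul, map_mul, eval_C]
    simp only [Polynomial.aeval_def, Polynomial.hom_eval₂]
    simp [Polynomial.eval₂_eq_eval_map, eval_comp_C']
  -- the functional equation
  have key : ∀ a b c : ℚ, a ≠ 0 → b ≠ 0 →
      P.eval a * P.eval (b - c ^ 2 / a) = P.eval b * P.eval (a - c ^ 2 / b) := by
    intro a b c ha hb
    have h1 := hm' a b c (-c / a)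
    rw [show b + 2 * c * (-c / a) + a * (-c / a) ^ 2 = b - c ^ 2 / a by field_simp; ring,
      show c + a * (-c / a) = 0 by field_simp; ring, h0'] at h1
    have h2 := hm' b a c (-c / b)
    rw [show a + 2 * c * (-c / b) + b * (-c / b) ^ 2 = a - c ^ 2 / b by field_simp; ring,
      show c + b * (-c / b) = 0 by field_simp; ring, h0', hsw' a b c, ← h1] at h2
    exact mul_left_cancel₀ hl (by linear_combination -h2)
  -- a base point
  have hfin : {x : ℚ | P.IsRoot x}.Finite := Polynomial.finite_setOfPred_isRoot hP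
  obtain ⟨a, ha⟩ := ((hfin.insert 0).infinite_compl).nonempty
  simp only [Set.mem_compl_iff, Set.mem_insert_iff, Set.mem_ofPred_eq, not_or] at ha
  let K := P.eval a * P.eval a
  have hK : K ≠ 0 := mul_ne_zero ha.2 ha.2
  let g := P.natDegree
  let R : Polynomial ℚ := ∑ i ∈ Finset.range (g + 1), Polynomial.C (P.coeff i * (a * a) ^ i) * Polynomial.X ^ (g - i)
  have hR : ∀ b : ℚ, b ≠ 0 → R.eval b = b ^ g * P.eval (a * a / b) := by
    intro b hb
    rw [Polynomial.eval_finsetSum, Polynomial.eval_eq_sum_range, Finset.mul_sum]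
    refine Finset.sum_congr rfl fun i hi => ?_
    have hig : i ≤ g := Nat.lt_succ_iff.1 (Finset.mem_range.1 hi)
    rw [Polynomial.eval_mul, Polynomial.eval_C, Polynomial.eval_pow, Polynomial.eval_X, div_pow,
      ← Nat.sub_add_cancel hig, pow_add, Nat.add_sub_cancel]
    field_simp
  have hPR : P * R = Polynomial.C K * Polynomial.X ^ g := by
    refine Polynomial.eq_of_infinite_eval_eq _ _ (Set.Infinite.mono ?_
      (Set.infinite_range_of_injective (f := fun m : ℕ => (a * a + (m : ℚ) ^ 2) / a) fun m n h => ?_))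
    · rintro _ ⟨m, rfl⟩
      let b := (a * a + (m : ℚ) ^ 2) / a
      have hb : b ≠ 0 := div_ne_zero (by
        have h1 : 0 < a * a := mul_self_pos.2 ha.1
        have h2 : 0 ≤ (m : ℚ) ^ 2 := sq_nonneg _
        linarith) ha.1
      show (P * R).eval b = (Polynomial.C K * Polynomial.X ^ g).eval b
      have hk := key a b m ha.1 hb
      have h1 : b - (m : ℚ) ^ 2 / a = a := by
        simp only [b]
        rw [← sub_div, div_eq_iff ha.1]
        ring
      have h2 : a - (m : ℚ) ^ 2 / b = a * a / b := by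
        rw [eq_div_iff hb, sub_mul, div_mul_cancel₀ _ hb]
        simp only [b]
        rw [mul_div_cancel₀ _ ha.1]
        ring
      rw [h1, h2] at hk
      rw [Polynomial.eval_mul, hR b hb, Polynomial.eval_mul, Polynomial.eval_C, Polynomial.eval_pow, Polynomial.eval_X]
      linear_combination -(b ^ g) * hk
    · have h' : (m : ℚ) ^ 2 = (n : ℚ) ^ 2 := by
        have := congrArg (· * a) h
        simp only [div_mul_cancel₀ _ ha.1] at this
        linarith
      exact_mod_cast (pow_left_inj₀ (Nat.cast_nonneg m) (Nat.cast_nonneg n) two_ne_zero).1 h'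
  have hdvd : P ∣ Polynomial.X ^ g := (IsUnit.dvd_mul_left (Polynomial.isUnit_C.2 hK.isUnit)).1 ⟨R, hPR.symm⟩
  obtain ⟨j, -, hj⟩ := (dvd_prime_pow Polynomial.prime_X g).1 hdvd
  obtain ⟨u, hu⟩ := hj.symm
  obtain ⟨C', -, hC⟩ := Polynomial.isUnit_iff.1 u.isUnit
  exact ⟨C', j, by rw [← hu, ← hC, mul_comm]⟩

end Groth.Agent.AVEuler
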