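import Groth.Agent.AVEuler.Invariant
import Groth.Agent.AVEuler.Box
import Groth.Agent.AVEuler.Monomial
import Groth.Agent.AmpleVan.Pull

/-!
# Euler characteristics on an abelian variety are homogeneous

`χ(c ^ n) = n ^ g * χ(c)` over an algebraically closed field.
-/

noncomputable section

set_option autoImplicit false
set_option backward.isDefEq.respectTransparency false
set_option linter.style.haveILetI false
set_option linter.unusedSectionVars false
set_option maxHeartbeats 1000000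

universe u

open CategoryTheory CategoryTheory.Limits AlgebraicGeometry MonoidalCategory CartesianMonoidalCategory
open scoped MonObj

attribute [-instance] CategoryTheory.catToReflQuiver

namespace Groth.Agent.AVEuler

open H23 H23.CubeAb AVDegPoly
open scoped Groth.Agent.H23.PicMul

theorem natDegree_aeval_le {σ : Type*} (P : MvPolynomial σ ℚ) (f : σ → Polynomial ℚ)
    (hf : ∀ i, (f i).natDegree ≤ 1) : (MvPolynomial.aeval f P).natDegree ≤ P.totalDegree := by
  conv_lhs => rw [P.as_sum, map_sum]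
  refine Polynomial.natDegree_sum_le_of_forall_le _ _ fun s hs => ?_
  rw [MvPolynomial.aeval_monomial]
  refine (Polynomial.natDegree_mul_le).trans ?_
  rw [Polynomial.algebraMap_eq, Polynomial.natDegree_C, zero_add]
  refine le_trans ((Polynomial.natDegree_prod_le _ _).trans (Finset.sum_le_sum fun i _ => ?_))
    (MvPolynomial.le_totalDegree hs)
  exact (Polynomial.natDegree_pow_le).trans ((Nat.mul_le_mul_left _ (hf i)).trans (by rw [mul_one]))

theorem eval_aeval_poly {σ : Type*} (P : MvPolynomial σ ℚ) (f : σ → Polynomial ℚ) (t : ℚ) :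
    (MvPolynomial.aeval f P).eval t = MvPolynomial.eval (fun i => (f i).eval t) P := by
  rw [← Polynomial.coe_evalRingHom, MvPolynomial.map_aeval, MvPolynomial.coe_eval₂Hom]
  have hC : (Polynomial.evalRingHom t).comp (algebraMap ℚ (Polynomial ℚ)) = RingHom.id ℚ :=
    RingHom.ext fun x => by simp [Polynomial.algebraMap_eq]
  rw [hC, MvPolynomial.eval₂_id]

theorem poly_eq_of_large {P Q : Polynomial ℚ} (b₀ : ℕ) (h : ∀ n : ℕ, b₀ ≤ n → P.eval (n : ℚ) = Q.eval (n : ℚ)) :
    P = Q :=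
  Polynomial.eq_of_infinite_eval_eq _ _ (((Set.infinite_range_of_injective fun a b e => by simpa using e :
    (Set.range fun m : ℕ => (((m + b₀ : ℕ)) : ℚ)).Infinite)).mono
      (by rintro _ ⟨m, rfl⟩; exact h _ (Nat.le_add_left b₀ m)))

variable {k : Type u} [Field k] {A : Over (Spec (CommRingCat.of k))}

/-- pullback of an invertible class, as a unit -/
abbrev R {T : Over (Spec (CommRingCat.of k))} (u : (PicF.Cl A.left)ˣ) (f : T ⟶ A) : (PicF.Cl T.left)ˣ :=
  Units.map (PicMul.pullHom f.left) u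

theorem R_comp {T T' : Over (Spec (CommRingCat.of k))} (g : T' ⟶ T) (u : (PicF.Cl A.left)ˣ) (f : T ⟶ A) :
    Units.map (PicMul.pullHom g.left) (R u f) = R u (g ≫ f) :=
  Units.ext (pull_F g _ f)

theorem R_id (u : (PicF.Cl A.left)ˣ) : R u (𝟙 A) = u :=
  Units.ext (PicClLib.pullCl_id _)

variable [IsProper A.hom]

theorem isInvertibleCl_R {T : Over (Spec (CommRingCat.of k))} {u : (PicF.Cl A.left)ˣ}
    (hu : PicF.IsInvertibleCl (u : PicF.Cl A.left)) (f : T ⟶ A) :
    PicF.IsInvertibleCl ((R u f : (PicF.Cl T.left)ˣ) : PicF.Cl T.left) :=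
  PicClLib.isInvertibleCl_pullCl _ hu

/-- the Euler polynomial of the powers of a class -/
theorem exists_chiPoly {g : ℕ} (hg : topologicalKrullDim A.left = g) {u : (PicF.Cl A.left)ˣ}
    (hu : PicF.IsInvertibleCl (u : PicF.Cl A.left)) :
    ∃ P : Polynomial ℚ, P.natDegree ≤ g ∧
      ∀ n : ℤ, P.eval (n : ℚ) = (chi A ((u ^ n : (PicF.Cl A.left)ˣ) : PicF.Cl A.left) : ℚ) := by
  letI : A.left.Over (Spec (CommRingCat.of k)) := ⟨A.hom⟩
  haveI : IsProper (A.left ↘ Spec (CommRingCat.of k)) := inferInstanceAs (IsProper A.hom)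
  obtain ⟨P, hP, hPn⟩ := exists_poly_eulerCl k (X := A.left) hg.le ![u] (fun i => by fin_cases i; exact hu)
  refine ⟨MvPolynomial.aeval (fun _ => Polynomial.X) P,
    (natDegree_aeval_le P _ fun _ => Polynomial.natDegree_X_le).trans hP, fun n => ?_⟩
  rw [eval_aeval_poly]
  have := hPn ![n]
  rw [show (fun j => ((![n] j : ℤ) : ℚ)) = fun _ : Fin 1 => (n : ℚ) from funext fun j => by fin_cases j; rfl,
    Fin.prod_univ_one] at this
  simp only [Polynomial.eval_X]
  exact this.symm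

variable [GrpObj A] [GeometricallyIntegral A.hom]

theorem R_cube {T : Over (Spec (CommRingCat.of k))} {u : (PicF.Cl A.left)ˣ}
    (hu : PicF.IsInvertibleCl (u : PicF.Cl A.left)) (f g h : T ⟶ A) :
    R u (f * g * h) * R u f * R u g * R u h = R u (f * g) * R u (f * h) * R u (g * h) :=
  Units.ext (cube hu f g h)

theorem R_sq {T : Over (Spec (CommRingCat.of k))} {u : (PicF.Cl A.left)ˣ}
    (hu : PicF.IsInvertibleCl (u : PicF.Cl A.left)) (hsym : R u (𝟙 A)⁻¹ = u) (q : T ⟶ A) :
    R u (q * q) = R u q ^ 4 := by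
  have hi : R u q⁻¹ = R u q := by
    have : q⁻¹ = q ≫ (𝟙 A)⁻¹ := by rw [GrpObj.comp_inv, Category.comp_id]
    rw [this, ← R_comp, hsym]
  have h1 : R u (1 : T ⟶ A) = 1 := Units.ext (F_one hu)
  have h := R_cube hu q q q⁻¹
  rw [mul_inv_cancel_right, mul_inv_cancel, h1, hi, mul_one, mul_one] at h
  rw [← h]
  simp only [pow_succ, pow_zero, one_mul]

variable [IsAlgClosed k]

/-- ample symmetric classes -/
theorem chi_zpow_symmetric {g : ℕ} (hg : topologicalKrullDim A.left = g) {L : A.left.Modules}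
    (hL : CohB1.IsAmple L) {u : (PicF.Cl A.left)ˣ} (huL : (u : PicF.Cl A.left) = PicF.cl L)
    (hsym : R u (𝟙 A)⁻¹ = u) (n : ℤ) :
    chi A ((u ^ n : (PicF.Cl A.left)ˣ) : PicF.Cl A.left) = n ^ g * chi A (u : PicF.Cl A.left) := by
  letI : A.left.Over (Spec (CommRingCat.of k)) := ⟨A.hom⟩
  haveI : IsProper (A.left ↘ Spec (CommRingCat.of k)) := inferInstanceAs (IsProper A.hom)
  haveI : IsIntegral A.left := GeometricallyIntegral.isIntegral_of_subsingleton A.hom
  haveI : CompactSpace A.left := AmpleVan.compactSpace_of_proper (A := k) (X := A.left)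
  haveI : A.left.IsSeparated := AmpleVan.isSeparated_of_proper (A := k) (X := A.left)
  haveI : IsNoetherian A.left := CurveCohLib.isNoetherian_of_proper (k := k)
  haveI : IsCommMonObj A := isCommMonObj_of_isProper_of_geometricallyIntegral A
  have hu : PicF.IsInvertibleCl (u : PicF.Cl A.left) := ⟨L, huL.symm, hL.1⟩
  obtain ⟨P, hPdeg, hP⟩ := exists_chiPoly hg hu
  -- the top coefficient
  have hlead : P.coeff g ≠ 0 := by
    have h := fwdDiff_eval_eq P hPdeg (fun m : ℕ => chi A ((u : PicF.Cl A.left) ^ m)) fun m => by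
      have := hP (m : ℤ)
      rw [zpow_natCast, Units.val_pow_eq_pow_val, Int.cast_natCast] at this
      exact this.symm
    have hvol : 0 < volCl k A.left g (u : PicF.Cl A.left) := huL ▸ volCl_pos k A.left hL hg
    intro h0
    rw [h0, mul_zero] at h
    change ((volCl k A.left g (u : PicF.Cl A.left) : ℤ) : ℚ) = 0 at h
    exact hvol.ne' (by exact_mod_cast h)
  have hP0 : P ≠ 0 := fun h => hlead (by rw [h, Polynomial.coeff_zero])
  -- the square
  haveI : IsProper (A ⊗ A).hom := inferInstanceAs (IsProper (pullback.fst A.hom A.hom ≫ A.hom))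
  haveI : GeometricallyIntegral (A ⊗ A).hom := H23.MaxAbelian.geometricallyIntegral_tensor A A
  letI : (A ⊗ A).left.Over (Spec (CommRingCat.of k)) := ⟨(A ⊗ A).hom⟩
  haveI : IsProper ((A ⊗ A).left ↘ Spec (CommRingCat.of k)) := inferInstanceAs (IsProper (A ⊗ A).hom)
  haveI : IsIntegral (A ⊗ A).left := GeometricallyIntegral.isIntegral_of_subsingleton (A ⊗ A).hom
  obtain ⟨d₂, hd₂⟩ : ∃ d : ℕ, topologicalKrullDim (A ⊗ A).left = d :=
    ⟨_, VarDim.topologicalKrullDim_eq_deg_genericPoint (A ⊗ A).hom⟩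
  let p := fst A A
  let q := snd A A
  let U := R u p
  let V := R u q
  let W := R u (p * q) / (U * V)
  have hU : PicF.IsInvertibleCl (U : PicF.Cl (A ⊗ A).left) := isInvertibleCl_R hu p
  have hV : PicF.IsInvertibleCl (V : PicF.Cl (A ⊗ A).left) := isInvertibleCl_R hu q
  have hW : PicF.IsInvertibleCl (W : PicF.Cl (A ⊗ A).left) := by
    simp only [W, div_eq_mul_inv, Units.val_mul]
    exact H23.PicMul.isInvertibleCl_mul (isInvertibleCl_R hu _)
      (isInvertibleCl_units _ (by rw [Units.val_mul]; exact H23.PicMul.isInvertibleCl_mul hU hV))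
  obtain ⟨f, -, hf⟩ := exists_poly_eulerCl k (X := (A ⊗ A).left) hd₂.le ![U, V, W] (fun i => by
    fin_cases i
    · exact hU
    · exact hV
    · exact hW)
  have hval : ∀ a b c : ℤ, MvPolynomial.eval ![(a : ℚ), (b : ℚ), (c : ℚ)] f =
      (chi (A ⊗ A) ((U ^ a * V ^ b * W ^ c : (PicF.Cl (A ⊗ A).left)ˣ) : PicF.Cl (A ⊗ A).left) : ℚ) := by
    intro a b c
    have := hf ![a, b, c]
    rw [show (fun j => ((![a, b, c] j : ℤ) : ℚ)) = ![(a : ℚ), (b : ℚ), (c : ℚ)] from funext fun j => by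
      fin_cases j <;> rfl, Fin.prod_univ_three] at this
    exact this.symm
  have hinv : ∀ (θ : A ⊗ A ⟶ A ⊗ A) [IsIso θ.left] (x : (PicF.Cl (A ⊗ A).left)ˣ),
      PicF.IsInvertibleCl (x : PicF.Cl (A ⊗ A).left) →
      chi (A ⊗ A) ((Units.map (PicMul.pullHom θ.left) x : (PicF.Cl (A ⊗ A).left)ˣ) : PicF.Cl (A ⊗ A).left) =
        chi (A ⊗ A) (x : PicF.Cl (A ⊗ A).left) := fun θ _ x hx => chi_iso (A ⊗ A) θ hx
  have hmono : ∀ a b c : ℤ,
      PicF.IsInvertibleCl ((U ^ a * V ^ b * W ^ c : (PicF.Cl (A ⊗ A).left)ˣ) : PicF.Cl (A ⊗ A).left) := fun a b c => by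
    rw [Units.val_mul, Units.val_mul]
    exact H23.PicMul.isInvertibleCl_mul (H23.PicMul.isInvertibleCl_mul (isInvertibleCl_zpow U hU a)
      (isInvertibleCl_zpow V hV b)) (isInvertibleCl_zpow W hW c)
  -- the shear
  let σ : A ⊗ A ⟶ A ⊗ A := lift (p * q) q
  haveI : IsIso σ.left := by
    haveI : IsIso σ := ⟨lift (p * q⁻¹) q,
      by ext : 1 <;> simp [σ, p, q, MonObj.comp_mul, GrpObj.comp_inv],
      by ext : 1 <;> simp [σ, p, q, MonObj.comp_mul, GrpObj.comp_inv]⟩
    exact (Over.forget _).map_isIso σ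
  let s := Units.map (PicMul.pullHom σ.left : PicF.Cl (A ⊗ A).left →* PicF.Cl (A ⊗ A).left)
  have hsU : s U = U * V * W := by
    rw [show s U = R u (σ ≫ p) from R_comp σ u p, show σ ≫ p = p * q from lift_fst _ _]
    simp only [W]
    rw [mul_div_cancel]
  have hsV : s V = V := by
    rw [show s V = R u (σ ≫ q) from R_comp σ u q, show σ ≫ q = q from lift_snd _ _]
  have hsW : s W = W * V ^ 2 := by
    have h := R_cube hu p q q
    rw [R_sq hu hsym] at h
    have e1 : s W = R u (p * q * q) / (R u (p * q) * V) := by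
      simp only [W, map_div, map_mul, hsU, hsV]
      rw [show s (R u (p * q)) = R u (σ ≫ (p * q)) from R_comp σ u _, MonObj.comp_mul,
        show σ ≫ p = p * q from lift_fst _ _, show σ ≫ q = q from lift_snd _ _]
      simp only [W, mul_div_cancel]
    have e2 : R u (p * q * q) = R u (p * q) * R u (p * q) * V ^ 4 / (U * V * V) := by
      rw [eq_div_iff_mul_eq', ← h]
      simp only [U, V, mul_comm, mul_left_comm]
    rw [e1, e2]
    simp only [W]
    apply Additive.ofMul.injective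
    simp only [ofMul_div, ofMul_mul, ofMul_pow]
    abel
  have hsh : ∀ a b c : ℤ, MvPolynomial.eval ![(a : ℚ), (a + b + 2 * c : ℚ), (a + c : ℚ)] f =
      MvPolynomial.eval ![(a : ℚ), (b : ℚ), (c : ℚ)] f := by
    intro a b c
    have h := hval a (a + b + 2 * c) (a + c)
    simp only [Int.cast_add, Int.cast_mul, Int.cast_ofNat] at h
    rw [h, hval, ← hinv σ _ (hmono a b c)]
    congr 3
    rw [map_mul, map_mul, map_zpow, map_zpow, map_zpow]
    show _ = s U ^ a * s V ^ b * s W ^ c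
    rw [hsU, hsV, hsW]
    apply Additive.ofMul.injective
    simp only [ofMul_mul, ofMul_zpow, ofMul_pow]
    module
  -- the swap
  let τ : A ⊗ A ⟶ A ⊗ A := lift q p
  haveI : IsIso τ.left := by
    haveI : IsIso τ := ⟨τ, by ext : 1 <;> simp [τ, p, q], by ext : 1 <;> simp [τ, p, q]⟩
    exact (Over.forget _).map_isIso τ
  have hsw : ∀ a b c : ℤ, MvPolynomial.eval ![(b : ℚ), (a : ℚ), (c : ℚ)] f =
      MvPolynomial.eval ![(a : ℚ), (b : ℚ), (c : ℚ)] f := by
    intro a b c
    rw [hval, hval, ← hinv τ _ (hmono a b c)]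
    congr 3
    rw [map_mul, map_mul, map_zpow, map_zpow, map_zpow]
    simp only [W, map_div, map_mul, U, V, R_comp, MonObj.comp_mul, τ, lift_fst, lift_snd, p, q]
    rw [mul_comm (snd A A) (fst A A), mul_comm (R u (snd A A)) (R u (fst A A))]
    ac_rfl
  -- large powers are acyclic
  obtain ⟨b₀, hb₀⟩ := AmpleVan.exists_vanishing (A := k) hL QCoh.isCoh_structureModule'
  let X₀ := 𝟙_ (Over (Spec (CommRingCat.of k)))
  haveI : IsProper X₀.hom := inferInstanceAs (IsProper (𝟙 (Spec (CommRingCat.of k))))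
  let κ : ℤ := chi X₀ 1
  have hbox : ∀ (a : ℤ) (b : ℕ), b₀ ≤ b → ∃ m : ℕ,
      MvPolynomial.eval ![(a : ℚ), ((b : ℤ) : ℚ), ((0 : ℤ) : ℚ)] f = m * P.eval (a : ℚ) ∧
      P.eval ((b : ℤ) : ℚ) = m * κ := by
    intro a b hb
    let G := CohB1.tensorPow L b
    have hG : PicF.IsInvertible G := InvX.isInvertible_tensorPow hL.1 b
    have hGcl : PicF.cl G = ((u ^ (b : ℤ) : (PicF.Cl A.left)ˣ) : PicF.Cl A.left) := by
      rw [zpow_natCast, Units.val_pow_eq_pow_val, huL, H23.PicMul.cl_tensorPow]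
    have hvan : ∀ i, Subsingleton (Coh.HH A.left G (i + 1)) := fun i => by
      exact QCoh.subsingleton_HH_of_iso (CurveTensor.structureTensorIso G) (i + 1) (hb₀ b hb i)
    obtain ⟨m, hm⟩ := exists_euler_box A G hG hvan
    obtain ⟨E, hE, hEi⟩ := isInvertibleCl_zpow u hu a
    refine ⟨m, ?_, ?_⟩
    · rw [hval, hP, zpow_zero, mul_one]
      have h := @hm A ‹_› ⟨A.hom⟩ ⟨(A ⊗ A).hom⟩ rfl rfl E hEi
      have hcl : ((U ^ a * V ^ (b : ℤ) : (PicF.Cl (A ⊗ A).left)ˣ) : PicF.Cl (A ⊗ A).left) =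
          PicF.cl (CohB1.tensorMod ((Scheme.Modules.pullback (fst A A).left).obj E)
            ((Scheme.Modules.pullback (snd A A).left).obj G)) := by
        rw [H23.PicMul.cl_tensor, Units.val_mul, ← map_zpow, ← map_zpow]
        show PicMul.pullHom p.left _ * PicMul.pullHom q.left _ =
          PicMul.pullHom p.left (PicF.cl E) * PicMul.pullHom q.left (PicF.cl G)
        rw [hE, hGcl]
      rw [hcl, ← hE]
      exact_mod_cast h
    · rw [hP]
      haveI : IsProper (X₀ ⊗ A).hom := inferInstanceAs (IsProper (pullback.fst X₀.hom A.hom ≫ X₀.hom))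
      have h := @hm X₀ ‹_› ⟨X₀.hom⟩ ⟨(X₀ ⊗ A).hom⟩ rfl rfl (Coh.structureModule X₀.left)
        CurveDeg.isInvertible_structureModule
      haveI : IsIso (snd X₀ A).left := by
        haveI : IsIso (snd X₀ A) := ⟨lift (toUnit A) (𝟙 A),
          by ext : 1
             · exact toUnit_unique _ _
             · simp,
          by simp⟩
        exact (Over.forget _).map_isIso (snd X₀ A)
      have h' : chi (X₀ ⊗ A) (F (PicF.cl G) (snd X₀ A)) = m * κ := by
        have hcl : F (PicF.cl G) (snd X₀ A) =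
            PicF.cl (CohB1.tensorMod ((Scheme.Modules.pullback (fst X₀ A).left).obj (Coh.structureModule X₀.left))
              ((Scheme.Modules.pullback (snd X₀ A).left).obj G)) := by
          rw [H23.PicMul.cl_tensor]
          show _ = PicMul.pullHom (fst X₀ A).left 1 * _
          rw [map_one, one_mul]
          rfl
        rw [hcl]
        exact h
      rw [chi_iso A (snd X₀ A) ⟨G, rfl, hG⟩, hGcl] at h'
      exact_mod_cast h'
  have hκ : (κ : ℚ) ≠ 0 := fun h0 => hP0 <| poly_eq_of_large b₀ fun b hb => by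
    obtain ⟨m, -, h2⟩ := hbox 0 b hb
    rw [Polynomial.eval_zero]
    rw [Int.cast_natCast] at h2
    rw [h2, h0, mul_zero]
  have h0 : ∀ a b : ℤ, MvPolynomial.eval ![(a : ℚ), (b : ℚ), 0] f =
      (κ : ℚ)⁻¹ * P.eval (a : ℚ) * P.eval (b : ℚ) := by
    intro a b
    have e : MvPolynomial.aeval ![Polynomial.C (a : ℚ), Polynomial.X, 0] f =
        Polynomial.C ((κ : ℚ)⁻¹ * P.eval (a : ℚ)) * P := poly_eq_of_large b₀ fun n hn => by
      obtain ⟨m, h1, h2⟩ := hbox a n hn
      rw [eval_aeval_poly, Polynomial.eval_mul, Polynomial.eval_C]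
      rw [Int.cast_natCast, Int.cast_zero] at h1
      rw [Int.cast_natCast] at h2
      rw [show (fun i => Polynomial.eval (n : ℚ)
          (![Polynomial.C (a : ℚ), Polynomial.X, 0] i : Polynomial ℚ)) = ![(a : ℚ), (n : ℚ), 0] from funext fun i => by
        fin_cases i <;> simp, h1, h2]
      field_simp
    have := congrArg (Polynomial.eval (b : ℚ)) e
    rw [eval_aeval_poly, Polynomial.eval_mul, Polynomial.eval_C] at this
    rw [← this]
    congr 2
    funext i
    fin_cases i <;> simp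
  obtain ⟨C, j, hPC⟩ := eq_monomial_of_symmetric P f _ (inv_ne_zero hκ) h0 hsh hsw hP0
  rw [hPC, Polynomial.coeff_C_mul, Polynomial.coeff_X_pow] at hlead
  have hj : g = j := by
    by_contra hne
    exact hlead (by rw [if_neg hne, mul_zero])
  subst hj
  have h1 := hP n
  have h2 := hP 1
  rw [zpow_one] at h2
  rw [hPC, Polynomial.eval_mul, Polynomial.eval_C, Polynomial.eval_pow, Polynomial.eval_X] at h1 h2
  rw [Int.cast_one, one_pow, mul_one] at h2
  rw [h2, mul_comm] at h1
  exact_mod_cast h1.symm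

theorem ample_mul {L M : A.left.Modules} (hL : CohB1.IsAmple L) (hM : CohB1.IsAmple M) :
    CohB1.IsAmple (CohB1.tensorMod L M) :=
  AmpleX.isAmple_tensor hL hM.1 fun x => by
    obtain ⟨m, hm, s, hxs, -⟩ := (AmpleX.isAmple_iff.1 hM).2.2 x
    obtain ⟨n, rfl⟩ := Nat.exists_eq_add_of_le' hm
    exact ⟨n, s, hxs⟩

/-- ample classes -/
theorem chi_zpow_ample {g : ℕ} (hg : topologicalKrullDim A.left = g) {L : A.left.Modules}
    (hL : CohB1.IsAmple L) {u : (PicF.Cl A.left)ˣ} (huL : (u : PicF.Cl A.left) = PicF.cl L) (n : ℤ) :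
    chi A ((u ^ n : (PicF.Cl A.left)ˣ) : PicF.Cl A.left) = n ^ g * chi A (u : PicF.Cl A.left) := by
  haveI : IsCommMonObj A := isCommMonObj_of_isProper_of_geometricallyIntegral A
  haveI : CompactSpace A.left := hL.2.1
  have hu : PicF.IsInvertibleCl (u : PicF.Cl A.left) := ⟨L, huL.symm, hL.1⟩
  let ng : A ⟶ A := (𝟙 A)⁻¹
  have hngng : ng ≫ ng = 𝟙 A := by
    show ng ≫ (𝟙 A)⁻¹ = 𝟙 A
    rw [GrpObj.comp_inv, Category.comp_id, inv_inv]
  haveI : IsIso ng.left := by
    haveI : IsIso ng := ⟨ng, hngng, hngng⟩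
    exact (Over.forget _).map_isIso ng
  let u' := u * R u ng
  have hL' : CohB1.IsAmple (CohB1.tensorMod L ((Scheme.Modules.pullback ng.left).obj L)) :=
    ample_mul hL (AmpleVan.isAmple_pullback_of_isEmbedding ng.left ng.left.homeomorph.isEmbedding hL)
  have hu'L : (u' : PicF.Cl A.left) = PicF.cl (CohB1.tensorMod L ((Scheme.Modules.pullback ng.left).obj L)) := by
    rw [H23.PicMul.cl_tensor, Units.val_mul, Units.coe_map, huL]
    rfl
  have hsym' : R u' (𝟙 A)⁻¹ = u' := by
    show Units.map _ (u * R u ng) = u * R u ng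
    rw [map_mul, R_comp, show (𝟙 A)⁻¹ ≫ ng = 𝟙 A from hngng, R_id, mul_comm]
  have hmain := chi_zpow_symmetric hg hL' hu'L hsym'
  -- the invariant difference
  let d := R u ng / u
  have hd : PicF.IsInvertibleCl (d : PicF.Cl A.left) := by
    simp only [d, div_eq_mul_inv, Units.val_mul]
    exact H23.PicMul.isInvertibleCl_mul (isInvertibleCl_R hu ng) (isInvertibleCl_units _ hu)
  have hdinv : ∀ (n : ℤ) (a : 𝟙_ (Over (Spec (CommRingCat.of k))) ⟶ A),
      F ((d ^ n : (PicF.Cl A.left)ˣ) : PicF.Cl A.left) (tr a) = ((d ^ n : (PicF.Cl A.left)ˣ) : PicF.Cl A.left) := by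
    intro n a
    have h : R d (tr a) = d := by
      have hs : Units.map (PicMul.pullHom (tr a).left) (R u ng) * u = R u ng * R u (tr a) :=
        Units.ext (H23.CubeAb.symmetric hu a)
      show Units.map _ (R u ng / u) = R u ng / u
      rw [map_div, div_eq_div_iff_mul_eq_mul, hs]
    show ((R (d ^ n) (tr a) : (PicF.Cl A.left)ˣ) : PicF.Cl A.left) = _
    rw [show R (d ^ n) (tr a) = Units.map (PicMul.pullHom (tr a).left) d ^ n from map_zpow _ d n,
      show Units.map (PicMul.pullHom (tr a).left) d = d from h]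
  have hpow : ∀ n : ℤ, u' ^ n = u ^ (2 * n) * d ^ n := fun n => by
    apply Additive.ofMul.injective
    simp only [u', d, ofMul_mul, ofMul_zpow, ofMul_div]
    module
  obtain ⟨P, -, hP⟩ := exists_chiPoly hg hu
  have key : P.comp (Polynomial.C 2 * Polynomial.X) =
      Polynomial.C (chi A (u' : PicF.Cl A.left) : ℚ) * Polynomial.X ^ g :=
    poly_unique fun m => by
      have h2 := hP (2 * m)
      push_cast at h2
      rw [Polynomial.eval_comp, Polynomial.eval_mul, Polynomial.eval_C, Polynomial.eval_X, h2, Polynomial.eval_mul,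
        Polynomial.eval_C, Polynomial.eval_pow, Polynomial.eval_X,
        ← chi_mul_invariant A (isInvertibleCl_zpow u hu (2 * m)) (isInvertibleCl_zpow d hd m) (hdinv m),
        ← Units.val_mul, ← hpow, hmain m]
      push_cast
      ring
  have h1 := congrArg (Polynomial.eval ((n : ℚ) / 2)) key
  have h2 := congrArg (Polynomial.eval ((1 : ℚ) / 2)) key
  rw [Polynomial.eval_comp, Polynomial.eval_mul, Polynomial.eval_C, Polynomial.eval_X, Polynomial.eval_mul,
    Polynomial.eval_C, Polynomial.eval_pow, Polynomial.eval_X, mul_div_cancel₀ _ two_ne_zero] at h1 h2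
  have hv := hP n
  have hv1 := hP 1
  rw [Int.cast_one, zpow_one] at hv1
  rw [hv] at h1
  rw [hv1] at h2
  have : (chi A ((u ^ n : (PicF.Cl A.left)ˣ) : PicF.Cl A.left) : ℚ) = (n : ℚ) ^ g * chi A (u : PicF.Cl A.left) := by
    rw [h1, h2, div_pow, div_pow, one_pow]
    ring
  exact_mod_cast this

/-- Homogeneity. -/
theorem chi_zpow {g : ℕ} (hg : topologicalKrullDim A.left = g) {u : (PicF.Cl A.left)ˣ}
    (hu : PicF.IsInvertibleCl (u : PicF.Cl A.left)) (n : ℤ) :
    chi A ((u ^ n : (PicF.Cl A.left)ˣ) : PicF.Cl A.left) = n ^ g * chi A (u : PicF.Cl A.left) := by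
  letI : A.left.Over (Spec (CommRingCat.of k)) := ⟨A.hom⟩
  haveI : IsProper (A.left ↘ Spec (CommRingCat.of k)) := inferInstanceAs (IsProper A.hom)
  haveI : CompactSpace A.left := AmpleVan.compactSpace_of_proper (A := k) (X := A.left)
  haveI : A.left.IsSeparated := AmpleVan.isSeparated_of_proper (A := k) (X := A.left)
  obtain ⟨L, hL, hLi⟩ := id hu
  obtain ⟨H, hH⟩ := AVProj.exists_isAmple (X := A)
  obtain ⟨N, hN0, hN⟩ := AmpleX.eventually_ample_tensor hH hLi
  let h := (PicMul.isUnit_of_isInvertibleCl ⟨H, rfl, hH.1⟩).unit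
  let w := h ^ (N : ℤ) * u
  have hh : PicF.IsInvertibleCl (h : PicF.Cl A.left) := ⟨H, rfl, hH.1⟩
  have hw : PicF.IsInvertibleCl (w : PicF.Cl A.left) := by
    rw [Units.val_mul]
    exact H23.PicMul.isInvertibleCl_mul (isInvertibleCl_zpow h hh N) hu
  have hWamp := (hN N le_rfl).1
  obtain ⟨Q, -, hQ⟩ := exists_poly_eulerCl k (X := A.left) hg.le ![w, h] (fun i => by
    fin_cases i
    · exact hw
    · exact hh)
  have hQ' : ∀ a b : ℤ, MvPolynomial.eval ![(a : ℚ), (b : ℚ)] Q =
      (chi A ((w ^ a * h ^ b : (PicF.Cl A.left)ˣ) : PicF.Cl A.left) : ℚ) := by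
    intro a b
    have := hQ ![a, b]
    rw [show (fun j => ((![a, b] j : ℤ) : ℚ)) = ![(a : ℚ), (b : ℚ)] from funext fun j => by
      fin_cases j <;> rfl, Fin.prod_univ_two] at this
    exact this.symm
  have hcone : ∀ (a b : ℕ) (t : ℤ), MvPolynomial.eval ![((t * (a + 1) : ℤ) : ℚ), ((t * (b + 1) : ℤ) : ℚ)] Q =
      (t : ℚ) ^ g * MvPolynomial.eval ![(((a + 1 : ℕ) : ℤ) : ℚ), (((b + 1 : ℕ) : ℤ) : ℚ)] Q := by
    intro a b t
    have hamp := ample_mul (AmpleX.isAmple_tensorPow hWamp (n := a + 1) a.succ_pos)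
      (AmpleX.isAmple_tensorPow hH (n := b + 1) b.succ_pos)
    have := chi_zpow_ample hg hamp (u := w ^ ((a + 1 : ℕ) : ℤ) * h ^ ((b + 1 : ℕ) : ℤ)) (by
      rw [H23.PicMul.cl_tensor, H23.PicMul.cl_tensorPow, H23.PicMul.cl_tensorPow, H23.PicMul.cl_tensor,
        H23.PicMul.cl_tensorPow, hL]
      simp only [w, zpow_natCast, Units.val_mul, Units.val_pow_eq_pow_val]
      rfl) t
    rw [hQ', hQ']
    have e : w ^ (t * ((a : ℤ) + 1)) * h ^ (t * ((b : ℤ) + 1)) =
        (w ^ ((a + 1 : ℕ) : ℤ) * h ^ ((b + 1 : ℕ) : ℤ)) ^ t := by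
      rw [mul_zpow (w ^ _) (h ^ _) t, ← zpow_mul, ← zpow_mul, mul_comm t, mul_comm t]
      push_cast
      rfl
    rw [e, this]
    push_cast
    rfl
  have hpoly : MvPolynomial.aeval ![MvPolynomial.X 2 * MvPolynomial.X 0, MvPolynomial.X 2 * MvPolynomial.X 1] Q =
      (MvPolynomial.X (2 : Fin 3) ^ g * MvPolynomial.rename Fin.castSucc Q : MvPolynomial (Fin 3) ℚ) := by
    refine MvPolynomial.funext_set ![Set.range fun m : ℕ => ((m + 1 : ℕ) : ℚ), Set.range fun m : ℕ => ((m + 1 : ℕ) : ℚ),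
      Set.range fun m : ℤ => (m : ℚ)] (fun i => ?_) fun x hx => ?_
    · fin_cases i
      · exact Set.infinite_range_of_injective fun a b e => by simpa using e
      · exact Set.infinite_range_of_injective fun a b e => by simpa using e
      · exact Set.infinite_range_of_injective Int.cast_injective
    · obtain ⟨a, ha⟩ := hx 0 trivial
      obtain ⟨b, hb⟩ := hx 1 trivial
      obtain ⟨t, ht⟩ := hx 2 trivial
      rw [eval_aeval', map_mul, map_pow, MvPolynomial.eval_X, MvPolynomial.eval_rename]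
      have e1 : (fun i => MvPolynomial.eval x
          (![MvPolynomial.X 2 * MvPolynomial.X 0, MvPolynomial.X 2 * MvPolynomial.X 1] i : MvPolynomial (Fin 3) ℚ)) =
          ![((t * ((a : ℤ) + 1) : ℤ) : ℚ), ((t * ((b : ℤ) + 1) : ℤ) : ℚ)] := by
        funext i
        fin_cases i <;> simp [← ha, ← hb, ← ht]
      have e2 : x ∘ Fin.castSucc = ![(((a + 1 : ℕ) : ℤ) : ℚ), (((b + 1 : ℕ) : ℤ) : ℚ)] := by
        funext i
        fin_cases i <;> simp [← ha, ← hb]
      rw [e1, e2, ← ht]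
      exact hcone a b t
  have h1 := congrArg (MvPolynomial.eval ![((1 : ℤ) : ℚ), ((-(N : ℤ) : ℤ) : ℚ), (n : ℚ)]) hpoly
  rw [eval_aeval', map_mul, map_pow, MvPolynomial.eval_X, MvPolynomial.eval_rename] at h1
  have e1 : (fun i => MvPolynomial.eval ![((1 : ℤ) : ℚ), ((-(N : ℤ) : ℤ) : ℚ), (n : ℚ)]
      (![MvPolynomial.X 2 * MvPolynomial.X 0, MvPolynomial.X 2 * MvPolynomial.X 1] i : MvPolynomial (Fin 3) ℚ)) =
      ![(n : ℚ), ((-(N : ℤ) * n : ℤ) : ℚ)] := by
    funext i
    fin_cases i <;> simp [mul_comm]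
  have e2 : ![((1 : ℤ) : ℚ), ((-(N : ℤ) : ℤ) : ℚ), (n : ℚ)] ∘ Fin.castSucc =
      ![((1 : ℤ) : ℚ), ((-(N : ℤ) : ℤ) : ℚ)] := by
    funext i
    fin_cases i <;> rfl
  rw [e1, e2, hQ', hQ'] at h1
  have e3 : w ^ n * h ^ (-(N : ℤ) * n) = u ^ n := by
    rw [mul_zpow, ← zpow_mul, neg_mul, zpow_neg, mul_right_comm, mul_inv_cancel, one_mul]
  have e4 : w ^ (1 : ℤ) * h ^ (-(N : ℤ)) = u := by
    rw [zpow_one, zpow_neg, mul_right_comm, mul_inv_cancel, one_mul]
  rw [e3, e4] at h1
  simp only [Matrix.cons_val_two, Matrix.cons_val_fin_one, Matrix.tail_cons, Matrix.head_cons] at h1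
  exact_mod_cast h1

end Groth.Agent.AVEuler

end
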