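import Groth.Agent.AVEuler.DepthLemma
import Groth.Agent.QCoh.RpushExchange2
import Groth.Agent.QCoh.Stalk
import Groth.Agent.AssLib.Basic
import Groth.Agent.FComplLib.KrullSupp
import Groth.Agent.S0002
import Groth.Agent.AVVanish.Skyscraper

/-!
# Higher direct images supported at isolated points

If the higher direct images of a flat coherent module vanish near every proper generization of a regular point
of dimension `g`, they vanish near the point in degrees below `g`.
-/

noncomputable section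

set_option autoImplicit false
set_option backward.isDefEq.respectTransparency false
set_option linter.style.haveILetI false
set_option maxHeartbeats 1000000

universe u

open CategoryTheory CategoryTheory.Limits AlgebraicGeometry TopologicalSpace Opposite
open scoped TensorProduct

namespace Groth.Agent.AVEuler

/-- the annihilator of a finite module leaves a prime at which all elements die -/
theorem exists_annihilator_notMem {R H : Type u} [CommRing R] [AddCommGroup H] [Module R H] [Module.Finite R H]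
    (q : Ideal R) [q.IsPrime] (h : ∀ x : H, ∃ s : R, s ∉ q ∧ s • x = 0) :
    ∃ a : R, a ∉ q ∧ a ∈ Module.annihilator R H := by
  classical
  obtain ⟨t, ht⟩ := (Module.Finite.fg_top : (⊤ : Submodule R H).FG)
  choose s hs hs0 using h
  refine ⟨∏ x ∈ t, s x, fun hmem => ?_, Module.mem_annihilator.2 fun y => ?_⟩
  · obtain ⟨x, -, hx⟩ := (Ideal.IsPrime.prod_mem_iff (p := q)).1 hmem
    exact hs x hx
  · have hy : y ∈ Submodule.span R (t : Set H) := ht ▸ Submodule.mem_top
    induction hy using Submodule.span_induction with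
    | mem x hx =>
      rw [← Finset.prod_erase_mul t s (Finset.mem_coe.1 hx), mul_smul, hs0, smul_zero]
    | zero => exact smul_zero _
    | add a b _ _ ha hb => rw [smul_add, ha, hb, add_zero]
    | smul r a _ ha => rw [smul_comm, ha, smul_zero]

variable {X S : Scheme.{u}} (f : X ⟶ S) [IsProper f] [IsLocallyNoetherian S] [HasInjectiveResolutions X.Modules]

/-- the local model at a point all of whose proper generizations see no higher direct images -/
theorem local_facts {M : X.Modules} (hM : Coh.IsCoh M) (y : S) {g : ℕ}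
    [IsRegularLocalRing (S.presheaf.stalk y)] (hdim : ringKrullDim (S.presheaf.stalk y) = g)
    (hgen : ∀ y' : S, y' ⤳ y → y' ≠ y → ∀ q : ℕ,
      ∃ U : S.Opens, y' ∈ U ∧ IsZero (((Coh.Rpush f q).obj M).restrict U.ι))
    {V : S.Opens} (hV : IsAffineOpen V) (hy : y ∈ V) (P : ChainComplex (ModuleCat.{u} Γ(S, V)) ℤ)
    (hP : QCoh.IsLocalModel f M hV P) :
    IsRegularLocalRing (Localization.AtPrime (hV.primeIdealOf ⟨y, hy⟩).asIdeal) ∧
      ringKrullDim (Localization.AtPrime (hV.primeIdealOf ⟨y, hy⟩).asIdeal) = g ∧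
      (∀ i, Module.Flat (Localization.AtPrime (hV.primeIdealOf ⟨y, hy⟩).asIdeal)
        ((QCoh.locCx P (hV.primeIdealOf ⟨y, hy⟩)).X i)) ∧
      (∀ m : ℕ, IsFiniteLength (Localization.AtPrime (hV.primeIdealOf ⟨y, hy⟩).asIdeal)
        ((QCoh.locCx P (hV.primeIdealOf ⟨y, hy⟩)).homology (-(m : ℤ)))) ∧
      ∀ n : ℕ, n < g → IsZero ((QCoh.locCx P (hV.primeIdealOf ⟨y, hy⟩)).homology (-(n : ℤ))) := by
  haveI : IsNoetherianRing Γ(S, V) := IsLocallyNoetherian.component_noetherian ⟨V, hV⟩
  let x := hV.primeIdealOf ⟨y, hy⟩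
  let B := Localization.AtPrime x.asIdeal
  letI := QCoh.stalkAlg (X := S) (U := V) hy
  haveI := QCoh.isLocalization_stalk' hV hy
  let eB : S.presheaf.stalk y ≃ₐ[Γ(S, V)] B := IsLocalization.algEquiv x.asIdeal.primeCompl _ _
  haveI : IsRegularLocalRing B := IsRegularLocalRing.of_ringEquiv eB.toRingEquiv
  have hdimB : ringKrullDim B = g := (ringKrullDim_eq_of_ringEquiv eB.toRingEquiv).symm.trans hdim
  let P' := QCoh.locCx P x
  have hfinB : ∀ i, Module.Finite B (P'.X i) := fun i => QCoh.finite_bcCx_X_aux P (algebraMap _ B) hP.1 i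
  have hflB : ∀ i, Module.Flat B (P'.X i) := fun i => FlatCxLib.flat_bcCx_X (B := B) P hP.flat i
  have hfreeB : ∀ i, Module.Free B (P'.X i) := fun i => by
    haveI := hfinB i
    haveI := hflB i
    exact Module.free_of_flat_of_isLocalRing (R := B) (P := P'.X i)
  have hflat : Module.Flat B (FlatCxLib.Coker P' 1 0) :=
    (FlatCxLib.preservesEpi_iff hflB (show (0 : ℤ) + 1 = 1 by rfl)).1
      (QCoh.isExactT_of_isZero (QCoh.isZero_T_locCx P x (hP.2.2.2.1 1 one_pos))).2
  have hQ : ∀ m : ℕ, Coh.IsQCoh ((Coh.Rpush f m).obj M) := fun m =>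
    (QCoh.isCoh_Rpush_of_finiteness (f := f) hM m fun A _ _ Z _ _ N hN j => S0002.result A Z N hN j).1
  have hHfin : ∀ m : ℕ, Module.Finite Γ(S, V) (P.homology (-(m : ℤ))) := fun m => by
    haveI := hP.1 (-(m : ℤ))
    exact Module.Finite.equiv (FlatCxLib.hom'Equiv (P := P) (p := -(m : ℤ) + 1) (q := -(m : ℤ))
      (r := -(m : ℤ) - 1) rfl (by omega))
  -- every element dies at a proper generization
  have hdie : ∀ (m : ℕ) (q : PrimeSpectrum Γ(S, V)), q.asIdeal ≤ x.asIdeal → q ≠ x →
      ∀ h : P.homology (-(m : ℤ)), ∃ s : Γ(S, V), s ∉ q.asIdeal ∧ s • h = 0 := by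
    intro m q hq hne h
    obtain ⟨l⟩ := hP.2.2.2.2.1 m
    obtain ⟨s, rfl⟩ := l.surjective h
    let y' := hV.fromSpec q
    have hy'V : y' ∈ V := hV.range_fromSpec.le ⟨q, rfl⟩
    have hprime : hV.primeIdealOf ⟨y', hy'V⟩ = q :=
      hV.fromSpec.isOpenEmbedding.injective (hV.fromSpec_primeIdealOf ⟨y', hy'V⟩)
    have hspec : y' ⤳ y := by
      have h1 : (q : Spec Γ(S, V)) ⤳ x := (PrimeSpectrum.le_iff_specializes q x).1 hq
      have h2 := h1.map hV.fromSpec.continuous
      rwa [show hV.fromSpec x = y from hV.fromSpec_primeIdealOf ⟨y, hy⟩] at h2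
    have hne' : y' ≠ y := fun he => hne (by
      rw [← hprime]
      exact congrArg hV.primeIdealOf (Subtype.ext he))
    obtain ⟨U, hyU, hU⟩ := hgen y' hspec hne' m
    letI := QCoh.stalkModule ((Coh.Rpush f m).obj M) hy'V
    have hgerm : QCoh.germLin ((Coh.Rpush f m).obj M) hy'V s = 0 := by
      haveI hs : Subsingleton Γ((Coh.Rpush f m).obj M, V ⊓ U) := by
        have hVeq : U.ι ''ᵁ (U.ι ⁻¹ᵁ (V ⊓ U)) = V ⊓ U := by
          rw [Scheme.Hom.image_preimage_eq_opensRange_inf, Scheme.Opens.opensRange_ι]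
          exact inf_eq_right.2 inf_le_right
        rw [← hVeq]
        exact QCoh.subsingleton_Γ_of_isZero hU (U.ι ⁻¹ᵁ (V ⊓ U))
      show ((Coh.Rpush f m).obj M).presheaf.germ V y' hy'V s = 0
      rw [← TopCat.Presheaf.germ_res_apply _ (homOfLE (inf_le_left : V ⊓ U ≤ V)) y' ⟨hy'V, hyU⟩ s,
        @Subsingleton.elim _ hs (((Coh.Rpush f m).obj M).presheaf.map (homOfLE (inf_le_left : V ⊓ U ≤ V)).op s) 0,
        map_zero]
    haveI := QCoh.isLocalizedModule_germLin (hQ m) hV hy'V
    obtain ⟨c, hc⟩ := IsLocalizedModule.exists_of_eq (S := (hV.primeIdealOf ⟨y', hy'V⟩).asIdeal.primeCompl)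
      (f := QCoh.germLin ((Coh.Rpush f m).obj M) hy'V) (x₁ := s) (x₂ := 0) (by rw [hgerm, map_zero])
    refine ⟨(c : Γ(S, V)), fun hc' => c.2 ((congrArg PrimeSpectrum.asIdeal hprime).ge hc'), ?_⟩
    rw [← map_smul]
    refine (congrArg l ?_).trans (map_zero l)
    rw [Submonoid.smul_def, Submonoid.smul_def, smul_zero] at hc
    exact hc
  -- finite length
  have hflen : ∀ m : ℕ, IsFiniteLength B (P'.homology (-(m : ℤ))) := by
    intro m
    obtain ⟨e⟩ := QCoh.nonempty_homology_locCx P x (-(m : ℤ))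
    refine e.symm.isFiniteLength ?_
    haveI := hHfin m
    rcases subsingleton_or_nontrivial (B ⊗[Γ(S, V)] P.homology (-(m : ℤ))) with hsub | hnt
    · exact IsFiniteLength.of_subsingleton
    let J := (Module.annihilator Γ(S, V) (P.homology (-(m : ℤ)))).map (algebraMap Γ(S, V) B)
    have hrad : IsLocalRing.maximalIdeal B ≤ J.radical := by
      rw [Ideal.radical_eq_sInf]
      refine le_sInf fun Q ⟨hJQ, hQp⟩ => ?_
      haveI := hQp
      let q : PrimeSpectrum Γ(S, V) := ⟨Q.comap (algebraMap Γ(S, V) B), inferInstance⟩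
      have hqx : q.asIdeal ≤ x.asIdeal :=
        (Ideal.comap_mono (IsLocalRing.le_maximalIdeal hQp.ne_top)).trans
          (IsLocalization.AtPrime.under_maximalIdeal B x.asIdeal).le
      by_cases hqe : q = x
      · rw [← IsLocalization.AtPrime.map_eq_maximalIdeal x.asIdeal B]
        exact Ideal.map_le_iff_le_comap.2 (le_of_eq (congrArg PrimeSpectrum.asIdeal hqe).symm)
      · obtain ⟨a, haq, ha⟩ := exists_annihilator_notMem q.asIdeal (hdie m q hqx hqe)
        exact absurd (hJQ (Ideal.mem_map_of_mem _ ha)) haq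
    obtain ⟨k, hk⟩ := Ideal.exists_pow_le_of_le_radical_of_fg hrad (IsNoetherian.noetherian _)
    refine AssLib.isFiniteLength_of_pow_le_annihilator B _ (n := k) (hk.trans ?_)
    refine Ideal.map_le_iff_le_comap.2 fun a ha => Ideal.mem_comap.2 (Module.mem_annihilator.2 fun z => ?_)
    induction z using TensorProduct.induction_on with
    | zero => exact smul_zero _
    | tmul b h =>
      rw [TensorProduct.smul_tmul', smul_eq_mul, ← Algebra.smul_def, TensorProduct.smul_tmul,
        Module.mem_annihilator.1 ha, TensorProduct.tmul_zero]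
    | add u v hu hv => rw [smul_add, hu, hv, add_zero]
  exact ⟨inferInstance, hdimB, hflB, hflen, fun n hn => isZero_homology_neg P' hdimB hfreeB hfinB hflat hflen n hn⟩

/-- the vanishing near a point below its dimension -/
theorem exists_isZero_Rpush_of_lt {M : X.Modules} (hM : Coh.IsCoh M) (hfl : FlatMod.IsFlatOver f M) (y : S) {g : ℕ}
    [IsRegularLocalRing (S.presheaf.stalk y)] (hdim : ringKrullDim (S.presheaf.stalk y) = g)
    (hgen : ∀ y' : S, y' ⤳ y → y' ≠ y → ∀ q : ℕ,
      ∃ U : S.Opens, y' ∈ U ∧ IsZero (((Coh.Rpush f q).obj M).restrict U.ι))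
    {n : ℕ} (hn : n < g) :
    ∃ U : S.Opens, y ∈ U ∧ IsZero (((Coh.Rpush f n).obj M).restrict U.ι) := by
  obtain ⟨_, ⟨V, hV, rfl⟩, hy, -⟩ :=
    S.isBasis_affineOpens.exists_subset_of_mem_open (Set.mem_univ y) isOpen_univ
  have hV' : IsAffineOpen V := hV
  haveI : IsNoetherianRing Γ(S, V) := IsLocallyNoetherian.component_noetherian ⟨V, hV'⟩
  obtain ⟨P, hP⟩ := QCoh.exists_isLocalModel hM hfl hV'
  let x := hV'.primeIdealOf ⟨y, hy⟩
  let B := Localization.AtPrime x.asIdeal
  let P' := QCoh.locCx P x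
  have hQ : ∀ m : ℕ, Coh.IsQCoh ((Coh.Rpush f m).obj M) := fun m =>
    (QCoh.isCoh_Rpush_of_finiteness (f := f) hM m fun A _ _ Z _ _ N hN j => S0002.result A Z N hN j).1
  have hHfin : ∀ m : ℕ, Module.Finite Γ(S, V) (P.homology (-(m : ℤ))) := fun m => by
    haveI := hP.1 (-(m : ℤ))
    exact Module.Finite.equiv (FlatCxLib.hom'Equiv (P := P) (p := -(m : ℤ) + 1) (q := -(m : ℤ))
      (r := -(m : ℤ) - 1) rfl (by omega))
  have hz : IsZero (P'.homology (-(n : ℤ))) := (local_facts f hM y hdim hgen hV' hy P hP).2.2.2.2 n hn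
  obtain ⟨e⟩ := QCoh.nonempty_homology_locCx P x (-(n : ℤ))
  haveI := ModuleCat.subsingleton_of_isZero hz
  haveI : Subsingleton (B ⊗[Γ(S, V)] P.homology (-(n : ℤ))) := e.symm.toEquiv.subsingleton
  haveI := hHfin n
  obtain ⟨a, hax, ha⟩ := exists_annihilator_notMem (H := P.homology (-(n : ℤ))) x.asIdeal fun h => by
    obtain ⟨c, hc⟩ := IsLocalizedModule.exists_of_eq (S := x.asIdeal.primeCompl)
      (f := TensorProduct.mk Γ(S, V) B (P.homology (-(n : ℤ))) 1) (x₁ := h) (x₂ := 0) (Subsingleton.elim _ _)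
    refine ⟨(c : Γ(S, V)), c.2, ?_⟩
    rw [Submonoid.smul_def, Submonoid.smul_def, smul_zero] at hc
    exact hc
  refine ⟨S.basicOpen a, (QCoh.mem_basicOpen_iff_notMem hV' hy a).2 hax,
    FComplLib.isZero_restrict_of_subsingleton_stalk _ _ fun y' hy' => ?_⟩
  have hy'V : y' ∈ V := S.basicOpen_le a hy'
  have hay : a ∉ (hV'.primeIdealOf ⟨y', hy'V⟩).asIdeal := (QCoh.mem_basicOpen_iff_notMem hV' hy'V a).1 hy'
  letI := QCoh.stalkModule ((Coh.Rpush f n).obj M) hy'V
  haveI := QCoh.isLocalizedModule_germLin (hQ n) hV' hy'V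
  obtain ⟨l⟩ := hP.2.2.2.2.1 n
  refine subsingleton_of_forall_eq 0 fun z => ?_
  obtain ⟨⟨s, c⟩, hsc⟩ := IsLocalizedModule.surj (hV'.primeIdealOf ⟨y', hy'V⟩).asIdeal.primeCompl
    (QCoh.germLin ((Coh.Rpush f n).obj M) hy'V) z
  have has : a • s = 0 := l.injective (by rw [map_smul, Module.mem_annihilator.1 ha, map_zero])
  have hinj := fun (c : (hV'.primeIdealOf ⟨y', hy'V⟩).asIdeal.primeCompl) =>
    ((Module.End.isUnit_iff _).1 (IsLocalizedModule.map_units (QCoh.germLin ((Coh.Rpush f n).obj M) hy'V) c)).injective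
  have hg0 : QCoh.germLin ((Coh.Rpush f n).obj M) hy'V s = 0 := hinj ⟨a, hay⟩ (by
    simp only [Module.algebraMap_end_apply]
    rw [← map_smul, has, map_zero, smul_zero])
  refine hinj c ?_
  simp only [Module.algebraMap_end_apply]
  rw [smul_zero, ← hg0]
  exact hsc

end Groth.Agent.AVEuler

end
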