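import Groth.Agent.AVEuler.Kunneth
import Groth.Agent.AVEuler.RpushLow
import Groth.Agent.AVVanish.PhiSurj
import Groth.Agent.AVVanish.TauEquiv
import Groth.Agent.GrpSchLib.Cartier
import Groth.Agent.GrpSchLib.FieldDim
import Groth.Agent.GrpSchLib.SmoothRegular
import Groth.Agent.Snapper.DimVanish

/-!
# The index theorem

For a non-degenerate invertible module `L` on an abelian variety, the cohomology of `m^* L ⊗ p^* L⁻¹` is
concentrated in the dimension, so the cohomology of `L` is concentrated in one degree.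
-/

noncomputable section

set_option autoImplicit false
set_option backward.isDefEq.respectTransparency false
set_option linter.style.haveILetI false
set_option maxHeartbeats 1000000

universe u

open CategoryTheory CategoryTheory.Limits AlgebraicGeometry MonoidalCategory CartesianMonoidalCategory TopologicalSpace Opposite
open scoped MonObj

attribute [-instance] CategoryTheory.catToReflQuiver

namespace Groth.Agent.AVEuler

open H23 H23.CubeAb H23.TrivBasic AVVanish
open scoped Groth.Agent.H23.PicMul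

/-- a vanishing direct image with finitely supported companions kills the cohomology -/
theorem subsingleton_HH_of_isZero_finite {X Y : Scheme.{u}} (f : X ⟶ Y) [QuasiCompact f] [QuasiSeparated f]
    [HasInjectiveResolutions X.Modules]
    (M : X.Modules) {Z : Set Y} (hfin : Z.Finite) (hcl : ∀ z ∈ Z, IsClosed ({z} : Set Y))
    (hloc : ∀ q, ∀ y ∉ Z, ∃ U : Y.Opens, y ∈ U ∧ IsZero (((Coh.Rpush f q).obj M).restrict U.ι))
    (n : ℕ) (hz : IsZero ((Coh.Rpush f n).obj M)) : Subsingleton (Coh.HH X M n) := by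
  have hloc' : ∀ q, ∀ y ∉ Z, ∃ U : Opens Y, y ∈ U ∧
      ∀ V ≤ U, Subsingleton (((CohTop.Rpush f.base q).obj (Coh.toAb M)).obj.obj (op V)) := by
    intro q y hy
    obtain ⟨U, hyU, hU⟩ := hloc q y hy
    obtain ⟨e⟩ := nonempty_toAb_Rpush f M q
    refine ⟨U, hyU, fun V hV => ?_⟩
    have hs : Subsingleton Γ((Coh.Rpush f q).obj M, V) := by
      have := QCoh.subsingleton_Γ_of_isZero hU (U.ι ⁻¹ᵁ V)
      have hVeq : U.ι ''ᵁ (U.ι ⁻¹ᵁ V) = V := by
        rw [Scheme.Hom.image_preimage_eq_opensRange_inf, Scheme.Opens.opensRange_ι]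
        exact inf_eq_right.2 hV
      rw [← hVeq]
      exact this
    exact @Equiv.subsingleton _ _ (((sheafToPresheaf _ _).mapIso e).app (op V)).addCommGroupIsoToAddEquiv.toEquiv hs
  haveI hfl : ∀ q, TopCat.Sheaf.IsFlasque ((CohTop.Rpush f.base q).obj (Coh.toAb M)) := fun q =>
    AVVanish.isFlasque_of_finite _ hfin hcl (hloc' q)
  obtain ⟨e⟩ := S0494.result f.base (Coh.toAb M) (fun p q => SiteBase.subsingleton_H_of_isFlasque _ p) n
  have h' : IsZero ((CohTop.Rpush f.base n).obj (Coh.toAb M)) :=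
    (AVVanish.isZero_toAb hz).of_iso (nonempty_toAb_Rpush f M n).some
  haveI : Subsingleton (((CohTop.Rpush f.base n).obj (Coh.toAb M)).obj.obj (op ⊤)) :=
    subsingleton_of_forall_eq 0 fun z => congr(($((IsZero.iff_id_eq_zero _).1 h')).hom.app (op ⊤) z)
  exact e.toEquiv.subsingleton

variable {k : Type u} [Field k] [IsAlgClosed k] (A : Over (Spec (CommRingCat.of k))) [GrpObj A] [IsProper A.hom]
  [GeometricallyIntegral A.hom]

/-- the cohomology of the Mumford module -/
theorem index_core {g : ℕ} (hg : topologicalKrullDim A.left = g) {c c' : PicF.Cl A.left} (hc : PicF.IsInvertibleCl c)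
    (hc'i : PicF.IsInvertibleCl c') (hcc' : c * c' = 1)
    (hnd : Set.Finite {a : 𝟙_ (Over (Spec (CommRingCat.of k))) ⟶ A | F c (tr a) = c})
    {N : (A ⊗ A).left.Modules} (hNi : PicF.IsInvertible N)
    (hN : PicF.cl N = F c (snd A A * fst A A) * F c' (fst A A)) :
    (∀ n, n ≠ g → Subsingleton (Coh.HH (A ⊗ A).left N n)) ∧ ¬ Subsingleton (Coh.HH (A ⊗ A).left N g) := by
  haveI : IsCommMonObj A := isCommMonObj_of_isProper_of_geometricallyIntegral A
  haveI : IsIntegral A.left := GeometricallyIntegral.isIntegral_of_subsingleton A.hom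
  haveI : IsLocallyNoetherian A.left := LocallyOfFiniteType.isLocallyNoetherian A.hom
  haveI : JacobsonSpace ↥A.left := LocallyOfFiniteType.jacobsonSpace A.hom
  haveI : CompactSpace A.left := QuasiCompact.compactSpace_of_compactSpace A.hom
  haveI : IsNoetherian A.left := {}
  haveI : A.left.IsSeparated := ⟨by
    rw [show terminal.from A.left = A.hom ≫ terminal.from _ from terminal.hom_ext _ _]
    infer_instance⟩
  haveI : Smooth A.hom := GrpSchLib.smooth_of_isReduced_of_isAlgClosed A
  have hτ : ∀ u : 𝟙_ (Over (Spec (CommRingCat.of k))) ⟶ A,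
      PicF.cl ((Scheme.Modules.pullback (lift (𝟙 A) (toUnit A ≫ u)).left).obj N) = F c (tr u) * c' := by
    intro u
    show PicMul.pullHom _ (PicF.cl N) = _
    rw [hN, map_mul, pull_F, pull_F, MonObj.comp_mul, lift_fst, lift_snd,
      show F c' (𝟙 A) = c' from PicClLib.pullCl_id c', mul_comm (toUnit A ≫ u)]
  let q := (snd A A).left
  haveI : IsProper q := inferInstanceAs (IsProper (pullback.snd A.hom A.hom))
  haveI : Flat A.hom := inferInstance
  haveI : Flat q := inferInstanceAs (Flat (pullback.snd A.hom A.hom))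
  haveI : IsLocallyNoetherian (A ⊗ A).left := LocallyOfFiniteType.isLocallyNoetherian q
  have hNc : Coh.IsCoh N := AmpleVan.isCoh_invertible hNi
  have hNf : FlatMod.IsFlatOver q N := PushAmp.isFlatOver_of_isFlat q
    (KFlatLib.isFlat_of_isFinLocFree (ParaFX.FlatDesc.isFinLocFree_of_invertible hNi))
  let Z : Set A.left := (fun a : 𝟙_ (Over (Spec (CommRingCat.of k))) ⟶ A => a.left (IsLocalRing.closedPoint k)) ''
    {a | F c (tr a) = c}
  have hcl : ∀ z ∈ Z, IsClosed ({z} : Set A.left) := by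
    rintro _ ⟨a, -, rfl⟩
    exact ((pointEquivClosedPoint A.hom) ⟨a.left, Over.w a⟩).2
  -- vanishing spreads from closed points
  have hspread : ∀ (i : ℕ) (y : A.left) (P : Set A.left), IsLocallyClosed P → y ∈ P →
      (∀ u : 𝟙_ (Over (Spec (CommRingCat.of k))) ⟶ A, u.left (IsLocalRing.closedPoint k) ∈ P →
        Subsingleton (Coh.HH A.left ((Scheme.Modules.pullback (lift (𝟙 A) (toUnit A ≫ u)).left).obj N) i)) →
      ∃ U : A.left.Opens, y ∈ U ∧ IsZero (((Coh.Rpush q i).obj N).restrict U.ι) := by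
    intro i y P hP hy h
    obtain ⟨z, ⟨hz1, hz3⟩, hz2⟩ := nonempty_inter_closedPoints (Z := closure ({y} : Set A.left) ∩ P)
      ⟨y, subset_closure rfl, hy⟩ (isClosed_closure.isLocallyClosed.inter hP)
    obtain ⟨u, hu⟩ := exists_rational A hz2
    have hv : Subsingleton (CohIII.fiberH q N (u.left (IsLocalRing.closedPoint k)) i) :=
      (subsingleton_fiberH_iff (isPullback_snd_slice A u) A.hom (Over.w u) hNc.1 i).2 (h u (hu ▸ hz3))
    obtain ⟨U, hzU, hU⟩ := S2385.result q N hNc hNf _ i hv
    rw [hu] at hzU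
    refine ⟨U, ?_, hU⟩
    obtain ⟨w, hwU, hw⟩ := mem_closure_iff.1 hz1 U U.2 hzU
    rwa [Set.mem_singleton_iff.1 hw] at hwU
  have hq : ∀ i, ∀ y ∉ Z, ∃ U : A.left.Opens, y ∈ U ∧ IsZero (((Coh.Rpush q i).obj N).restrict U.ι) := by
    intro i y hy
    have hZc : IsClosed Z := by
      rw [← Set.biUnion_of_singleton Z]
      exact (hnd.image _).isClosed_biUnion hcl
    refine hspread i y Zᶜ hZc.isOpen_compl.isLocallyClosed hy fun u hu => ?_
    have hne : F c (tr u) ≠ c := fun h => hu ⟨u, h, rfl⟩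
    have hinv' : ∀ a, F (F c (tr u) * c') (tr a) = F c (tr u) * c' := by
      intro a
      rw [F_mul, show F (F c (tr u)) (tr a) = F c (tr a ≫ tr u) from pull_F _ _ _, tr_comp]
      have h1 : F c' (tr a) * F c (tr a) = 1 := by
        rw [← F_mul, mul_comm, hcc']
        exact map_one _
      refine (IsUnit.mul_left_inj (IsUnit.of_mul_eq_one_right _ h1)).1 ?_
      calc F c (tr (a * u)) * F c' (tr a) * F c (tr a) = F c (tr (a * u)) * (c * c') := by
            rw [mul_assoc, h1, hcc']
        _ = (F c (tr a) * F c (tr u)) * c' := by rw [← mul_assoc, square hc a u]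
        _ = F c (tr u) * c' * F c (tr a) := by ac_rfl
    exact subsingleton_HH_of_invariant A (PicClLib.isInvertible_pullback _ hNi) (hτ u) hinv'
      (fun h => hne (by
        calc F c (tr u) = F c (tr u) * c' * c := by rw [mul_assoc, mul_comm c', hcc', mul_one]
          _ = c := by rw [h, one_mul])) i
  have hzero : ∀ n, n ≠ g → IsZero ((Coh.Rpush q n).obj N) := fun n hn => isZero_of_locally fun y => by
    rcases lt_or_gt_of_ne hn with hlt | hgt
    · by_cases hy : y ∈ Z
      · have hyc := hcl y hy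
        haveI : IsRegularLocalRing (A.left.presheaf.stalk y) :=
          GrpSchLib.isRegularLocalRing_stalk_of_smooth A.hom y
        refine exists_isZero_Rpush_of_lt q hNc hNf y ((GrpSchLib.ringKrullDim_stalk_eq hyc).trans hg)
          (fun y' hy' hne j => hq j y' fun hy'Z => hne ?_) hlt
        exact (Set.mem_singleton_iff.1 ((hcl y' hy'Z).closure_eq ▸ hy'.mem_closure)).symm
      · exact hq n y hy
    · exact hspread n y Set.univ isClosed_univ.isLocallyClosed trivial fun u _ =>
        Snapper.subsingleton_HH_of_dim_le hg.le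
          (AmpleVan.isCoh_invertible (PicClLib.isInvertible_pullback _ hNi)).1 hgt
  have hne : ∀ n, n ≠ g → Subsingleton (Coh.HH (A ⊗ A).left N n) := fun n hn =>
    subsingleton_HH_of_isZero_finite q N (hnd.image _) hcl hq n (hzero n hn)
  refine ⟨hne, fun hgs => ?_⟩
  have hall : ∀ n, Subsingleton (Coh.HH (A ⊗ A).left N n) := fun n => by
    by_cases hn : n = g
    · exact hn ▸ hgs
    · exact hne n hn
  have hq0 : ∀ i, IsZero ((Coh.Rpush q i).obj N) := isZero_Rpush_of_finite q N (hnd.image _) hcl hq hall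
  have h0 := subsingleton_fiberH_zero q hNc hNf hq0
    ((1 : 𝟙_ (Over (Spec (CommRingCat.of k))) ⟶ A).left (IsLocalRing.closedPoint k))
  replace h0 := (subsingleton_fiberH_iff (isPullback_snd_slice A 1) A.hom (Over.w _) hNc.1 0).1 h0
  have htriv : Triv ((Scheme.Modules.pullback (lift (𝟙 A) (toUnit A ≫ (1 : 𝟙_ _ ⟶ A))).left).obj N) :=
    (cl_eq_one_iff _).1 (by rw [hτ 1, F_tr_one, hcc'])
  exact not_subsingleton_HH_zero A (QCoh.subsingleton_HH_of_iso htriv.some 0 h0)

/-- The index theorem. -/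
theorem exists_index {g : ℕ} (hg : topologicalKrullDim A.left = g) {L : A.left.Modules} (hL : PicF.IsInvertible L)
    (hnd : Set.Finite {a : 𝟙_ (Over (Spec (CommRingCat.of k))) ⟶ A | F (PicF.cl L) (tr a) = PicF.cl L})
    {L' : A.left.Modules} (hL' : PicF.IsInvertible L') (hLL' : PicF.cl L * PicF.cl L' = 1) :
    ∃ i, i ≤ g ∧ (∀ j, j ≠ i → Subsingleton (Coh.HH A.left L j)) ∧ ¬ Subsingleton (Coh.HH A.left L i) ∧
      (∀ j, j ≠ g - i → Subsingleton (Coh.HH A.left L' j)) ∧ ¬ Subsingleton (Coh.HH A.left L' (g - i)) := by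
  classical
  haveI : IsCommMonObj A := isCommMonObj_of_isProper_of_geometricallyIntegral A
  haveI : CompactSpace A.left := QuasiCompact.compactSpace_of_compactSpace A.hom
  haveI : IsLocallyNoetherian A.left := LocallyOfFiniteType.isLocallyNoetherian A.hom
  haveI : IsNoetherian A.left := {}
  haveI : A.left.IsSeparated := ⟨by
    rw [show terminal.from A.left = A.hom ≫ terminal.from _ from terminal.hom_ext _ _]
    infer_instance⟩
  haveI : IsProper (A ⊗ A).hom := inferInstanceAs (IsProper (pullback.fst A.hom A.hom ≫ A.hom))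
  haveI : IsLocallyNoetherian (A ⊗ A).left := LocallyOfFiniteType.isLocallyNoetherian (A ⊗ A).hom
  let N₀ := CohB1.tensorMod ((Scheme.Modules.pullback (fst A A).left).obj L')
    ((Scheme.Modules.pullback (snd A A).left).obj L)
  let σ : A ⊗ A ⟶ A ⊗ A := lift (fst A A) (snd A A * fst A A)
  haveI : IsIso σ.left := by
    haveI : IsIso σ := ⟨lift (fst A A) (snd A A * (fst A A)⁻¹),
      by ext : 1 <;> simp [σ, MonObj.comp_mul, GrpObj.comp_inv],
      by ext : 1 <;> simp [σ, MonObj.comp_mul, GrpObj.comp_inv]⟩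
    exact (Over.forget _).map_isIso σ
  have hN₀i : PicF.IsInvertible N₀ :=
    InvX.isInvertible_tensorMod (PicClLib.isInvertible_pullback _ hL') (PicClLib.isInvertible_pullback _ hL)
  have hcl : PicF.cl ((Scheme.Modules.pullback σ.left).obj N₀) =
      F (PicF.cl L) (snd A A * fst A A) * F (PicF.cl L') (fst A A) := by
    show PicMul.pullHom σ.left (PicF.cl N₀) = _
    rw [H23.PicMul.cl_tensor, map_mul, mul_comm]
    show PicMul.pullHom σ.left (F (PicF.cl L) (snd A A)) * PicMul.pullHom σ.left (F (PicF.cl L') (fst A A)) = _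
    rw [pull_F, pull_F, show σ ≫ fst A A = fst A A from lift_fst _ _,
      show σ ≫ snd A A = snd A A * fst A A from lift_snd _ _]
  obtain ⟨hvan, hne⟩ := index_core A hg ⟨L, rfl, hL⟩ ⟨L', rfl, hL'⟩ hLL' hnd
    (PicClLib.isInvertible_pullback σ.left hN₀i) hcl
  have hiff := fun n => subsingleton_HH_pullback_iff (A ⊗ A).hom σ.left N₀ (AmpleVan.isCoh_invertible hN₀i).1 n
  have hex : ∀ {M : A.left.Modules}, PicF.IsInvertible M → (¬ ∀ j, Subsingleton (Coh.HH A.left M j)) →
      ∃ a b, a ≤ b ∧ ¬ Subsingleton (Coh.HH A.left M a) ∧ ¬ Subsingleton (Coh.HH A.left M b) ∧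
        ∀ j, j < a ∨ b < j → Subsingleton (Coh.HH A.left M j) := by
    intro M hM h
    rw [not_forall] at h
    have hbd : ∀ j, g < j → Subsingleton (Coh.HH A.left M j) := fun j hj =>
      Snapper.subsingleton_HH_of_dim_le hg.le (AmpleVan.isCoh_invertible hM).1 hj
    have hle : ∀ j, ¬ Subsingleton (Coh.HH A.left M j) → j ≤ g := fun j hj =>
      not_lt.1 fun h' => hj (hbd j h')
    let P : ℕ → Prop := fun j => ¬ Subsingleton (Coh.HH A.left M j)
    obtain ⟨j₀, hj₀⟩ := h
    refine ⟨Nat.find (p := P) ⟨j₀, hj₀⟩, Nat.findGreatest P g, ?_, Nat.find_spec (p := P) ⟨j₀, hj₀⟩,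
      Nat.findGreatest_spec (P := P) (hle j₀ hj₀) hj₀, fun j hj => ?_⟩
    · exact (Nat.find_min' (p := P) ⟨j₀, hj₀⟩ hj₀).trans (Nat.le_findGreatest (hle j₀ hj₀) hj₀)
    · by_contra hcon
      rcases hj with hj | hj
      · exact Nat.find_min (p := P) ⟨j₀, hj₀⟩ hj hcon
      · exact not_le.2 hj (Nat.le_findGreatest (hle j hcon) hcon)
  have hnot : ∀ {M M' : A.left.Modules}, (∀ j, Subsingleton (Coh.HH A.left M j)) ∨ (∀ j, Subsingleton (Coh.HH A.left M' j)) →
      M = L' → M' = L → False := by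
    rintro M M' h rfl rfl
    exact hne ((hiff g).2 (subsingleton_HH_box A A hL' hL (fun i j => h.imp (fun h => h i) (fun h => h j)) g))
  obtain ⟨a', b', hab', ha', hb', hM'⟩ := hex hL' fun h => hnot (Or.inl h) rfl rfl
  obtain ⟨a, b, hab, ha, hb, hM⟩ := hex hL fun h => hnot (Or.inr h) rfl rfl
  have h1 : a' + a = g := by
    by_contra h
    exact not_subsingleton_HH_box A A hL' hL a' a ha' ha (fun p q _ hq => Or.inr (hM q (Or.inl hq)))
      (fun p q hp _ => Or.inl (hM' p (Or.inl hp))) ((hiff _).1 (hvan _ h))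
  have h2 : b' + b = g := by
    by_contra h
    exact not_subsingleton_HH_box A A hL' hL b' b hb' hb (fun p q hp _ => Or.inl (hM' p (Or.inr hp)))
      (fun p q _ hq => Or.inr (hM q (Or.inr hq))) ((hiff _).1 (hvan _ h))
  refine ⟨a, by omega, fun j hj => hM j (by omega), ha, fun j hj => hM' j (by omega), ?_⟩
  rwa [show g - a = a' by omega]

end Groth.Agent.AVEuler

end
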