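import Groth.Agent.AVEuler.Point
import Groth.Agent.AVVanish.TauEquiv
import Groth.Agent.AVDegPoly.SnapperZ
import Groth.Agent.AVDegPoly.Rows
import Groth.Agent.AmpleX.Generated

/-! Twisting by an invariant class keeps the Euler characteristic. -/

set_option autoImplicit false
set_option backward.isDefEq.respectTransparency false
set_option linter.style.haveILetI false

universe u

open CategoryTheory CategoryTheory.Limits AlgebraicGeometry MonoidalCategory CartesianMonoidalCategory
open scoped MonObj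

attribute [-instance] CategoryTheory.catToReflQuiver

namespace Groth.Agent.AVEuler

open H23 H23.CubeAb AVDegPoly
open scoped Groth.Agent.H23.PicMul

variable {k : Type u} [Field k] (A : Over (Spec (CommRingCat.of k))) [IsProper A.hom]

/-- the Euler characteristic of a class on a group over the field -/
noncomputable abbrev chi (c : PicF.Cl A.left) : ℤ :=
  @eulerCl k _ A.left ⟨A.hom⟩ ‹IsProper A.hom› c

theorem chi_cl (L : A.left.Modules) : chi A (PicF.cl L) = @Curv2.euler k _ A.left ⟨A.hom⟩ L := rfl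

theorem chi_iso {B : Over (Spec (CommRingCat.of k))} [IsProper B.hom] (θ : B ⟶ A) [IsIso θ.left]
    {c : PicF.Cl A.left} (hc : PicF.IsInvertibleCl c) : chi B (F c θ) = chi A c := by
  obtain ⟨L, rfl, hL⟩ := hc
  letI : A.left.Over (Spec (CommRingCat.of k)) := ⟨A.hom⟩
  letI : B.left.Over (Spec (CommRingCat.of k)) := ⟨B.hom⟩
  haveI : IsProper (A.left ↘ Spec (CommRingCat.of k)) := inferInstanceAs (IsProper A.hom)
  exact @euler_pullback_iso k _ A.left B.left ⟨A.hom⟩ ⟨B.hom⟩ ‹IsProper A.hom› θ.left ‹IsIso θ.left› (Over.w θ) L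
    (ProjUPX.isQCoh_of_isInvertible hL)

variable [GrpObj A]

omit [IsProper A.hom] in
theorem isIso_tr (u : 𝟙_ (Over (Spec (CommRingCat.of k))) ⟶ A) : IsIso (tr u).left := by
  have h1 : tr (1 : 𝟙_ (Over (Spec (CommRingCat.of k))) ⟶ A) = 𝟙 A := by
    show 𝟙 A * (toUnit A ≫ 1) = 𝟙 A
    rw [MonObj.comp_one, _root_.mul_one]
  have hc : ∀ a b : 𝟙_ (Over (Spec (CommRingCat.of k))) ⟶ A, tr a ≫ tr b = tr (a * b) := fun a b => by
    show tr a ≫ (𝟙 A * (toUnit A ≫ b)) = 𝟙 A * (toUnit A ≫ (a * b))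
    rw [MonObj.comp_mul, Category.comp_id, ← Category.assoc, toUnit_unique (tr a ≫ toUnit A) (toUnit A),
      MonObj.comp_mul, _root_.mul_assoc]
  exact ⟨(tr u⁻¹).left, by rw [← Over.comp_left, hc, _root_.mul_inv_cancel, h1, Over.id_left],
    by rw [← Over.comp_left, hc, _root_.inv_mul_cancel, h1, Over.id_left]⟩

variable [IsAlgClosed k] [GeometricallyIntegral A.hom]

/-- twisting by an invariant class -/
theorem chi_mul_invariant {c d : PicF.Cl A.left} (hc : PicF.IsInvertibleCl c) (hd : PicF.IsInvertibleCl d)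
    (hinv : ∀ a, F d (tr a) = d) : chi A (c * d) = chi A c := by
  letI : A.left.Over (Spec (CommRingCat.of k)) := ⟨A.hom⟩
  haveI : IsProper (A.left ↘ Spec (CommRingCat.of k)) := inferInstanceAs (IsProper A.hom)
  haveI : IsIntegral A.left := GeometricallyIntegral.isIntegral_of_subsingleton A.hom
  haveI : CompactSpace A.left := AmpleVan.compactSpace_of_proper (A := k) (X := A.left)
  haveI : A.left.IsSeparated := AmpleVan.isSeparated_of_proper (A := k) (X := A.left)
  haveI : IsCommMonObj A := isCommMonObj_of_isProper_of_geometricallyIntegral A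
  obtain ⟨g, hg⟩ := AVDegPoly.exists_dim (A := A)
  obtain ⟨H, hH⟩ := AVProj.exists_isAmple (X := A)
  obtain ⟨Lc, hLc, hLci⟩ := id hc
  obtain ⟨n₀, -, hn₀⟩ := AmpleX.eventually_ample_tensor hH hLci
  let w : Fin 3 → (PicF.Cl A.left)ˣ := ![(PicMul.isUnit_of_isInvertibleCl hc).unit,
    (PicMul.isUnit_of_isInvertibleCl hd).unit, (PicMul.isUnit_of_isInvertibleCl ⟨H, rfl, hH.1⟩).unit]
  obtain ⟨P, -, hP⟩ := exists_poly_eulerCl k (X := A.left) hg.le w fun i => by
    fin_cases i
    · exact hc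
    · exact hd
    · exact ⟨H, rfl, hH.1⟩
  have hval : ∀ (i : ℤ) (n : ℕ), i = 0 ∨ i = 1 →
      (chi A (c * d ^ i.toNat * PicF.cl H ^ n) : ℚ) = MvPolynomial.eval ![1, (i : ℚ), (n : ℚ)] P := by
    intro i n hi
    have := hP ![1, i, (n : ℤ)]
    rw [show (fun j => ((![1, i, (n : ℤ)] j : ℤ) : ℚ)) = ![1, (i : ℚ), (n : ℚ)] from funext fun j => by
      fin_cases j <;> simp] at this
    rw [← this]
    congr 2
    rw [Units.coe_prod, Fin.prod_univ_three]
    rcases hi with rfl | rfl <;> simp [w]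
  have hlarge : ∀ n : ℕ, n₀ ≤ n → chi A (c * d * PicF.cl H ^ n) = chi A (c * PicF.cl H ^ n) := by
    intro n hn
    obtain ⟨hamp, -⟩ := hn₀ n hn
    have hcl : PicF.cl (CohB1.tensorMod (CohB1.tensorPow H n) Lc) = c * PicF.cl H ^ n := by
      rw [PicMul.cl_tensor, PicMul.cl_tensorPow, hLc, mul_comm]
    have hci : PicF.IsInvertibleCl (c * PicF.cl H ^ n) := ⟨_, hcl, hamp.1⟩
    obtain ⟨u, hu⟩ := AVVanish.exists_translate_eq A (c := c * PicF.cl H ^ n) (d := d) hci hd
      ((S12002.result k A _ hamp).subset fun a ha => PicMul.cl_eq_iff.1 (by rw [← hcl] at ha; exact ha)) hinv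
    haveI := isIso_tr A u
    have := chi_iso A (tr u) hci
    rw [hu] at this
    rw [← this]
    congr 1
    ac_rfl
  let sub : ℚ → Polynomial ℚ := fun i =>
    MvPolynomial.aeval ![Polynomial.C 1, Polynomial.C i, Polynomial.X] P
  have hsub : ∀ (i t : ℚ), (sub i).eval t = MvPolynomial.eval ![1, i, t] P := by
    intro i t
    show Polynomial.evalRingHom t (MvPolynomial.aeval ![Polynomial.C 1, Polynomial.C i, Polynomial.X] P) = _
    rw [MvPolynomial.map_aeval, MvPolynomial.coe_eval₂Hom]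
    have hC : (Polynomial.evalRingHom t).comp (algebraMap ℚ (Polynomial ℚ)) = RingHom.id ℚ :=
      RingHom.ext fun x => by simp [Polynomial.algebraMap_eq]
    rw [hC, MvPolynomial.eval₂_id]
    congr 2
    funext j
    fin_cases j <;> simp
  have heq : sub 1 = sub 0 := Polynomial.eq_of_infinite_eval_eq _ _ <|
    ((Set.infinite_range_of_injective fun a b h => by simpa using h :
      (Set.range fun m : ℕ => (((m + n₀ : ℕ)) : ℚ)).Infinite)).mono (by
    rintro _ ⟨m, rfl⟩
    have h1 := hval 1 (m + n₀) (Or.inr rfl)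
    have h0 := hval 0 (m + n₀) (Or.inl rfl)
    simp only [Int.toNat_one, Int.toNat_zero, pow_one, pow_zero, mul_one, Int.cast_one, Int.cast_zero] at h1 h0
    show (sub 1).eval _ = (sub 0).eval _
    rw [hsub, hsub, ← h1, ← h0, hlarge _ (by omega)])
  have h1 := hval 1 0 (Or.inr rfl)
  have h0 := hval 0 0 (Or.inl rfl)
  simp only [Int.toNat_one, Int.toNat_zero, pow_one, pow_zero, mul_one, Int.cast_one, Int.cast_zero] at h1 h0
  have := congrArg (Polynomial.eval ((0 : ℕ) : ℚ)) heq
  rw [hsub, hsub, ← h1, ← h0] at this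
  exact_mod_cast this

end Groth.Agent.AVEuler
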