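import Groth.Agent.AVEuler.Homogeneous
import Groth.Agent.AVEuler.Split
import Groth.Agent.H23.TraceSplit
import Groth.Agent.H23.CoverPush
import Groth.Agent.H23.FinTrace
import Groth.Agent.AVDegLib.MulN
import Groth.Agent.AVVanish.PhiSurj
import Groth.Agent.AVVanish.TauEquiv
import Groth.Agent.AVVanish.Fibre
import Groth.Agent.KRRReg.BaseVan
import Groth.Agent.S12002

/-!
# Vanishing for ample modules on abelian varieties

For `n` prime to the characteristic, the cohomology of `L` is a direct summand of the cohomology of `[n]^* L`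
(the trace splits `O → [n]_* O`), and `[n]^* L` is a translate of `L^{n²}`.
-/

noncomputable section

set_option autoImplicit false
set_option backward.isDefEq.respectTransparency false
set_option linter.style.haveILetI false
set_option linter.unusedSectionVars false
set_option maxHeartbeats 1000000

universe u

open CategoryTheory CategoryTheory.Limits AlgebraicGeometry MonoidalCategory CartesianMonoidalCategory TopologicalSpace Opposite
open scoped MonObj

attribute [-instance] CategoryTheory.catToReflQuiver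

namespace Groth.Agent.AVEuler

open H23 H23.CubeAb AVDegPoly
open scoped Groth.Agent.H23.PicMul

variable {k : Type u} [Field k]

/-- the two forms of the direct image of the structure sheaf -/
def directImageIso {X Z : Scheme.{u}} (f : Z ⟶ X) [QuasiCompact f] [QuasiSeparated f] :
    (RelSpec.QCAlg.directImage f).toModule ≅ (Scheme.Modules.pushforward f).obj (Coh.structureModule Z) :=
  Iso.refl _

/-- the trace makes the cohomology of a module a summand of that of its pullback -/
theorem subsingleton_HH_of_pullback {X Z : Scheme.{u}} [X.Over (Spec (CommRingCat.of k))]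
    [Z.Over (Spec (CommRingCat.of k))] [IsLocallyNoetherian Z] (f : Z ⟶ X) [IsFinite f]
    (hf : f ≫ (X ↘ Spec (CommRingCat.of k)) = Z ↘ Spec (CommRingCat.of k))
    {d : ℕ} (hP : FlatMod.IsFinLocFreeOfRank d ((Scheme.Modules.pushforward f).obj (Coh.structureModule Z)))
    (hd : IsUnit (d : Γ(X, ⊤))) {L : X.Modules} (hL : PicF.IsInvertible L) (i : ℕ)
    (h : Subsingleton (Coh.HH Z ((Scheme.Modules.pullback f).obj L) i)) : Subsingleton (Coh.HH X L i) := by
  let A := RelSpec.QCAlg.directImage f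
  have hA : FlatMod.IsFinLocFreeOfRank d A.toModule := fun x =>
    let ⟨U, hx, ⟨e⟩⟩ := hP x
    ⟨U, hx, ⟨(Scheme.Modules.restrictFunctor U.ι).mapIso (directImageIso f) ≪≫ e⟩⟩
  obtain ⟨τ, hτ, -⟩ := H23.FinTrace.existsUnique_isTrace (H23.DblAlg.isFinLocFree_of_rank hA)
  obtain ⟨σ, hσ, -⟩ := H23.TraceSplit.exists_section hA hτ hd
  obtain ⟨e⟩ := nonempty_tensor_push f (Coh.structureModule Z) (H23.PullPush.isFinLocFree_of_isInvertible hL)
  let M := CohB1.tensorMod ((Scheme.Modules.pullback f).obj L) (Coh.structureModule Z)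
  let t := CurveTensor.commIso (Coh.structureModule X) L
  let a : (DCoh.tensorBi.obj L).obj A.toModule ≅ (Scheme.Modules.pushforward f).obj M :=
    (DCoh.tensorBi.obj L).mapIso (directImageIso f) ≪≫ e
  let s : L ⟶ (Scheme.Modules.pushforward f).obj M :=
    (CurveTensor.structureTensorIso L).inv ≫ t.hom ≫ (DCoh.tensorBi.obj L).map σ ≫ a.hom
  let r : (Scheme.Modules.pushforward f).obj M ⟶ L :=
    a.inv ≫ (DCoh.tensorBi.obj L).map τ ≫ t.inv ≫ (CurveTensor.structureTensorIso L).hom
  have hsr : s ≫ r = 𝟙 L := by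
    simp only [s, r, Category.assoc, Iso.hom_inv_id_assoc]
    rw [← Functor.map_comp_assoc, hσ, CategoryTheory.Functor.map_id, Category.id_comp, Iso.hom_inv_id_assoc,
      Iso.inv_hom_id]
  have hMq : Coh.IsQCoh M :=
    (AmpleVan.isCoh_invertible (InvX.isInvertible_tensorMod (PicClLib.isInvertible_pullback _ hL)
      CurveDeg.isInvertible_structureModule)).1
  obtain ⟨eH⟩ := PnCoh.exists_linearEquiv_push k f hf hMq i
  have hM : Subsingleton (Coh.HH Z M i) :=
    QCoh.subsingleton_HH_of_iso ((CurveTensor.structureTensorIso _).symm ≪≫ CurveTensor.commIso _ _) i h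
  exact KRRReg.subsingleton_HH_retract s r hsr i eH.symm.toEquiv.subsingleton

variable [IsAlgClosed k] {A : Over (Spec (CommRingCat.of k))} [GrpObj A] [IsProper A.hom] [GeometricallyIntegral A.hom]

omit [IsAlgClosed k] in
/-- a symmetric class under a power of the identity -/
theorem R_pow_symmetric {u : (PicF.Cl A.left)ˣ} (hu : PicF.IsInvertibleCl (u : PicF.Cl A.left))
    (hsym : R u (𝟙 A)⁻¹ = u) : ∀ n : ℕ, R u (𝟙 A ^ n) = u ^ (n ^ 2)
  | 0 => by
    rw [pow_zero, show (0 : ℕ) ^ 2 = 0 from rfl, pow_zero]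
    exact Units.ext (F_one hu)
  | 1 => by rw [pow_one, one_pow, pow_one, R_id]
  | n + 2 => by
    have h1 := R_pow_symmetric hu hsym (n + 1)
    have h0 := R_pow_symmetric hu hsym n
    have h := R_cube hu (𝟙 A ^ (n + 1)) (𝟙 A) ((𝟙 A)⁻¹)
    rw [mul_inv_cancel_right, mul_inv_cancel, show R u (1 : A ⟶ A) = 1 from Units.ext (F_one hu), ← pow_succ,
      show 𝟙 A ^ (n + 1) * (𝟙 A)⁻¹ = 𝟙 A ^ n by rw [pow_succ, mul_inv_cancel_right], hsym, R_id, h1, h0,
      mul_one] at h
    refine mul_right_cancel (b := u ^ (n ^ 2)) ?_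
    rw [← h, ← pow_add, ← pow_add, ← pow_succ, ← pow_succ]
    congr 1
    ring

/-- the pullback by a power of the identity is the square power up to an invariant class -/
theorem exists_R_pow {u : (PicF.Cl A.left)ˣ} (hu : PicF.IsInvertibleCl (u : PicF.Cl A.left)) (n : ℕ) :
    ∃ D : (PicF.Cl A.left)ˣ, PicF.IsInvertibleCl (D : PicF.Cl A.left) ∧
      (∀ a, F (D : PicF.Cl A.left) (tr a) = D) ∧ R u (𝟙 A ^ n) = D * u ^ (n ^ 2) := by
  haveI : IsCommMonObj A := isCommMonObj_of_isProper_of_geometricallyIntegral A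
  let ng : A ⟶ A := (𝟙 A)⁻¹
  have hngng : ng ≫ ng = 𝟙 A := by
    show ng ≫ (𝟙 A)⁻¹ = 𝟙 A
    rw [GrpObj.comp_inv, Category.comp_id, inv_inv]
  let u' := u * R u ng
  have hu' : PicF.IsInvertibleCl (u' : PicF.Cl A.left) := by
    rw [Units.val_mul]
    exact H23.PicMul.isInvertibleCl_mul hu (isInvertibleCl_R hu ng)
  have hsym' : R u' (𝟙 A)⁻¹ = u' := by
    show Units.map _ (u * R u ng) = u * R u ng
    rw [map_mul, R_comp, show (𝟙 A)⁻¹ ≫ ng = 𝟙 A from hngng, R_id, mul_comm]
  let d := R u ng / u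
  have hd : PicF.IsInvertibleCl (d : PicF.Cl A.left) := by
    simp only [d, div_eq_mul_inv, Units.val_mul]
    exact H23.PicMul.isInvertibleCl_mul (isInvertibleCl_R hu ng) (isInvertibleCl_units _ hu)
  have hdinv : ∀ a : 𝟙_ (Over (Spec (CommRingCat.of k))) ⟶ A, R d (tr a) = d := by
    intro a
    have hs : Units.map (PicMul.pullHom (tr a).left) (R u ng) * u = R u ng * R u (tr a) :=
      Units.ext (H23.CubeAb.symmetric hu a)
    show Units.map _ (R u ng / u) = R u ng / u
    rw [map_div, div_eq_div_iff_mul_eq_mul, hs]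
  have hadd : IsAdditive (d : PicF.Cl A.left) :=
    isAdditive_of_invariant hd fun a => congrArg Units.val (hdinv a)
  have hdn : ∀ m : ℕ, R d (𝟙 A ^ m) = d ^ m := by
    intro m
    induction m with
    | zero => rw [pow_zero, pow_zero]; exact Units.ext (F_one hd)
    | succ m ih =>
      rw [pow_succ, pow_succ, show R d (𝟙 A ^ m * 𝟙 A) = R d (𝟙 A ^ m) * R d (𝟙 A) from
        Units.ext (hadd.apply _ _), ih, R_id]
  have hu'eq : u' = u ^ 2 * d := by
    apply Additive.ofMul.injective
    simp only [u', d, ofMul_mul, ofMul_pow, ofMul_div]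
    module
  let D := R u (𝟙 A ^ n) / u ^ (n ^ 2)
  have hD : PicF.IsInvertibleCl (D : PicF.Cl A.left) := by
    simp only [D, div_eq_mul_inv, Units.val_mul]
    refine H23.PicMul.isInvertibleCl_mul (isInvertibleCl_R hu _) (isInvertibleCl_units _ ?_)
    rw [← zpow_natCast]
    exact isInvertibleCl_zpow u hu _
  have hD2 : D ^ 2 = d ^ (n ^ 2) / d ^ n := by
    have h := R_pow_symmetric hu' hsym' n
    rw [hu'eq, show R (u ^ 2 * d) (𝟙 A ^ n) = R u (𝟙 A ^ n) ^ 2 * R d (𝟙 A ^ n) from by
      show Units.map _ (u ^ 2 * d) = _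
      rw [map_mul, map_pow], hdn] at h
    rw [eq_div_iff_mul_eq', show D ^ 2 = R u (𝟙 A ^ n) ^ 2 / (u ^ (n ^ 2)) ^ 2 from div_pow _ _ _,
      div_mul_eq_mul_div, h, mul_pow, ← pow_mul u (n ^ 2), mul_comm (n ^ 2) 2, pow_mul, mul_comm,
      mul_div_cancel_right]
  refine ⟨D, hD, ?_, (div_mul_cancel _ _).symm⟩
  refine AVVanish.invariant_of_pow A hD one_le_two fun a => ?_
  rw [← Units.val_pow_eq_pow_val]
  refine congrArg Units.val (show R (D ^ 2) (tr a) = D ^ 2 from ?_)
  rw [hD2]
  show Units.map _ (d ^ (n ^ 2) / d ^ n) = _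
  rw [map_div, map_pow, map_pow, show Units.map (PicMul.pullHom (tr a).left) d = d from hdinv a]

/-- Vanishing for ample modules. -/
theorem subsingleton_HH_succ_of_isAmple {L : A.left.Modules} (hL : CohB1.IsAmple L) (i : ℕ) :
    Subsingleton (Coh.HH A.left L (i + 1)) := by
  letI : A.left.Over (Spec (CommRingCat.of k)) := ⟨A.hom⟩
  haveI : IsProper (A.left ↘ Spec (CommRingCat.of k)) := inferInstanceAs (IsProper A.hom)
  haveI : IsIntegral A.left := GeometricallyIntegral.isIntegral_of_subsingleton A.hom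
  haveI : IsNoetherian A.left := CurveCohLib.isNoetherian_of_proper (k := k)
  obtain ⟨g, hg⟩ : ∃ g : ℕ, topologicalKrullDim A.left = g :=
    ⟨_, VarDim.topologicalKrullDim_eq_deg_genericPoint A.hom⟩
  obtain ⟨c₀, hc₀⟩ := AmpleVan.exists_vanishing (A := k) hL QCoh.isCoh_structureModule'
  obtain ⟨n, hn, hnk⟩ : ∃ n : ℕ, 2 ≤ n ∧ (n : k) ≠ 0 := by
    by_cases h : ((2 : ℕ) : k) = 0
    · refine ⟨3, by norm_num, fun h3 => one_ne_zero (α := k) ?_⟩
      have : ((3 : ℕ) : k) - ((2 : ℕ) : k) = 1 := by norm_num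
      rw [h, h3, sub_zero] at this
      exact this.symm
    · exact ⟨2, le_rfl, h⟩
  let N := n ^ (c₀ + 1)
  have hN0 : N ≠ 0 := pow_ne_zero _ (by omega)
  have hNc : c₀ ≤ N ^ 2 := (Nat.lt_pow_self (a := n) (by omega)).le.trans
    ((Nat.pow_le_pow_right (by omega) c₀.le_succ).trans (Nat.le_self_pow two_ne_zero _))
  let q : A ⟶ A := 𝟙 A ^ N
  haveI := AVMulN.isFinite_pow (A := A) N (Nat.pos_of_ne_zero hN0)
  haveI : Flat q.left := AVDegLib.flat_pow (A := A) N (Nat.pos_of_ne_zero hN0)
  haveI : LocallyOfFinitePresentation q.left := AVDegLib.lfp_endo q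
  have hd : ∀ y : A.left, Scheme.Hom.finrank q.left y = N ^ (2 * g) := fun y => by
    have h := AVDegLib.finrank_zpow (A := A) hg (N : ℤ) (by exact_mod_cast hN0) y
    rw [Int.natAbs_natCast] at h
    rw [← h, zpow_natCast]
  refine subsingleton_HH_of_pullback (k := k) q.left (Over.w q)
    (H23.CoverPush.isFinLocFreeOfRank_push_of_isCover q.left ⟨⟨inferInstance, inferInstance, inferInstance⟩, hd⟩)
    ?_ hL.1 (i + 1) ?_
  · have hk : IsUnit ((N ^ (2 * g) : ℕ) : k) := by
      rw [isUnit_iff_ne_zero, Nat.cast_pow]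
      exact pow_ne_zero _ (by simp only [N, Nat.cast_pow]; exact pow_ne_zero _ hnk)
    have := hk.map ((Scheme.ΓSpecIso (CommRingCat.of k)).inv ≫ A.hom.appTop).hom
    rwa [map_natCast] at this
  · -- `q^* L` is a translate of `L^(N²)`
    let u := (PicMul.isUnit_of_isInvertibleCl (⟨L, rfl, hL.1⟩ : PicF.IsInvertibleCl (PicF.cl L))).unit
    obtain ⟨D, hD, hDinv, hDeq⟩ := exists_R_pow (u := u) ⟨L, rfl, hL.1⟩ N
    let LN := CohB1.tensorPow L (N ^ 2)
    have hLN : CohB1.IsAmple LN := AmpleX.isAmple_tensorPow hL (n := N ^ 2) (by positivity)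
    obtain ⟨a, ha⟩ := AVVanish.exists_translate_eq A (c := PicF.cl LN) (d := (D : PicF.Cl A.left))
      ⟨LN, rfl, hLN.1⟩ hD ((S12002.result k A LN hLN).subset fun b hb => PicMul.cl_eq_iff.1 hb) hDinv
    have hcl : PicF.cl ((Scheme.Modules.pullback (tr a).left).obj LN) =
        PicF.cl ((Scheme.Modules.pullback q.left).obj L) := by
      show F (PicF.cl LN) (tr a) = F (PicF.cl L) q
      rw [ha, show F (PicF.cl L) q = ((R u q : (PicF.Cl A.left)ˣ) : PicF.Cl A.left) from rfl, hDeq, Units.val_mul,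
        Units.val_pow_eq_pow_val, H23.PicMul.cl_tensorPow]
      rfl
    haveI := isIso_tr (A := A) a
    refine QCoh.subsingleton_HH_of_iso (H23.PicMul.cl_eq_iff.1 hcl).some (i + 1) ?_
    exact (AVVanish.subsingleton_HH_pullback_iff A.hom (tr a).left LN (AmpleVan.isCoh_invertible hLN.1).1 (i + 1)).2
      (QCoh.subsingleton_HH_of_iso (CurveTensor.structureTensorIso LN) (i + 1) (hc₀ (N ^ 2) hNc i))

/-- The sections of an ample module. -/
theorem nontrivial_HH_zero_of_isAmple {L : A.left.Modules} (hL : CohB1.IsAmple L) :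
    Nontrivial (Coh.HH A.left L 0) := by
  letI : A.left.Over (Spec (CommRingCat.of k)) := ⟨A.hom⟩
  haveI : IsProper (A.left ↘ Spec (CommRingCat.of k)) := inferInstanceAs (IsProper A.hom)
  haveI : IsIntegral A.left := GeometricallyIntegral.isIntegral_of_subsingleton A.hom
  obtain ⟨g, hg⟩ : ∃ g : ℕ, topologicalKrullDim A.left = g :=
    ⟨_, VarDim.topologicalKrullDim_eq_deg_genericPoint A.hom⟩
  rw [← not_subsingleton_iff_nontrivial]
  intro h0
  have hall : ∀ i, Subsingleton (Coh.HH A.left L i) := fun i => by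
    cases i with
    | zero => exact h0
    | succ j => exact subsingleton_HH_succ_of_isAmple hL j
  have hχ : chi A (PicF.cl L) = 0 := by
    rw [chi_cl]
    exact finsum_eq_zero_of_forall_eq_zero fun i => by
      haveI := hall i
      simp [Module.finrank_zero_of_subsingleton]
  let u := (PicMul.isUnit_of_isInvertibleCl (⟨L, rfl, hL.1⟩ : PicF.IsInvertibleCl (PicF.cl L))).unit
  have h := fwdDiff_eval_eq (0 : Polynomial ℚ) (d := g) (by simp) (fun m : ℕ => chi A (PicF.cl L ^ m)) fun m => by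
    have := chi_zpow hg (u := u) ⟨L, rfl, hL.1⟩ (m : ℤ)
    rw [zpow_natCast, Units.val_pow_eq_pow_val, IsUnit.unit_spec, hχ, mul_zero] at this
    rw [this]
    simp
  rw [Polynomial.coeff_zero, mul_zero] at h
  change ((volCl k A.left g (PicF.cl L) : ℤ) : ℚ) = 0 at h
  exact (volCl_pos k A.left hL hg).ne' (by exact_mod_cast h)

end Groth.Agent.AVEuler

end
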