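import Groth.Agent.AVEuler.Index
import Groth.Agent.AVEuler.Vanish
import Groth.Agent.AVEuler.Growth
import Groth.Agent.AVVanish.PullbackPicZero
import Groth.Agent.AVDegPoly.DetVal
import Groth.Agent.Lib.AVDual

/-!
# The index under isogenies and square powers

The index of a non-degenerate invertible module is kept by `L ↦ L^{n²}` for `n` prime to the characteristic (a
translate of `[n]^* L`, and the trace injects the cohomology). For an isogeny `f` the cohomology of `f^* L^{n²}` is
that of `L^{n²}` twisted by `f_* O`, generically free; as it grows in the one degree of the index like `n^{2g}`,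
the index of `f^* L` is that of `L`.
-/

noncomputable section

set_option autoImplicit false
set_option backward.isDefEq.respectTransparency false
set_option linter.style.haveILetI false
set_option linter.unusedSectionVars false
set_option maxHeartbeats 1000000

universe u

open CategoryTheory CategoryTheory.Limits AlgebraicGeometry MonoidalCategory CartesianMonoidalCategory TopologicalSpace Opposite
open scoped MonObj

attribute [-instance] CategoryTheory.catToReflQuiver

namespace Groth.Agent.AVEuler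

open H23 H23.CubeAb H23.TrivBasic AVVanish AVDegPoly
open scoped Groth.Agent.H23.PicMul

variable {k : Type u} [Field k] [IsAlgClosed k]

/-- the rational points whose translation fixes the class -/
abbrev Fix (A : Over (Spec (CommRingCat.of k))) [GrpObj A] (c : PicF.Cl A.left) :
    Set (𝟙_ (Over (Spec (CommRingCat.of k))) ⟶ A) :=
  {a | F c (tr a) = c}

/-- cohomology in the one degree `i` -/
def Conc (X : Scheme.{u}) (i : ℕ) (L : X.Modules) : Prop :=
  (∀ j, j ≠ i → Subsingleton (Coh.HH X L j)) ∧ ¬ Subsingleton (Coh.HH X L i)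

theorem Conc.unique {X : Scheme.{u}} {i j : ℕ} {L : X.Modules} (h : Conc X i L) (h' : Conc X j L) : i = j :=
  by_contra fun hne => h.2 (h'.1 i hne)

theorem Conc.iff {X : Scheme.{u}} {i : ℕ} {L : X.Modules} (h : Conc X i L) (j : ℕ) :
    Subsingleton (Coh.HH X L j) ↔ j ≠ i :=
  ⟨fun hs e => h.2 (e ▸ hs), h.1 j⟩

theorem Conc.congr {X : Scheme.{u}} {i : ℕ} {L M : X.Modules} (h : Conc X i L) (e : L ≅ M) : Conc X i M :=
  ⟨fun j hj => QCoh.subsingleton_HH_of_iso e j (h.1 j hj), fun hs => h.2 (QCoh.subsingleton_HH_of_iso e.symm i hs)⟩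

section single

variable (A : Over (Spec (CommRingCat.of k))) [GrpObj A] [IsProper A.hom] [GeometricallyIntegral A.hom]

theorem exists_conc {L : A.left.Modules} (hL : PicF.IsInvertible L) (hnd : (Fix A (PicF.cl L)).Finite) :
    ∃ i, Conc A.left i L := by
  haveI : IsIntegral A.left := GeometricallyIntegral.isIntegral_of_subsingleton A.hom
  obtain ⟨g, hg⟩ : ∃ g : ℕ, topologicalKrullDim A.left = g :=
    ⟨_, VarDim.topologicalKrullDim_eq_deg_genericPoint A.hom⟩
  obtain ⟨L', hL', ⟨e⟩⟩ := PicInv.exists_inverse hL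
  obtain ⟨i, -, hv, hne, -, -⟩ := exists_index A hg hL hnd hL'
    ((PicMul.cl_tensor _ _).symm.trans ((PicGrp.cl_eq_cl_iff _ _).2 ⟨e⟩))
  exact ⟨i, hv, hne⟩

theorem Fix_mul_invariant {c d : PicF.Cl A.left} (hd : PicF.IsInvertibleCl d) (hinv : ∀ a, F d (tr a) = d) :
    Fix A (d * c) = Fix A c := by
  ext a
  show F (d * c) (tr a) = d * c ↔ F c (tr a) = c
  rw [F_mul, hinv a]
  exact (PicMul.isUnit_of_isInvertibleCl hd).mul_right_inj

end single

variable {A B : Over (Spec (CommRingCat.of k))} [GrpObj A] [IsProper A.hom] [GeometricallyIntegral A.hom]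
  [GrpObj B] [IsProper B.hom] [GeometricallyIntegral B.hom]

/-- rational points are their closed points -/
theorem point_injective {X : Over (Spec (CommRingCat.of k))} [LocallyOfFiniteType X.hom] :
    Function.Injective fun a : 𝟙_ (Over (Spec (CommRingCat.of k))) ⟶ X => a.left (IsLocalRing.closedPoint k) := by
  intro a b hab
  apply Over.OverMorphism.ext
  exact congrArg Subtype.val ((pointEquivClosedPoint X.hom).injective
    (a₁ := ⟨a.left, Over.w a⟩) (a₂ := ⟨b.left, Over.w b⟩) (Subtype.ext hab))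

/-- non-degeneracy is kept by pulling back along finite surjective homomorphisms -/
theorem finite_Fix_pullback (f : A ⟶ B) [IsMonHom f] [IsFinite f.left] [Surjective f.left] {c : PicF.Cl B.left}
    (hc : PicF.IsInvertibleCl c) (hnd : (Fix B c).Finite) : (Fix A (F c f)).Finite := by
  haveI : IsCommMonObj B := isCommMonObj_of_isProper_of_geometricallyIntegral B
  obtain ⟨c', hc', hcc'⟩ := AVPair.exists_inv hc
  have hsq : ∀ a b, F c (tr (a * b)) * c = F c (tr a) * F c (tr b) := square hc
  -- the classes `t_b^* c - c`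
  have hker : ∀ a ∈ Fix A (F c f), F c (tr (a ≫ f)) * c' ∈
      {d : PicF.Cl B.left | PicF.IsInvertibleCl d ∧ (∀ b, F d (tr b) = d) ∧ PicMul.pullHom f.left d = 1} := by
    intro a ha
    refine ⟨PicMul.isInvertibleCl_mul (PicClLib.isInvertibleCl_pullCl _ hc) hc', fun b => ?_, ?_⟩
    · rw [F_mul, show F (F c (tr (a ≫ f))) (tr b) = F c (tr b ≫ tr (a ≫ f)) from pull_F _ _ _, tr_comp]
      have h1 : F c' (tr b) * F c (tr b) = 1 := by
        rw [← F_mul, mul_comm, hcc']
        exact map_one _
      refine (IsUnit.mul_left_inj (IsUnit.of_mul_eq_one_right _ h1)).1 ?_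
      calc F c (tr (b * (a ≫ f))) * F c' (tr b) * F c (tr b) = F c (tr (b * (a ≫ f))) * (c * c') := by
            rw [mul_assoc, h1, hcc']
        _ = (F c (tr b) * F c (tr (a ≫ f))) * c' := by rw [← mul_assoc, hsq]
        _ = F c (tr (a ≫ f)) * c' * F c (tr b) := by ac_rfl
    · rw [map_mul, show PicMul.pullHom f.left (F c (tr (a ≫ f))) = F c (f ≫ tr (a ≫ f)) from pull_F _ _ _,
        ← tr_hom, ← pull_F]
      refine (congrArg (· * _) ha).trans ?_
      rw [← F_mul, hcc']
      exact map_one _
  have hfib : ∀ d, {b | F c (tr b) * c' = d}.Finite := by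
    intro d
    rcases Set.eq_empty_or_nonempty {b | F c (tr b) * c' = d} with h | ⟨b₀, hb₀⟩
    · exact h ▸ Set.finite_empty
    refine (hnd.image fun a => a * b₀).subset fun b hb => ⟨b * b₀⁻¹, ?_, inv_mul_cancel_right b b₀⟩
    have e : F c (tr b) = F c (tr b₀) := by
      have h := congrArg (· * c) ((hb : _ = d).trans (hb₀ : _ = d).symm)
      simpa only [mul_assoc, mul_comm c', hcc', mul_one] using h
    show F c (tr (b * b₀⁻¹)) = c
    refine (PicMul.isUnit_of_isInvertibleCl hc).mul_left_inj.1 ?_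
    rw [hsq, e, ← hsq, mul_inv_cancel, F_tr_one]
  have hS : Set.Finite ((fun a => a ≫ f) '' Fix A (F c f)) :=
    (Set.Finite.biUnion (finite_kernel f) fun d _ => hfib d).subset (by
      rintro _ ⟨a, ha, rfl⟩
      exact Set.mem_biUnion (hker a ha) rfl)
  refine Set.Finite.of_finite_image (f := fun a => a.left (IsLocalRing.closedPoint k)) ?_ point_injective.injOn
  refine ((hS.image fun b => b.left (IsLocalRing.closedPoint k)).preimage' fun y _ =>
    IsFinite.finite_preimage_singleton f.left y).subset ?_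
  rintro _ ⟨a, ha, rfl⟩
  exact ⟨a ≫ f, ⟨a, ha, rfl⟩, Scheme.Hom.comp_apply _ _ _⟩

/-- square powers of non-degenerate modules are non-degenerate -/
theorem finite_Fix_pow {c : PicF.Cl A.left} (hc : PicF.IsInvertibleCl c) (hnd : (Fix A c).Finite) {m : ℕ}
    (hm : 1 ≤ m) : (Fix A (c ^ (m ^ 2))).Finite := by
  haveI : IsCommMonObj A := isCommMonObj_of_isProper_of_geometricallyIntegral A
  let u := (PicMul.isUnit_of_isInvertibleCl hc).unit
  obtain ⟨D, hD, hDinv, hDeq⟩ := exists_R_pow (u := u) hc m
  haveI := AVDegLib.isMonHom_pow (A := A) m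
  haveI := AVMulN.isFinite_pow (A := A) m hm
  haveI := AVMulN.surjective_pow (A := A) m hm
  have h := finite_Fix_pullback (𝟙 A ^ m) hc hnd
  rwa [show F c (𝟙 A ^ m) = ((R u (𝟙 A ^ m) : (PicF.Cl A.left)ˣ) : PicF.Cl A.left) from rfl, hDeq, Units.val_mul,
    Units.val_pow_eq_pow_val, IsUnit.unit_spec, Fix_mul_invariant A hD hDinv] at h

/-- `[m]^* L` is a translate of `L^{m²}` -/
theorem conc_pow_iff {L : A.left.Modules} (hL : PicF.IsInvertible L) (hnd : (Fix A (PicF.cl L)).Finite)
    {m : ℕ} (hm : 1 ≤ m) {i : ℕ} (h : Conc A.left i ((Scheme.Modules.pullback (𝟙 A ^ m : A ⟶ A).left).obj L)) :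
    Conc A.left i (CohB1.tensorPow L (m ^ 2)) := by
  let u := (PicMul.isUnit_of_isInvertibleCl (⟨L, rfl, hL⟩ : PicF.IsInvertibleCl (PicF.cl L))).unit
  haveI : IsLocallyNoetherian A.left := LocallyOfFiniteType.isLocallyNoetherian A.hom
  obtain ⟨D, hD, hDinv, hDeq⟩ := exists_R_pow (u := u) ⟨L, rfl, hL⟩ m
  let LN := CohB1.tensorPow L (m ^ 2)
  have hLN : PicF.IsInvertible LN := InvX.isInvertible_tensorPow hL _
  have hndN : (Fix A (PicF.cl LN)).Finite := by
    rw [show PicF.cl LN = PicF.cl L ^ (m ^ 2) from PicMul.cl_tensorPow _ _]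
    exact finite_Fix_pow ⟨L, rfl, hL⟩ hnd hm
  obtain ⟨a, ha⟩ := exists_translate_eq A (c := PicF.cl LN) (d := (D : PicF.Cl A.left)) ⟨LN, rfl, hLN⟩ hD hndN hDinv
  have hcl : PicF.cl ((Scheme.Modules.pullback (tr a).left).obj LN) =
      PicF.cl ((Scheme.Modules.pullback (𝟙 A ^ m : A ⟶ A).left).obj L) := by
    show F (PicF.cl LN) (tr a) = F (PicF.cl L) (𝟙 A ^ m)
    rw [ha, show F (PicF.cl L) (𝟙 A ^ m) = ((R u (𝟙 A ^ m) : (PicF.Cl A.left)ˣ) : PicF.Cl A.left) from rfl, hDeq,
      Units.val_mul, Units.val_pow_eq_pow_val, PicMul.cl_tensorPow]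
    rfl
  haveI := isIso_tr (A := A) a
  have h' := h.congr (PicMul.cl_eq_iff.1 hcl).some.symm
  have hiff := fun j => subsingleton_HH_pullback_iff A.hom (tr a).left LN (AmpleVan.isCoh_invertible hLN).1 j
  exact ⟨fun j hj => (hiff j).1 (h'.1 j hj), fun hs => h'.2 ((hiff i).2 hs)⟩

/-- the index of a power prime to the characteristic -/
theorem conc_pow_of_ne_zero {L : A.left.Modules} (hL : PicF.IsInvertible L) (hnd : (Fix A (PicF.cl L)).Finite)
    {n : ℕ} (hn : 1 ≤ n) (hnk : (n : k) ≠ 0) {i : ℕ} (hi : Conc A.left i L) :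
    Conc A.left i (CohB1.tensorPow L (n ^ 2)) := by
  letI : A.left.Over (Spec (CommRingCat.of k)) := ⟨A.hom⟩
  haveI : IsProper (A.left ↘ Spec (CommRingCat.of k)) := inferInstanceAs (IsProper A.hom)
  haveI : IsIntegral A.left := GeometricallyIntegral.isIntegral_of_subsingleton A.hom
  haveI : IsNoetherian A.left := CurveCohLib.isNoetherian_of_proper (k := k)
  haveI : IsCommMonObj A := isCommMonObj_of_isProper_of_geometricallyIntegral A
  obtain ⟨g, hg⟩ : ∃ g : ℕ, topologicalKrullDim A.left = g :=
    ⟨_, VarDim.topologicalKrullDim_eq_deg_genericPoint A.hom⟩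
  let q : A ⟶ A := 𝟙 A ^ n
  haveI : IsMonHom q := AVDegLib.isMonHom_pow (A := A) n
  haveI : IsFinite q.left := AVMulN.isFinite_pow (A := A) n hn
  haveI : Surjective q.left := AVMulN.surjective_pow (A := A) n hn
  haveI : Flat q.left := AVDegLib.flat_pow (A := A) n hn
  haveI : LocallyOfFinitePresentation q.left := AVDegLib.lfp_endo q
  have hd : ∀ y : A.left, Scheme.Hom.finrank q.left y = n ^ (2 * g) := fun y => by
    have h := AVDegLib.finrank_zpow (A := A) hg (n : ℤ) (by exact_mod_cast (show n ≠ 0 by omega)) y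
    rw [Int.natAbs_natCast] at h
    rw [← h, zpow_natCast]
  have hu : IsUnit ((n ^ (2 * g) : ℕ) : Γ(A.left, ⊤)) := by
    have hk : IsUnit ((n ^ (2 * g) : ℕ) : k) := by
      rw [isUnit_iff_ne_zero, Nat.cast_pow]
      exact pow_ne_zero _ hnk
    have := hk.map ((Scheme.ΓSpecIso (CommRingCat.of k)).inv ≫ A.hom.appTop).hom
    rwa [map_natCast] at this
  obtain ⟨i', hi'⟩ := exists_conc A (PicClLib.isInvertible_pullback q.left hL)
    (finite_Fix_pullback q ⟨L, rfl, hL⟩ hnd)
  have : i' = i := by
    by_contra hne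
    exact hi.2 (subsingleton_HH_of_pullback (k := k) q.left (Over.w q)
      (H23.CoverPush.isFinLocFreeOfRank_push_of_isCover q.left ⟨⟨inferInstance, inferInstance, inferInstance⟩, hd⟩)
      hu hL i (hi'.1 i fun h => hne h.symm))
  exact conc_pow_iff hL hnd hn (this ▸ hi')

/-- The index is invariant under isogenies. -/
theorem conc_pullback (f : A ⟶ B) [IsMonHom f] [IsFinite f.left] [Flat f.left] [Surjective f.left]
    {L : B.left.Modules} (hL : PicF.IsInvertible L) (hnd : (Fix B (PicF.cl L)).Finite) {i : ℕ}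
    (hi : Conc B.left i L) : Conc A.left i ((Scheme.Modules.pullback f.left).obj L) := by
  letI : A.left.Over (Spec (CommRingCat.of k)) := ⟨A.hom⟩
  letI : B.left.Over (Spec (CommRingCat.of k)) := ⟨B.hom⟩
  haveI : IsProper (A.left ↘ Spec (CommRingCat.of k)) := inferInstanceAs (IsProper A.hom)
  haveI : IsProper (B.left ↘ Spec (CommRingCat.of k)) := inferInstanceAs (IsProper B.hom)
  haveI : IsIntegral A.left := GeometricallyIntegral.isIntegral_of_subsingleton A.hom
  haveI : IsIntegral B.left := GeometricallyIntegral.isIntegral_of_subsingleton B.hom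
  haveI : IsNoetherian A.left := CurveCohLib.isNoetherian_of_proper (k := k)
  haveI : IsNoetherian B.left := CurveCohLib.isNoetherian_of_proper (k := k)
  obtain ⟨g, hg⟩ : ∃ g : ℕ, topologicalKrullDim B.left = g :=
    ⟨_, VarDim.topologicalKrullDim_eq_deg_genericPoint B.hom⟩
  let fL := (Scheme.Modules.pullback f.left).obj L
  have hfL : PicF.IsInvertible fL := PicClLib.isInvertible_pullback _ hL
  have hndA : (Fix A (PicF.cl fL)).Finite := finite_Fix_pullback f ⟨L, rfl, hL⟩ hnd
  obtain ⟨i', hi'⟩ := exists_conc A hfL hndA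
  suffices h : i' = i from h ▸ hi'
  by_contra hne
  -- `f_* O` is free of positive rank over an open set
  haveI : LocallyOfFinitePresentation f.left := by
    haveI : IsLocallyNoetherian A.left := LocallyOfFiniteType.isLocallyNoetherian A.hom
    haveI : LocallyOfFinitePresentation A.hom := by infer_instance
    haveI : LocallyOfFinitePresentation (f.left ≫ B.hom) := by rw [Over.w f]; infer_instance
    exact S12442.locallyOfFinitePresentation_of_comp f.left B.hom
  let P := (Scheme.Modules.pushforward f.left).obj (Coh.structureModule A.left)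
  have hPc : Coh.IsCoh P := isCoh_push_of_finite f.left QCoh.isCoh_structureModule'
  let d := Scheme.Hom.finrank f.left (genericPoint B.left)
  obtain ⟨U, hηU, ⟨e⟩⟩ : ∃ U : B.left.Opens, genericPoint B.left ∈ U ∧
      Nonempty (P.restrict U.ι ≅ FlatMod.freeMod (U : Scheme.{u}) d) := by
    exact (H23.CoverPush.isFinLocFreeOfRank_push_of_isCover f.left ⟨⟨inferInstance, inferInstance, inferInstance⟩,
      fun y => (Scheme.Hom.isLocallyConstant_finrank f.left).apply_eq_of_preconnectedSpace y _⟩) (genericPoint B.left)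
  have hd : 0 < d := (Scheme.Hom.one_le_finrank_iff_surjective f.left).2 inferInstance _
  obtain ⟨C, hC⟩ := Growth.exists_bound_of_free k (X := B.left) (g := g) (L := L)
    (by rw [hg]; exact_mod_cast g.lt_succ_self) hL hPc hηU hd e i
  obtain ⟨n, hn, hnk, hbig⟩ : ∃ n : ℕ, 1 ≤ n ∧ (n : k) ≠ 0 ∧ C * 2 ^ g < n := by
    obtain ⟨q, hq, hqk⟩ : ∃ q : ℕ, 2 ≤ q ∧ (q : k) ≠ 0 := by
      by_cases h : ((2 : ℕ) : k) = 0
      · refine ⟨3, by norm_num, fun h3 => one_ne_zero (α := k) ?_⟩
        have : ((3 : ℕ) : k) - ((2 : ℕ) : k) = 1 := by norm_num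
        rw [h, h3, sub_zero] at this
        exact this.symm
      · exact ⟨2, le_rfl, h⟩
    exact ⟨q ^ (C * 2 ^ g + 1), Nat.one_le_pow _ _ (by omega), by rw [Nat.cast_pow]; exact pow_ne_zero _ hqk,
      (Nat.lt_succ_self _).trans (Nat.lt_pow_self (by omega))⟩
  let N := n ^ 2
  have hB := conc_pow_of_ne_zero hL hnd hn hnk hi
  let LN := CohB1.tensorPow L N
  have hLN : PicF.IsInvertible LN := InvX.isInvertible_tensorPow hL N
  -- the twists of `f_* O` have no cohomology in degree `i`
  have hA : Subsingleton (Coh.HH A.left ((Scheme.Modules.pullback f.left).obj LN) i) := by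
    refine QCoh.subsingleton_HH_of_iso (PicMul.cl_eq_iff.1 ?_).some i
      ((conc_pow_of_ne_zero hfL hndA hn hnk hi').1 i fun h => hne h.symm)
    show _ = PicMul.pullHom f.left (PicF.cl LN)
    rw [PicMul.cl_tensorPow, PicMul.cl_tensorPow, map_pow]
    rfl
  have hPN : Growth.hf k i L P N = 0 := by
    obtain ⟨eT⟩ := nonempty_tensor_push f.left (Coh.structureModule A.left)
      (H23.PullPush.isFinLocFree_of_isInvertible hLN)
    let M := CohB1.tensorMod ((Scheme.Modules.pullback f.left).obj LN) (Coh.structureModule A.left)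
    have hM : Subsingleton (Coh.HH A.left M i) :=
      QCoh.subsingleton_HH_of_iso ((CurveTensor.structureTensorIso _).symm ≪≫ CurveTensor.commIso _ _) i hA
    have hMq : Coh.IsQCoh M :=
      (AmpleVan.isCoh_invertible (InvX.isInvertible_tensorMod (PicClLib.isInvertible_pullback _ hLN)
        CurveDeg.isInvertible_structureModule)).1
    obtain ⟨eH⟩ := PnCoh.exists_linearEquiv_push k f.left (Over.w f) hMq i
    haveI : Subsingleton (Coh.HH B.left (ShStab.twist B.left L P N) i) := by
      let t := CurveTensor.commIso P LN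
      exact QCoh.subsingleton_HH_of_iso (t ≪≫ eT).symm i eH.symm.toEquiv.subsingleton
    exact Module.finrank_zero_of_subsingleton
  -- those of `O` grow like `N ^ g`
  haveI := S0002.result k B.left L (AmpleVan.isCoh_invertible hL) i
  haveI : Nontrivial (Coh.HH B.left L i) := not_subsingleton_iff_nontrivial.1 hi.2
  have hpos : 1 ≤ Module.finrank k (Coh.HH B.left L i) := Module.finrank_pos
  have hone : ∀ {M : B.left.Modules}, Conc B.left i M →
      chi B (PicF.cl M) = (-1) ^ i * (Module.finrank k (Coh.HH B.left M i) : ℤ) := by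
    intro M hM
    rw [chi_cl]
    refine (finsum_eq_single _ i fun j hj => ?_)
    haveI := hM.1 j hj
    simp [Module.finrank_zero_of_subsingleton]
  have hO : N ^ g ≤ Growth.hf k i L (Coh.structureModule B.left) N := by
    show N ^ g ≤ Growth.hdim k i _
    refine le_of_le_of_eq ?_ (Growth.hdim_congr k (CurveTensor.structureTensorIso LN)
      (Growth.isCoh_twist k hL QCoh.isCoh_structureModule' N) (AmpleVan.isCoh_invertible hLN) i).symm
    let u := (PicMul.isUnit_of_isInvertibleCl (⟨L, rfl, hL⟩ : PicF.IsInvertibleCl (PicF.cl L))).unit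
    have h := chi_zpow hg (u := u) ⟨L, rfl, hL⟩ (N : ℤ)
    rw [zpow_natCast, Units.val_pow_eq_pow_val, IsUnit.unit_spec, ← PicMul.cl_tensorPow, hone hB, hone hi,
      mul_left_comm] at h
    have h2 := mul_left_cancel₀ (pow_ne_zero _ (by norm_num)) h
    have h3 : Module.finrank k (Coh.HH B.left LN i) = N ^ g * Module.finrank k (Coh.HH B.left L i) := by
      exact_mod_cast h2
    show N ^ g ≤ Module.finrank k (Coh.HH B.left LN i)
    rw [h3]
    exact Nat.le_mul_of_pos_right _ hpos
  have h := hO.trans ((hC N).trans_eq (by rw [hPN, zero_add]))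
  have hN1 : 1 ≤ N := Nat.one_le_pow _ _ hn
  cases g with
  | zero => simp [Growth.pw] at h
  | succ g =>
    have h1 : (N + 1) ^ g ≤ 2 ^ g * N ^ g := by
      rw [← mul_pow]
      exact Nat.pow_le_pow_left (by omega) g
    have h2 : N * N ^ g ≤ C * 2 ^ g * N ^ g := by
      rw [← pow_succ', mul_assoc]
      exact h.trans (Nat.mul_le_mul_left C h1)
    have h3 := Nat.le_of_mul_le_mul_right h2 (Nat.pow_pos hN1)
    have h4 : C * 2 ^ g ≤ C * 2 ^ (g + 1) := Nat.mul_le_mul_left C (Nat.pow_le_pow_right (by omega) g.le_succ)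
    have h5 : n ≤ N := Nat.le_self_pow two_ne_zero n
    omega

/-- The index of the square powers. -/
theorem conc_tensorPow {L : A.left.Modules} (hL : PicF.IsInvertible L) (hnd : (Fix A (PicF.cl L)).Finite)
    {m : ℕ} (hm : 1 ≤ m) {i : ℕ} (hi : Conc A.left i L) : Conc A.left i (CohB1.tensorPow L (m ^ 2)) := by
  haveI : IsCommMonObj A := isCommMonObj_of_isProper_of_geometricallyIntegral A
  haveI := AVDegLib.isMonHom_pow (A := A) m
  haveI := AVMulN.isFinite_pow (A := A) m hm
  haveI := AVMulN.surjective_pow (A := A) m hm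
  haveI := AVDegLib.flat_pow (A := A) m hm
  exact conc_pow_iff hL hnd hm (conc_pullback (𝟙 A ^ m) hL hnd hi)

end Groth.Agent.AVEuler

end
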