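import Groth.Agent.AVEuler.Split
import Groth.Agent.AVEuler.Point
import Groth.Agent.H23.AlbFormal
import Groth.Agent.H23.CoverPush

/-! Finite flat maps between abelian varieties split themselves. -/

noncomputable section

set_option autoImplicit false
set_option linter.style.haveILetI false
set_option backward.isDefEq.respectTransparency false
set_option backward.isDefEq.respectTransparency.types false

universe u

open CategoryTheory CategoryTheory.Limits AlgebraicGeometry MonoidalCategory CartesianMonoidalCategory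
open scoped MonObj

attribute [-instance] CategoryTheory.catToReflQuiver

namespace Groth.Agent.AVEuler

variable {k : Type u} [Field k] {X Y : Over (Spec (CommRingCat.of k))}
  [GrpObj X] [IsProper X.hom] [GeometricallyIntegral X.hom] [GrpObj Y] [IsSeparated Y.hom]

/-- the fibre of `f` through the origin -/
abbrev fibre (f : X ⟶ Y) : Over (Spec (CommRingCat.of k)) :=
  Over.mk (pullback.snd f.left ((η[X] ≫ f).left : Spec (CommRingCat.of k) ⟶ Y.left))

omit [IsProper X.hom] [GeometricallyIntegral X.hom] [IsSeparated Y.hom] [GrpObj Y] in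
theorem fibre_w (f : X ⟶ Y) :
    pullback.fst f.left ((η[X] ≫ f).left : Spec (CommRingCat.of k) ⟶ Y.left) ≫ X.hom = (fibre f).hom := by
  have hy : ((η[X] ≫ f).left : Spec (CommRingCat.of k) ⟶ Y.left) ≫ Y.hom = 𝟙 _ := Over.w (η[X] ≫ f)
  rw [← Over.w f, ← Category.assoc, pullback.condition, Category.assoc, hy]
  exact Category.comp_id _

/-- the inclusion of the fibre -/
abbrev fibreι (f : X ⟶ Y) : fibre f ⟶ X := Over.homMk (pullback.fst _ _) (fibre_w f)

/-- the kernel pair of a map from an abelian variety to a group is the product with a fibre -/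
theorem isPullback_shift (f : X ⟶ Y) :
    IsPullback (fst X (fibre f) * (snd X (fibre f) ≫ fibreι f)).left (fst X (fibre f)).left f.left f.left := by
  let y : 𝟙_ (Over (Spec (CommRingCat.of k))) ⟶ Y := η[X] ≫ f
  let h : X ⟶ Y := f * (toUnit X ≫ y)⁻¹
  have hh : η[X] ≫ h = η[Y] := by
    rw [MonObj.comp_mul, GrpObj.comp_inv, ← Category.assoc, toUnit_unique (η[X] ≫ toUnit X) (𝟙 _), Category.id_comp]
    show y * y⁻¹ = η[Y]
    rw [mul_inv_cancel, MonObj.one_eq_one]
  haveI : IsMonHom h := H23.AlbFormal.isMonHom_of_one h hh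
  have hf : ∀ {T : Over (Spec (CommRingCat.of k))} (a : T ⟶ X), a ≫ f = (a ≫ h) * (toUnit T ≫ y) := fun {T} a => by
    show a ≫ f = (a ≫ (f * (toUnit X ≫ y)⁻¹)) * _
    rw [MonObj.comp_mul, GrpObj.comp_inv, ← Category.assoc a, toUnit_unique (a ≫ toUnit X) (toUnit T),
      inv_mul_cancel_right]
  have hK : fibreι f ≫ f = toUnit (fibre f) ≫ y := by
    apply Over.OverMorphism.ext
    exact pullback.condition
  have hKh : fibreι f ≫ h = 1 := by
    have := hf (fibreι f)
    rwa [hK, right_eq_mul] at this
  let μ' := fst X (fibre f) * (snd X (fibre f) ≫ fibreι f)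
  have hw : μ' ≫ f = fst X (fibre f) ≫ f := by
    rw [hf, hf, MonObj.mul_comp, Category.assoc, hKh, MonObj.comp_one, mul_one]
  have key : ∀ (s : PullbackCone f.left f.left), ∃ l : s.pt ⟶ (X ⊗ fibre f).left,
      (l ≫ μ'.left = s.fst ∧ l ≫ (fst X (fibre f)).left = s.snd) ∧
      ∀ m : s.pt ⟶ (X ⊗ fibre f).left, m ≫ μ'.left = s.fst → m ≫ (fst X (fibre f)).left = s.snd → m = l := by
    intro s
    let T : Over (Spec (CommRingCat.of k)) := Over.mk (s.snd ≫ X.hom)
    let b : T ⟶ X := Over.homMk s.snd rfl
    let a : T ⟶ X := Over.homMk s.fst (by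
      show s.fst ≫ X.hom = s.snd ≫ X.hom
      rw [← Over.w f, ← Category.assoc, s.condition, Category.assoc])
    have hab : a ≫ f = b ≫ f := Over.OverMorphism.ext s.condition
    have hh' : a ≫ h = b ≫ h := by
      rw [hf, hf] at hab
      exact mul_right_cancel hab
    have hc : (b⁻¹ * a) ≫ f = toUnit T ≫ y := by
      rw [hf, MonObj.mul_comp, GrpObj.inv_comp, hh', inv_mul_cancel, one_mul]
    let c : T ⟶ fibre f := Over.homMk (pullback.lift (b⁻¹ * a).left T.hom (congrArg CommaMorphism.left hc))
      (pullback.lift_snd _ _ _)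
    have hcι : c ≫ fibreι f = b⁻¹ * a := Over.OverMorphism.ext (pullback.lift_fst _ _ _)
    refine ⟨(lift b c).left, ⟨?_, ?_⟩, fun m hm₁ hm₂ => ?_⟩
    · show (lift b c ≫ μ').left = a.left
      rw [MonObj.comp_mul, lift_fst, lift_snd_assoc, hcι, mul_inv_cancel_left]
    · show (lift b c ≫ fst X (fibre f)).left = b.left
      rw [lift_fst]
    · have hmT : m ≫ (X ⊗ fibre f).hom = T.hom := by
        show m ≫ (X ⊗ fibre f).hom = s.snd ≫ X.hom
        rw [← Over.w (fst X (fibre f)), ← Category.assoc, hm₂]
      let m' : T ⟶ X ⊗ fibre f := Over.homMk m hmT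
      have e1 : m' ≫ μ' = a := Over.OverMorphism.ext hm₁
      have e2 : m' ≫ fst X (fibre f) = b := Over.OverMorphism.ext hm₂
      have e3 : m' ≫ snd X (fibre f) = c := by
        apply Over.OverMorphism.ext
        apply pullback.hom_ext
        · have e4 : (m' ≫ snd X (fibre f)) ≫ fibreι f = c ≫ fibreι f := by
            rw [MonObj.comp_mul, e2, ← Category.assoc] at e1
            rw [hcι, ← e1, inv_mul_cancel_left]
          exact congrArg CommaMorphism.left e4
        · exact (Over.w (m' ≫ snd X (fibre f))).trans (Over.w c).symm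
      show m'.left = _
      rw [show m' = lift b c from CartesianMonoidalCategory.hom_ext _ _ (by rw [e2, lift_fst]) (by rw [e3, lift_snd])]
  choose l hl hu using key
  exact IsPullback.of_isLimit (c := PullbackCone.mk μ'.left (fst X (fibre f)).left (congrArg CommaMorphism.left hw))
    (PullbackCone.IsLimit.mk _ l (fun s => (hl s).1) (fun s => (hl s).2) hu)

/-- Euler characteristics under finite flat maps of abelian varieties. -/
theorem euler_pullback_isogeny [IsProper Y.hom] (f : X ⟶ Y) [IsFinite f.left] [Flat f.left] (d : ℕ)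
    (hd : ∀ y : ↥Y.left, Scheme.Hom.finrank f.left y = d) {F : Y.left.Modules} (hF : Coh.IsCoh F) :
    @Curv2.euler k _ X.left ⟨X.hom⟩ ((Scheme.Modules.pullback f.left).obj F) =
      (d : ℤ) * @Curv2.euler k _ Y.left ⟨Y.hom⟩ F := by
  letI : X.left.Over (Spec (CommRingCat.of k)) := ⟨X.hom⟩
  letI : Y.left.Over (Spec (CommRingCat.of k)) := ⟨Y.hom⟩
  haveI : IsProper (X.left ↘ Spec (CommRingCat.of k)) := inferInstanceAs (IsProper X.hom)
  haveI : IsProper (Y.left ↘ Spec (CommRingCat.of k)) := inferInstanceAs (IsProper Y.hom)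
  haveI : IsIntegral X.left := GeometricallyIntegral.isIntegral_of_subsingleton X.hom
  haveI : IsNoetherian Y.left := CurveCohLib.isNoetherian_of_proper (k := k)
  haveI : LocallyOfFinitePresentation f.left := by
    rw [HasRingHomProperty.iff_appLE (P := @LocallyOfFinitePresentation)]
    intro U V e
    have hU : IsNoetherianRing Γ(Y.left, U) := IsLocallyNoetherian.component_noetherian U
    exact (RingHom.FinitePresentation.of_finiteType).1
      (HasRingHomProperty.appLE @LocallyOfFiniteType f.left inferInstance U V e)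
  let P := (Scheme.Modules.pushforward f.left).obj (Coh.structureModule X.left)
  have hP : FlatMod.IsFinLocFreeOfRank d P :=
    H23.CoverPush.isFinLocFreeOfRank_push_of_isCover f.left ⟨⟨inferInstance, inferInstance, inferInstance⟩, hd⟩
  have hd0 : d ≠ 0 := by
    intro h0
    obtain ⟨U, hU, hy, ⟨e⟩⟩ := H23.CoverPush.crit_of_isFinLocFreeOfRank_push f.left (h0 ▸ hP)
      (f.left (genericPoint X.left))
    haveI : Subsingleton Γ(X.left, f.left ⁻¹ᵁ U) := e.toEquiv.subsingleton
    exact not_nontrivial _ ((X.left.presheaf.germ (f.left ⁻¹ᵁ U) (genericPoint X.left) hy).hom.domain_nontrivial)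
  refine euler_pullback_of_selfSplit k f.left (Over.w f) hd0 hP ?_ hF
  let K := fibre f
  haveI : IsFinite K.hom := MorphismProperty.pullback_snd f.left _ inferInstance
  haveI : Coh.IsQCoh (Coh.structureModule X.left) := QCoh.isQCoh_structureModule
  haveI : Coh.IsQCoh (Coh.structureModule K.left) := QCoh.isQCoh_structureModule
  obtain ⟨e1⟩ := S0017.result f.left f.left _ _ (isPullback_shift f) (Coh.structureModule X.left)
  have sq : IsPullback (snd X K).left (fst X K).left K.hom X.hom := (IsPullback.of_hasPullback X.hom K.hom).flip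
  obtain ⟨e2⟩ := S0017.result K.hom X.hom _ _ sq (Coh.structureModule K.left)
  have hK : Coh.IsCoh ((Scheme.Modules.pushforward K.hom).obj (Coh.structureModule K.left)) := by
    haveI : IsLocallyNoetherian K.left := LocallyOfFiniteType.isLocallyNoetherian K.hom
    exact isCoh_push_of_finite K.hom QCoh.isCoh_structureModule'
  obtain ⟨n, ⟨e3⟩⟩ := exists_free _ hK
  let e : (Scheme.Modules.pullback f.left).obj P ≅ FlatMod.freeMod X.left n :=
    e1 ≪≫ (Scheme.Modules.pushforward (fst X K).left).mapIso
      ((PicClLib.nonempty_pullback_structureModule _).some ≪≫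
        (PicClLib.nonempty_pullback_structureModule (snd X K).left).some.symm) ≪≫
    e2.symm ≪≫ (Scheme.Modules.pullback X.hom).mapIso e3 ≪≫ KFlatLib.pullFreeIso X.hom n
  have hn : FlatMod.IsFinLocFreeOfRank n (FlatMod.freeMod X.left n) := fun x =>
    ⟨⊤, trivial, ⟨QCoh.freeModRestrict _ n⟩⟩
  have hdr : FlatMod.IsFinLocFreeOfRank d ((Scheme.Modules.pullback f.left).obj P) := fun x => by
    obtain ⟨U, hx, ⟨g⟩⟩ := hP (f.left.base x)
    exact ⟨f.left ⁻¹ᵁ U, hx, ⟨((H23.PullPush.pullRestrictIso f.left U).app P).symm ≪≫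
      (Scheme.Modules.pullback (f.left ∣_ U)).mapIso g ≪≫ KFlatLib.pullFreeIso _ d⟩⟩
  obtain rfl : d = n := by
    obtain ⟨p⟩ := CurveTensor.exists_basis_stalk hdr (genericPoint X.left)
    obtain ⟨q⟩ := CurveTensor.exists_basis_stalk (n := n) (fun x => by
      obtain ⟨U, hx, ⟨i⟩⟩ := hn x
      exact ⟨U, hx, ⟨(Scheme.Modules.restrictFunctor U.ι).mapIso e ≪≫ i⟩⟩) (genericPoint X.left)
    simpa using Fintype.card_congr (p.indexEquiv q)
  exact ⟨e⟩

end Groth.Agent.AVEuler

end
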