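import Groth.Agent.AVEuler.Box
import Groth.Agent.AVEuler.Corner
import Groth.Agent.KRRReg.BaseVan

/-!
# Corner terms of the Künneth formula for external products of invertible modules
-/

noncomputable section

set_option autoImplicit false
set_option backward.isDefEq.respectTransparency false
set_option linter.style.haveILetI false
set_option maxHeartbeats 1000000

universe u

open TopologicalSpace
open CategoryTheory CategoryTheory.Limits AlgebraicGeometry MonoidalCategory CartesianMonoidalCategory

attribute [-instance] CategoryTheory.catToReflQuiver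

namespace Groth.Agent.AVEuler

open scoped Groth.Agent.H23.PicMul

variable {k : Type u} [Field k]

/-- a vanishing direct image on the point kills the cohomology -/
theorem subsingleton_HH_of_isZero_Rpush (X : Over (Spec (CommRingCat.of k))) [IsProper X.hom] {L : X.left.Modules}
    (hL : Coh.IsQCoh L) (i : ℕ) (hz : IsZero ((Coh.Rpush X.hom i).obj L)) : Subsingleton (Coh.HH X.left L i) := by
  haveI : IsLocallyNoetherian X.left := LocallyOfFiniteType.isLocallyNoetherian X.hom
  let U : X.left.Opens := X.hom ⁻¹ᵁ ⊤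
  letI := QCoh.modHH (QCoh.rhoV X.hom ⊤) (L.restrict U.ι) i
  obtain ⟨e⟩ := QCoh.nonempty_sections_HH (f := X.hom) hL (isAffineOpen_top (Spec (CommRingCat.of k))) i
  haveI : Subsingleton Γ((Coh.Rpush X.hom i).obj L, ⊤) := subsingleton_of_forall_eq 0 fun z => by
    have := congr(($((IsZero.iff_id_eq_zero _).1 hz)).app ⊤ z)
    exact this
  have hU : Subsingleton (Coh.HH (U : Scheme.{u}) (L.restrict U.ι) i) := e.symm.toEquiv.subsingleton
  haveI : IsIso U.ι := by
    rw [show U.ι = (Scheme.topIso X.left).hom from rfl]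
    infer_instance
  exact (AVVanish.subsingleton_HH_pullback_iff X.hom U.ι L hL i).1
    (QCoh.subsingleton_HH_of_iso ((Scheme.Modules.restrictFunctorIsoPullback U.ι).app L) i hU)

theorem subsingleton_H_of_iso {Z : TopCat.{u}} {P Q : CohTop.Ab Z} (e : P ≅ Q) (n : ℕ)
    (h : Subsingleton (CohTop.H Q n)) : Subsingleton (CohTop.H P n) := by
  refine subsingleton_of_forall_eq 0 fun x => ?_
  have hx : Sheaf.H.map e.inv n (Sheaf.H.map e.hom n x) = x := by
    rw [← Sheaf.H.map_comp_apply, e.hom_inv_id, Sheaf.H.map_id_apply]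
  rw [← hx, @Subsingleton.elim _ h (Sheaf.H.map e.hom n x) 0, map_zero]

variable (X Y : Over (Spec (CommRingCat.of k))) [IsProper X.hom] [IsProper Y.hom]
  {E : X.left.Modules} {G : Y.left.Modules}

/-- The functor computing the higher direct images of an exterior product. -/
abbrev boxT (E : X.left.Modules) : (Spec (CommRingCat.of k)).Modules ⥤ X.left.Modules :=
  Scheme.Modules.pullback X.hom ⋙ DCoh.tensorBi.obj E

/-- The higher direct images of an exterior product. -/
theorem nonempty_Rpush_box (hE : PicF.IsInvertible E) (hG : PicF.IsInvertible G) (i : ℕ) :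
    Nonempty ((Coh.Rpush (fst X Y).left i).obj (CohB1.tensorMod ((Scheme.Modules.pullback (fst X Y).left).obj E)
      ((Scheme.Modules.pullback (snd X Y).left).obj G)) ≅ (boxT X E).obj ((Coh.Rpush Y.hom i).obj G)) := by
  haveI : Flat X.hom := inferInstance
  let p := (fst X Y).left
  let q := (snd X Y).left
  have sq : IsPullback q p Y.hom X.hom := (IsPullback.of_hasPullback X.hom Y.hom).flip
  haveI := PPSheaf.preservesFiniteLimits_pullback X.hom
  haveI : Flat q := inferInstanceAs (Flat (pullback.snd X.hom Y.hom))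
  haveI := PPSheaf.preservesFiniteLimits_pullback q
  haveI : IsLocallyNoetherian Y.left := LocallyOfFiniteType.isLocallyNoetherian Y.hom
  haveI := CohBC.isIso_bcQ (f := Y.hom) (g := X.hom) (f' := p) (g' := q) sq G (AmpleVan.isCoh_invertible hG).1 i
  let e1 := asIso (CohBC.bcQ Y.hom X.hom p q sq.w i G)
  obtain ⟨e2⟩ := S0927.result p ((Scheme.Modules.pullback q).obj G) E (ParaFX.FlatDesc.isFinLocFree_of_invertible hE) i
  exact ⟨e2.symm ≪≫ ((DCoh.tensorBi.obj E).mapIso e1).symm⟩

instance additive_boxT (E : X.left.Modules) : (boxT X E).Additive :=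
  haveI : (DCoh.tensorBi.obj E).Additive := inferInstanceAs ((DCoh.tensorBi (X := X.left)).obj E).Additive
  inferInstanceAs (Scheme.Modules.pullback X.hom ⋙ DCoh.tensorBi.obj E).Additive

/-- a term of the second page vanishes when a factor does -/
theorem subsingleton_H_Rpush_box (hE : PicF.IsInvertible E) (hG : PicF.IsInvertible G) (i j : ℕ)
    (hij : Subsingleton (Coh.HH X.left E i) ∨ Subsingleton (Coh.HH Y.left G j)) :
    Subsingleton (CohTop.H ((CohTop.Rpush (fst X Y).left.base j).obj (Coh.toAb
      (CohB1.tensorMod ((Scheme.Modules.pullback (fst X Y).left).obj E)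
        ((Scheme.Modules.pullback (snd X Y).left).obj G)))) i) := by
  haveI : IsLocallyNoetherian Y.left := LocallyOfFiniteType.isLocallyNoetherian Y.hom
  haveI : IsProper (fst X Y).left := inferInstanceAs (IsProper (pullback.fst X.hom Y.hom))
  have hGc : Coh.IsCoh G := AmpleVan.isCoh_invertible hG
  have hR : Coh.IsCoh ((Coh.Rpush Y.hom j).obj G) :=
    QCoh.isCoh_Rpush_of_finiteness (f := Y.hom) hGc j fun A _ _ Z _ _ N hN n => S0002.result A Z N hN n
  obtain ⟨u⟩ := H23.PicMul.unit E
  let δ : (boxT X E).obj (Coh.structureModule (Spec (CommRingCat.of k))) ≅ E :=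
    (DCoh.tensorBi.obj E).mapIso (PicClLib.nonempty_pullback_structureModule X.hom).some ≪≫ u
  obtain ⟨m, φ, ψ, hsum, hid, horth⟩ := exists_free.exists_basis _ hR
  obtain ⟨e⟩ := nonempty_Rpush_box X Y hE hG j
  obtain ⟨eA⟩ := AVVanish.nonempty_toAb_Rpush (fst X Y).left _ j
  refine subsingleton_H_of_iso eA i (QCoh.subsingleton_HH_of_iso e.symm i ?_)
  rcases hij with hi | hj
  · exact PnCoh.Finite.subsingleton_HH_of_decomposition (fun _ : Fin m => E) (fun l => (boxT X E).map (ψ l) ≫ δ.hom)
      (fun l => δ.inv ≫ (boxT X E).map (φ l))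
      (by simp only [Category.assoc, Iso.hom_inv_id_assoc, ← (boxT X E).map_comp, ← (boxT X E).map_sum, hsum,
        (boxT X E).map_id])
      i (fun _ => hi)
  · exact PnCoh.Finite.subsingleton_HH_of_decomposition (fun l : Fin 0 => E) (fun l => l.elim0) (fun l => l.elim0)
      (by
        rw [Finset.univ_eq_empty, Finset.sum_empty]
        exact ((IsZero.iff_id_eq_zero _).1 ((boxT X E).map_isZero (isZero_of_subsingleton_top hR
          (subsingleton_Γ_top_of_HH Y hGc.1 j hj)))).symm) i (fun l => l.elim0)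

/-- all terms vanish -/
theorem subsingleton_HH_box (hE : PicF.IsInvertible E) (hG : PicF.IsInvertible G)
    (h : ∀ i j, Subsingleton (Coh.HH X.left E i) ∨ Subsingleton (Coh.HH Y.left G j)) (n : ℕ) :
    Subsingleton (Coh.HH (X ⊗ Y).left (CohB1.tensorMod ((Scheme.Modules.pullback (fst X Y).left).obj E)
      ((Scheme.Modules.pullback (snd X Y).left).obj G)) n) := by
  obtain ⟨e⟩ := S0494.result (fst X Y).left.base _
    (fun i j => subsingleton_H_Rpush_box X Y hE hG (i + 1) j (h _ _)) n
  haveI := subsingleton_H_Rpush_box X Y hE hG 0 n (h _ _)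
  haveI := (Sheaf.H.equiv₀ ((CohTop.Rpush (fst X Y).left.base n).obj (Coh.toAb
      (CohB1.tensorMod ((Scheme.Modules.pullback (fst X Y).left).obj E)
        ((Scheme.Modules.pullback (snd X Y).left).obj G)))) isTerminalTop).symm.toEquiv.subsingleton
  exact e.toEquiv.subsingleton

/-- extreme cohomology degrees of the factors give cohomology of the exterior product -/
theorem not_subsingleton_HH_box (hE : PicF.IsInvertible E) (hG : PicF.IsInvertible G) (a b : ℕ)
    (ha : ¬ Subsingleton (Coh.HH X.left E a)) (hb : ¬ Subsingleton (Coh.HH Y.left G b))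
    (hout : ∀ p q : ℕ, a < p → q < b → Subsingleton (Coh.HH X.left E p) ∨ Subsingleton (Coh.HH Y.left G q))
    (hin : ∀ p q : ℕ, p < a → b < q → Subsingleton (Coh.HH X.left E p) ∨ Subsingleton (Coh.HH Y.left G q)) :
    ¬ Subsingleton (Coh.HH (X ⊗ Y).left (CohB1.tensorMod ((Scheme.Modules.pullback (fst X Y).left).obj E)
      ((Scheme.Modules.pullback (snd X Y).left).obj G)) (a + b)) := by
  haveI : IsLocallyNoetherian Y.left := LocallyOfFiniteType.isLocallyNoetherian Y.hom
  haveI : IsProper (fst X Y).left := inferInstanceAs (IsProper (pullback.fst X.hom Y.hom))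
  have hGc : Coh.IsCoh G := AmpleVan.isCoh_invertible hG
  obtain ⟨u⟩ := H23.PicMul.unit E
  let δ : (boxT X E).obj (Coh.structureModule (Spec (CommRingCat.of k))) ≅ E :=
    (DCoh.tensorBi.obj E).mapIso (PicClLib.nonempty_pullback_structureModule X.hom).some ≪≫ u
  let N := CohB1.tensorMod ((Scheme.Modules.pullback (fst X Y).left).obj E)
      ((Scheme.Modules.pullback (snd X Y).left).obj G)
  show ¬ Subsingleton (CohTop.H (Coh.toAb N) (a + b))
  refine not_subsingleton_H_of_corner (fst X Y).left.base (Coh.toAb N) a b (fun h => ?_)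
    (fun i j h1 h2 => subsingleton_H_Rpush_box X Y hE hG i j (hout i j h1 h2))
    (fun i j h1 h2 => subsingleton_H_Rpush_box X Y hE hG i j (hin i j h1 h2))
  obtain ⟨eA⟩ := AVVanish.nonempty_toAb_Rpush (fst X Y).left N b
  obtain ⟨e⟩ := nonempty_Rpush_box X Y hE hG b
  have h1 : Subsingleton (Coh.HH X.left ((boxT X E).obj ((Coh.Rpush Y.hom b).obj G)) a) :=
    QCoh.subsingleton_HH_of_iso e a (subsingleton_H_of_iso eA.symm a h)
  have hR : Coh.IsCoh ((Coh.Rpush Y.hom b).obj G) :=
    QCoh.isCoh_Rpush_of_finiteness (f := Y.hom) hGc b fun A _ _ Z _ _ N hN n => S0002.result A Z N hN n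
  obtain ⟨m, φ, ψ, hsum, hid, horth⟩ := exists_free.exists_basis _ hR
  rcases Nat.eq_zero_or_pos m with rfl | hm
  · refine hb (subsingleton_HH_of_isZero_Rpush Y hGc.1 b ?_)
    rw [IsZero.iff_id_eq_zero, ← hsum, Finset.univ_eq_empty, Finset.sum_empty]
  · exact ha (KRRReg.subsingleton_HH_retract (δ.inv ≫ (boxT X E).map (φ ⟨0, hm⟩))
      ((boxT X E).map (ψ ⟨0, hm⟩) ≫ δ.hom)
      (by rw [Category.assoc, ← (boxT X E).map_comp_assoc, hid, (boxT X E).map_id, Category.id_comp,
        Iso.inv_hom_id]) a h1)

end Groth.Agent.AVEuler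

end
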