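import Groth.Agent.AVEuler.Conc
import Groth.Agent.AVEuler.Growth2
import Mathlib.Topology.Algebra.Polynomial

/-!
# A change of index gives a root

If `L` and `L ⊗ H` have different indices, the polynomial `n ↦ χ(L ⊗ H^n)` vanishes somewhere on `[0, 1]`: otherwise
the modules `L^b ⊗ H^a` for large `b` and `a ≤ b` are non-degenerate with large cohomology, and that changes too
little from `a` to `a + 1` for the index to move.
-/

noncomputable section

set_option autoImplicit false
set_option backward.isDefEq.respectTransparency false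
set_option linter.style.haveILetI false
set_option linter.unusedSectionVars false
set_option maxHeartbeats 1000000

universe u

open CategoryTheory CategoryTheory.Limits AlgebraicGeometry MonoidalCategory CartesianMonoidalCategory
open scoped MonObj

attribute [-instance] CategoryTheory.catToReflQuiver

namespace Groth.Agent.AVEuler

open H23 H23.CubeAb AVVanish AVDegPoly
open scoped Groth.Agent.H23.PicMul

variable {k : Type u} [Field k]

/-- the classes of the double twists of the structure sheaf -/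
theorem cl_twist2 {X : Scheme.{u}} (L H : X.Modules) (a b : ℕ) :
    PicF.cl (Growth.twist2 L H (Coh.structureModule X) a b) = PicF.cl L ^ a * PicF.cl H ^ b := by
  show PicF.cl (CohB1.tensorMod (CohB1.tensorMod (Coh.structureModule X) (CohB1.tensorPow L a))
    (CohB1.tensorPow H b)) = _
  rw [PicMul.cl_tensor, PicMul.cl_tensor, PicMul.cl_tensorPow, PicMul.cl_tensorPow,
    show PicF.cl (Coh.structureModule X) = (1 : PicF.Cl X) from rfl, one_mul]

/-- consecutive twists differ little -/
theorem exists_step_bound {X : Scheme.{u}} [X.Over (Spec (CommRingCat.of k))]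
    [IsProper (X ↘ Spec (CommRingCat.of k))] [IsIntegral X] {g : ℕ}
    (hg : topologicalKrullDim X < ((g + 1 : ℕ) : WithBot ℕ∞)) {L H : X.Modules} (hL : PicF.IsInvertible L)
    (hH : PicF.IsInvertible H) (j : ℕ) :
    ∃ C, ∀ a b, Growth.hf2 k j L H (Coh.structureModule X) a b ≤
      Growth.hf2 k j L H (Coh.structureModule X) a (b + 1) + C * Growth.pw g (a + b) := by
  haveI := CurveCohLib.isNoetherian_of_proper (k := k) (X := X)
  obtain ⟨U₁, hη1, e₁, he₁⟩ := InvX.exists_frame hH (genericPoint X)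
  have IH : ∀ M : X.Modules, Coh.IsCoh M → CohB1.support M ⊆ Set.univ \ U₁ → Growth.BddAll2 k g L H M := by
    intro M hM hMs
    refine Growth.bdd2_of_dim_lt k hL hH g ⟨_, isClosed_univ.sdiff U₁.2⟩ ?_ M hM hMs
    exact Growth.dim_sdiff_lt (IrreducibleSpace.isIrreducible_univ X) isClosed_univ (Set.mem_univ _) hη1
      (by rwa [(Homeomorph.Set.univ X).isHomeomorph.topologicalKrullDim_eq])
  obtain ⟨K, I, a, b, c, hK, hI, ha, hb, hc⟩ := Snapper.exists_link_frame hH he₁
  have hHc := AmpleVan.isCoh_invertible hH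
  obtain ⟨err, ⟨C, hC⟩, h⟩ := ((Growth.near2_of_isoOn k hL hH IH hK QCoh.isCoh_structureModule' (Set.subset_univ _)
      (Set.subset_univ _) a ha j).symm.trans
    (Growth.near2_of_isoOn k hL hH IH hK hI (Set.subset_univ _) (Set.subset_univ _) b hb j)).trans
    (Growth.near2_of_isoOn k hL hH IH hHc hI (Set.subset_univ _) (Set.subset_univ _) c hc j).symm
  refine ⟨C, fun p q => ?_⟩
  have hs : Growth.hf2 k j L H H p q = Growth.hf2 k j L H (Coh.structureModule X) p (q + 1) :=
    Growth.hdim_congr k (PicMul.cl_eq_iff.1 (by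
      rw [cl_twist2]
      show PicF.cl (CohB1.tensorMod (CohB1.tensorMod H (CohB1.tensorPow L p)) (CohB1.tensorPow H q)) = _
      rw [PicMul.cl_tensor, PicMul.cl_tensor, PicMul.cl_tensorPow, PicMul.cl_tensorPow, pow_succ]
      ac_rfl)).some
      (Growth.isCoh_twist k hH (Growth.isCoh_twist k hL hHc p) q)
      (Growth.isCoh_twist k hH (Growth.isCoh_twist k hL QCoh.isCoh_structureModule' p) (q + 1)) j
  have h1 := (h p q).1
  rw [hs] at h1
  exact h1.trans (Nat.add_le_add_left (hC p q) _)

variable [IsAlgClosed k] {A : Over (Spec (CommRingCat.of k))} [GrpObj A] [IsProper A.hom]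
  [GeometricallyIntegral A.hom]

/-- A change of index gives a root. -/
theorem exists_root {L H M : A.left.Modules} (hL : PicF.IsInvertible L) (hH : PicF.IsInvertible H)
    (hM : PicF.cl M = PicF.cl L * PicF.cl H) {i i' : ℕ} (hi : Conc A.left i L) (hi' : Conc A.left i' M)
    (hne : i ≠ i') (Φ : Polynomial ℚ)
    (hΦ : ∀ n : ℕ, Φ.eval (n : ℚ) =
      (@Curv2.euler k _ A.left ⟨A.hom⟩ (CohB1.tensorMod L (CohB1.tensorPow H n)) : ℚ)) :
    ∃ t : ℝ, 0 ≤ t ∧ t ≤ 1 ∧ (Φ.map (algebraMap ℚ ℝ)).eval t = 0 := by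
  by_contra hno
  push Not at hno
  letI : A.left.Over (Spec (CommRingCat.of k)) := ⟨A.hom⟩
  haveI : IsProper (A.left ↘ Spec (CommRingCat.of k)) := inferInstanceAs (IsProper A.hom)
  haveI : IsIntegral A.left := GeometricallyIntegral.isIntegral_of_subsingleton A.hom
  haveI : IsNoetherian A.left := CurveCohLib.isNoetherian_of_proper (k := k)
  obtain ⟨g, hg⟩ : ∃ g : ℕ, topologicalKrullDim A.left = g :=
    ⟨_, VarDim.topologicalKrullDim_eq_deg_genericPoint A.hom⟩
  let N : ℕ → ℕ → A.left.Modules := fun a b => Growth.twist2 L H (Coh.structureModule A.left) a b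
  have hNi : ∀ a b, PicF.IsInvertible (N a b) := fun a b =>
    InvX.isInvertible_tensorMod (InvX.isInvertible_tensorMod CurveDeg.isInvertible_structureModule
      (InvX.isInvertible_tensorPow hL a)) (InvX.isInvertible_tensorPow hH b)
  have hcongr : ∀ {P Q : A.left.Modules}, PicF.cl P = PicF.cl Q → Curv2.euler k A.left P = Curv2.euler k A.left Q :=
    fun h => Euler.euler_congr k (PicMul.cl_eq_iff.1 h).some
  -- the Euler characteristics are the homogeneous form of `Φ`
  have hhom : ∀ b a : ℕ, 0 < b →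
      (Curv2.euler k A.left (N b a) : ℚ) = (b : ℚ) ^ g * Φ.eval ((a : ℚ) / b) := by
    intro b a hb
    have hbQ : (b : ℚ) ≠ 0 := by exact_mod_cast hb.ne'
    obtain ⟨Q, -, hQ⟩ := Snapper.isPolyLt_of_dim_lt k hH (g + 1) ⟨Set.univ, isClosed_univ⟩
      (by
        show topologicalKrullDim ↥(Set.univ : Set A.left) < _
        rw [(Homeomorph.Set.univ A.left).isHomeomorph.topologicalKrullDim_eq, hg]
        exact_mod_cast g.lt_succ_self)
      (ShStab.twist A.left L (Coh.structureModule A.left) b) (Growth.isCoh_twist k hL QCoh.isCoh_structureModule' b)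
      (Set.subset_univ _)
    have e : Q = Polynomial.C ((b : ℚ) ^ g) * Φ.comp (Polynomial.C ((b : ℚ)⁻¹) * Polynomial.X) := by
      refine Polynomial.eq_of_infinite_eval_eq _ _
        ((Set.infinite_range_of_injective (f := fun n : ℕ => ((b * n : ℕ) : ℚ)) fun x y h => by
          simpa [hb.ne'] using h).mono ?_)
      rintro _ ⟨n, rfl⟩
      show Q.eval _ = _
      simp only [Polynomial.eval_mul, Polynomial.eval_C, Polynomial.eval_comp, Polynomial.eval_X]
      rw [← hQ, show ((b : ℚ))⁻¹ * ((b * n : ℕ) : ℚ) = (n : ℚ) by push_cast; field_simp, hΦ]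
      have hP : PicF.IsInvertible (CohB1.tensorMod L (CohB1.tensorPow H n)) :=
        InvX.isInvertible_tensorMod hL (InvX.isInvertible_tensorPow hH n)
      have h : Curv2.euler k A.left (N b (b * n)) =
          (b : ℤ) ^ g * Curv2.euler k A.left (CohB1.tensorMod L (CohB1.tensorPow H n)) := by
        rw [← euler_tensorPow A hg hP b]
        exact hcongr (by
          rw [cl_twist2, PicMul.cl_tensorPow, PicMul.cl_tensor, PicMul.cl_tensorPow, mul_pow, ← pow_mul,
            mul_comm n b])
      show ((Curv2.euler k A.left (N b (b * n)) : ℤ) : ℚ) = _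
      exact_mod_cast h
    show Snapper.χ k H (ShStab.twist A.left L (Coh.structureModule A.left) b) a = _
    rw [hQ a, e]
    simp only [Polynomial.eval_mul, Polynomial.eval_C, Polynomial.eval_comp, Polynomial.eval_X]
    rw [div_eq_inv_mul]
  -- a lower bound
  obtain ⟨δ, hδ, hδle⟩ : ∃ δ : ℝ, 0 < δ ∧ ∀ t ∈ Set.Icc (0 : ℝ) 1, δ ≤ |(Φ.map (algebraMap ℚ ℝ)).eval t| := by
    obtain ⟨t₀, ht₀, hmin⟩ := (isCompact_Icc (a := (0 : ℝ)) (b := 1)).exists_isMinOn
      (Set.nonempty_Icc.2 zero_le_one) ((Φ.map (algebraMap ℚ ℝ)).continuous.abs.continuousOn)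
    exact ⟨_, abs_pos.2 (hno t₀ ht₀.1 ht₀.2), fun t ht => hmin ht⟩
  obtain ⟨C, hstep⟩ := exists_step_bound (k := k) (g := g) (by rw [hg]; exact_mod_cast g.lt_succ_self) hL hH i
  obtain ⟨b, hb⟩ := exists_nat_gt ((C : ℝ) * 3 ^ g / δ)
  have hb0 : 0 < b := by
    by_contra h
    rw [Nat.le_zero.1 (not_lt.1 h), Nat.cast_zero] at hb
    exact absurd hb (not_lt.2 (by positivity))
  let f : ℕ → ℕ := fun a => Growth.hdim k i (N b a)
  -- the modules `L^b ⊗ H^a` are non-degenerate, with large cohomology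
  have hlarge : ∀ a, a ≤ b → ∀ j, Conc A.left j (N b a) →
      (b : ℝ) ^ g * δ ≤ (Growth.hdim k j (N b a) : ℝ) := by
    intro a ha j hj
    have hbR : (0 : ℝ) < b := by exact_mod_cast hb0
    have h1 := hhom b a hb0
    rw [euler_of_conc hj] at h1
    have h2 : ((-1 : ℝ) ^ j * (Growth.hdim k j (N b a) : ℝ)) =
        (b : ℝ) ^ g * (Φ.map (algebraMap ℚ ℝ)).eval ((a : ℝ) / b) := by
      have := congrArg (algebraMap ℚ ℝ) h1
      rw [map_mul, map_pow, map_natCast] at this
      rw [show ((a : ℝ) / b) = algebraMap ℚ ℝ ((a : ℚ) / b) by simp, Polynomial.eval_map_apply]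
      refine Eq.trans ?_ this
      simp
    have h3 := congrArg abs h2
    rw [abs_mul, abs_pow, abs_neg, abs_one, one_pow, one_mul, Nat.abs_cast, abs_mul,
      abs_of_pos (pow_pos hbR g)] at h3
    rw [h3]
    refine mul_le_mul_of_nonneg_left (hδle _ ⟨by positivity, ?_⟩) (by positivity)
    rw [div_le_one hbR]
    exact_mod_cast ha
  have hnd : ∀ a, a ≤ b → (Fix A (PicF.cl (N b a))).Finite := by
    intro a ha
    refine finite_Fix_of_euler_ne_zero (hNi b a) fun h0 => ?_
    have h := hhom b a hb0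
    rw [h0, Int.cast_zero] at h
    rcases mul_eq_zero.1 h.symm with h | h
    · exact pow_ne_zero g (by exact_mod_cast hb0.ne') h
    refine hno ((a : ℝ) / b) (by positivity) ?_ ?_
    · rw [div_le_one (by exact_mod_cast hb0)]
      exact_mod_cast ha
    · rw [show ((a : ℝ) / b) = algebraMap ℚ ℝ ((a : ℚ) / b) by simp, Polynomial.eval_map_apply, h, map_zero]
  -- the index stays
  have hsmall : (C * Growth.pw g (2 * b) : ℝ) < (b : ℝ) ^ g * δ := by
    have hbR : (1 : ℝ) ≤ b := by exact_mod_cast hb0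
    rw [div_lt_iff₀ hδ] at hb
    cases hg' : g with
    | zero =>
      simp only [Growth.pw, Nat.cast_zero, mul_zero, pow_zero, one_mul]
      exact hδ
    | succ e =>
      have h1 : (Growth.pw (e + 1) (2 * b) : ℝ) ≤ 3 ^ g * (b : ℝ) ^ e := by
        show (((2 * b + 1) ^ e : ℕ) : ℝ) ≤ _
        push_cast
        calc (2 * (b : ℝ) + 1) ^ e ≤ (3 * (b : ℝ)) ^ e := pow_le_pow_left₀ (by positivity) (by linarith) e
          _ = 3 ^ e * (b : ℝ) ^ e := mul_pow _ _ _
          _ ≤ 3 ^ g * (b : ℝ) ^ e :=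
            mul_le_mul_of_nonneg_right (pow_le_pow_right₀ (by norm_num) (by omega)) (by positivity)
      calc (C : ℝ) * Growth.pw (e + 1) (2 * b) ≤ C * (3 ^ g * (b : ℝ) ^ e) :=
            mul_le_mul_of_nonneg_left h1 (Nat.cast_nonneg _)
        _ = (C * 3 ^ g) * (b : ℝ) ^ e := by ring
        _ < (b * δ) * (b : ℝ) ^ e := mul_lt_mul_of_pos_right hb (by positivity)
        _ = (b : ℝ) ^ (e + 1) * δ := by ring
  have key : ∀ a, a ≤ b → Conc A.left i (N b a) := by
    intro a
    induction a with
    | zero =>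
      intro _
      exact (conc_tensorPow_any hL hi hb0).congr (PicMul.cl_eq_iff.1 (by
        rw [PicMul.cl_tensorPow, cl_twist2, pow_zero, mul_one])).some
    | succ a ih =>
      intro ha
      have hca := ih (Nat.le_of_succ_le ha)
      obtain ⟨j, hj⟩ := exists_conc A (hNi b (a + 1)) (hnd _ ha)
      suffices e : j = i from e ▸ hj
      by_contra hji
      haveI := hj.1 i fun e => hji e.symm
      have h0 : Growth.hdim k i (N b (a + 1)) = 0 := Module.finrank_zero_of_subsingleton
      have h1 : f a ≤ C * Growth.pw g (b + a) := by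
        refine (hstep b a).trans_eq ?_
        show Growth.hdim k i (N b (a + 1)) + _ = _
        rw [h0, zero_add]
      have h2 : (f a : ℝ) ≤ (C * Growth.pw g (2 * b) : ℝ) := by
        exact_mod_cast h1.trans (Nat.mul_le_mul_left C (Growth.pw_mono g (show b + a ≤ 2 * b by omega)))
      exact absurd (hlarge a (Nat.le_of_succ_le ha) i hca) (not_le.2 (lt_of_le_of_lt h2 hsmall))
  refine hne ((key b le_rfl).unique ((conc_tensorPow_any (L := M) ?_ hi' hb0).congr (PicMul.cl_eq_iff.1 (by
    rw [PicMul.cl_tensorPow, hM, cl_twist2, mul_pow])).some))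
  obtain ⟨P, hP, hPi⟩ := PicMul.isInvertibleCl_mul (⟨L, rfl, hL⟩ : PicF.IsInvertibleCl (PicF.cl L))
    (⟨H, rfl, hH⟩ : PicF.IsInvertibleCl (PicF.cl H))
  exact PicMul.isInvertible_of_iso (PicMul.cl_eq_iff.1 (hP.trans hM.symm)).some hPi

end Groth.Agent.AVEuler

end
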